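import Mathlib

/-!
# Morphisms from a single complex to a K-injective complex in the derived category
-/

set_option autoImplicit false
universe w v u
open CategoryTheory CategoryTheory.Limits CochainComplex HomComplex DerivedCategory Localization

namespace Groth.Agent.H30.KInjCls

variable {C : Type u} [Category.{v} C] [Abelian C] [HasDerivedCategory.{w} C]

instance hasSmall (K L : CochainComplex C ℤ) :
    HasSmallLocalizedShiftedHom.{w} (HomologicalComplex.quasiIso C (.up ℤ)) ℤ K L :=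
  (hasSmallLocalizedShiftedHom_iff _ _ DerivedCategory.Q K L).2 (fun _ _ => inferInstance)

variable (K L : CochainComplex C ℤ) (n : ℤ)

/-- the morphism in the derived category attached to a cocycle. -/
noncomputable def toD (x : Cocycle K L n) : Q.obj K ⟶ (Q.obj L)⟦n⟧ :=
  ShiftedHom.map (Cocycle.equivHomShift.symm x) Q

lemma toD_eq (x : Cocycle K L n) :
    toD K L n x = SmallShiftedHom.equiv _ DerivedCategory.Q
      (CohomologyClass.mk x).toSmallShiftedHom :=
  (CohomologyClass.equiv_toSmallShiftedHom_mk x).symm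

lemma toD_surjective [L.IsKInjective] : Function.Surjective (toD K L n) := by
  intro α
  obtain ⟨β, hβ⟩ := (SmallShiftedHom.equiv.{w} (HomologicalComplex.quasiIso C (.up ℤ))
    DerivedCategory.Q (X := K) (Y := L) (m := n)).surjective α
  obtain ⟨γ, hγ⟩ := (CohomologyClass.bijective_toSmallShiftedHom_of_isKInjective K L n).2 β
  obtain ⟨x, rfl⟩ := γ.mk_surjective
  exact ⟨x, by rw [toD_eq, hγ, hβ]⟩

lemma toD_add (x y : Cocycle K L n) : toD K L n (x + y) = toD K L n x + toD K L n y := by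
  dsimp only [toD]
  rw [map_add, ShiftedHom.map_add]

lemma toD_zero : toD K L n 0 = 0 := by
  dsimp only [toD]
  rw [map_zero, ShiftedHom.map_zero]

/-- `toD` as an additive map. -/
noncomputable def toDHom : Cocycle K L n →+ (Q.obj K ⟶ (Q.obj L)⟦n⟧) where
  toFun := toD K L n
  map_zero' := toD_zero K L n
  map_add' := toD_add K L n

lemma toD_eq_zero_iff [L.IsKInjective] (x : Cocycle K L n) :
    toD K L n x = 0 ↔ x ∈ coboundaries K L n := by
  rw [← CohomologyClass.mk_eq_zero_iff]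
  constructor
  · intro h
    apply (CohomologyClass.bijective_toSmallShiftedHom_of_isKInjective.{w} K L n).1
    apply (SmallShiftedHom.equiv.{w} (HomologicalComplex.quasiIso C (.up ℤ))
      DerivedCategory.Q (X := K) (Y := L) (m := n)).injective
    rw [← toD_eq, h, ← CohomologyClass.mk_zero K L n, ← toD_eq, toD_zero]
  · intro h
    rw [toD_eq, h, ← CohomologyClass.mk_zero K L n, ← toD_eq, toD_zero]

lemma toD_precomp {K' : CochainComplex C ℤ} (g : K' ⟶ K) (x : Cocycle K L n) :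
    toD K' L n (x.precomp g) = Q.map g ≫ toD K L n x := by
  dsimp only [toD, ShiftedHom.map]
  rw [Cocycle.equivHomShift_symm_precomp, Functor.map_comp, Category.assoc]

section single

variable {L} {X : C} {q : ℤ} (q' : ℤ) (hq' : q + 1 = q')

/-- the class in `Hom_D(X[0], L[q])` of a morphism `X ⟶ L^q` killed by the differential. -/
noncomputable def cls (φ : X ⟶ L.X q) (hφ : φ ≫ L.d q q' = 0) :
    Q.obj ((CochainComplex.singleFunctor C 0).obj X) ⟶ (Q.obj L)⟦q⟧ :=
  toD ((CochainComplex.singleFunctor C 0).obj X) L q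
    (Cocycle.fromSingleMk φ (zero_add q) q' hq' hφ)

lemma cls_add (φ ψ : X ⟶ L.X q) (hφ : φ ≫ L.d q q' = 0) (hψ : ψ ≫ L.d q q' = 0) :
    cls q' hq' (φ + ψ) (by rw [CategoryTheory.Preadditive.add_comp, hφ, hψ, add_zero]) =
      cls q' hq' φ hφ + cls q' hq' ψ hψ := by
  dsimp only [cls]
  rw [← toD_add]
  congr 1
  exact Cocycle.fromSingleMk_add _ _ _ _ _ hφ hψ

lemma cls_zero : cls q' hq' (0 : X ⟶ L.X q) (by rw [zero_comp]) = 0 := by
  dsimp only [cls]
  rw [Cocycle.fromSingleMk_zero, toD_zero]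

lemma cls_surjective [L.IsKInjective]
    (α : Q.obj ((CochainComplex.singleFunctor C 0).obj X) ⟶ (Q.obj L)⟦q⟧) :
    ∃ (φ : X ⟶ L.X q) (hφ : φ ≫ L.d q q' = 0), cls q' hq' φ hφ = α := by
  obtain ⟨x, hx⟩ := toD_surjective ((CochainComplex.singleFunctor C 0).obj X) L q α
  obtain ⟨φ, hφ, rfl⟩ := Cocycle.fromSingleMk_surjective x q (zero_add q) q' hq'
  exact ⟨φ, hφ, hx⟩

lemma cls_eq_zero_iff [L.IsKInjective] (φ : X ⟶ L.X q) (hφ : φ ≫ L.d q q' = 0)
    (q'' : ℤ) (hq'' : q'' + 1 = q) :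
    cls q' hq' φ hφ = 0 ↔ ∃ g : X ⟶ L.X q'', g ≫ L.d q'' q = φ := by
  dsimp only [cls]
  rw [toD_eq_zero_iff,
    Cocycle.fromSingleMk_mem_coboundaries_iff φ (zero_add q) q' hq' hφ q'' hq'']

lemma cls_precomp {X' : C} (g : X' ⟶ X) (φ : X ⟶ L.X q) (hφ : φ ≫ L.d q q' = 0) :
    cls q' hq' (g ≫ φ) (by rw [Category.assoc, hφ, comp_zero]) =
      Q.map ((CochainComplex.singleFunctor C 0).map g) ≫ cls q' hq' φ hφ := by
  dsimp only [cls]
  rw [Cocycle.fromSingleMk_precomp g φ (zero_add q) q' hq' hφ, toD_precomp]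

lemma cls_congr {φ ψ : X ⟶ L.X q} (h : φ = ψ) (hφ : φ ≫ L.d q q' = 0)
    (hψ : ψ ≫ L.d q q' = 0) :
    cls q' hq' φ hφ = cls q' hq' ψ hψ := by
  subst h
  rfl

end single

end Groth.Agent.H30.KInjCls
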