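import Groth.Agent.H30.LerayA
import Mathlib.Algebra.Homology.HomotopyCategory.Acyclic
import Mathlib.Algebra.Homology.HomotopyCategory.Plus

/-!
# Leray's acyclicity lemma

Parts of the chain-level arguments (`exact_of_factor`, `kerSC`) are adapted from
`Groth.Agent.H33.Adapted` (helper33).
-/

set_option autoImplicit false
universe w w' v v' u u'
open CategoryTheory Limits Pretriangulated ZeroObject

namespace Groth.Agent.H30.Leray

section General

variable {B : Type u'} [Category.{v'} B] [Abelian B]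

/-- exactness of a composite `X₁ ↠ Z ⟶ X₂ ⟶ Z' ↪ X₃` -/
lemma exact_of_factor {X₁ Z X₂ Z' X₃ : B} (a : X₁ ⟶ Z) (i : Z ⟶ X₂) (p : X₂ ⟶ Z') (j : Z' ⟶ X₃)
    [Epi a] [Mono j] (w : i ≫ p = 0) (h : (ShortComplex.mk i p w).Exact) :
    (ShortComplex.mk (a ≫ i) (p ≫ j) (by rw [Category.assoc, reassoc_of% w, zero_comp,
      comp_zero])).Exact := by
  let S₁ : ShortComplex B := ShortComplex.mk (a ≫ i) p (by rw [Category.assoc, w, comp_zero])
  let φ : S₁ ⟶ ShortComplex.mk i p w :=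
    { τ₁ := a, τ₂ := 𝟙 _, τ₃ := 𝟙 _ }
  have : Epi φ.τ₁ := by dsimp [φ]; infer_instance
  have : IsIso φ.τ₂ := by dsimp [φ]; infer_instance
  have : Mono φ.τ₃ := by dsimp [φ]; infer_instance
  have h₁ : S₁.Exact := (ShortComplex.exact_iff_of_epi_of_isIso_of_mono φ).2 h
  let φ' : S₁ ⟶ ShortComplex.mk (a ≫ i) (p ≫ j) (by rw [Category.assoc, reassoc_of% w,
      zero_comp, comp_zero]) :=
    { τ₁ := 𝟙 _, τ₂ := 𝟙 _, τ₃ := j }
  have : Epi φ'.τ₁ := by dsimp [φ']; infer_instance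
  have : IsIso φ'.τ₂ := by dsimp [φ']; infer_instance
  have : Mono φ'.τ₃ := by dsimp [φ']; infer_instance
  exact (ShortComplex.exact_iff_of_epi_of_isIso_of_mono φ').1 h₁

/-- flexible form of `exact_of_factor` -/
lemma exact_of_factor' {X₁ Z X₂ Z' X₃ : B} (f : X₁ ⟶ X₂) (g : X₂ ⟶ X₃) (w' : f ≫ g = 0)
    (a : X₁ ⟶ Z) (i : Z ⟶ X₂) (p : X₂ ⟶ Z') (j : Z' ⟶ X₃)
    (_ : Epi a) (_ : Mono j) (w : i ≫ p = 0) (h : (ShortComplex.mk i p w).Exact)
    (hf : f = a ≫ i) (hg : g = p ≫ j) :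
    (ShortComplex.mk f g w').Exact := by
  subst hf hg
  exact exact_of_factor a i p j w h

/-- The short complex `ker f ⟶ X ⟶ ker g` attached to `f ≫ g = 0`. -/
noncomputable abbrev kerSC {X Y Z : B} (f : X ⟶ Y) (g : Y ⟶ Z) (w : f ≫ g = 0) : ShortComplex B :=
  ShortComplex.mk (kernel.ι f) (kernel.lift g f w) (by
    rw [← cancel_mono (kernel.ι g)]
    simp)

lemma kerSC_shortExact {X Y Z : B} (f : X ⟶ Y) (g : Y ⟶ Z) (w : f ≫ g = 0)
    (h : (ShortComplex.mk f g w).Exact) : (kerSC f g w).ShortExact := by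
  have : Mono (kerSC f g w).f := by dsimp [kerSC]; infer_instance
  have : Epi (kerSC f g w).g := by
    dsimp [kerSC]
    exact (ShortComplex.exact_iff_epi_kernel_lift _).1 h
  refine ShortComplex.ShortExact.mk' ?_ ‹_› ‹_›
  apply ShortComplex.exact_of_f_is_kernel
  refine KernelFork.IsLimit.ofι' _ _ (fun {W} k hk ↦ ?_)
  dsimp at k hk ⊢
  have hk' : k ≫ f = 0 := by
    have := hk =≫ kernel.ι g
    rw [Category.assoc, kernel.lift_ι, zero_comp] at this
    exact this
  exact ⟨kernel.lift f k hk', kernel.lift_ι _ _ _⟩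

end General

section Exactness

variable {A : Type u} [Category.{v} A] [Abelian A] {B : Type u'} [Category.{v'} B] [Abelian B]
  (F : A ⥤ B) [F.Additive] (I : ObjectProperty A)
  (h2 : ∀ S : ShortComplex A, S.ShortExact → I S.X₁ → I S.X₂ → I S.X₃ ∧ (S.map F).ShortExact)

include h2 in
lemma h2' (S : ShortComplex A) (hS : S.ShortExact) (h₁ : I.isoClosure S.X₁)
    (h₂ : I.isoClosure S.X₂) : I S.X₃ ∧ (S.map F).ShortExact := by
  obtain ⟨Y₁, hY₁, ⟨e₁⟩⟩ := h₁
  obtain ⟨Y₂, hY₂, ⟨e₂⟩⟩ := h₂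
  let S' : ShortComplex A := ShortComplex.mk (e₁.inv ≫ S.f ≫ e₂.hom) (e₂.inv ≫ S.g) (by simp)
  let e : S ≅ S' := ShortComplex.isoMk e₁ e₂ (Iso.refl _) (by simp [S']) (by simp [S'])
  have hS' : S'.ShortExact := ShortComplex.shortExact_of_iso e hS
  obtain ⟨h3, h4⟩ := h2 S' hS' hY₁ hY₂
  exact ⟨h3, ShortComplex.shortExact_of_iso ((F.mapShortComplex.mapIso e).symm) h4⟩

variable (E : CochainComplex A ℤ) (hE : ∀ n, E.ExactAt n) (hI : ∀ n, I (E.X n))
  (h0 : ∃ Z : A, IsZero Z ∧ I Z)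

/-- The short complex `Zⁿ ⟶ Eⁿ ⟶ Zⁿ⁺¹`. -/
noncomputable abbrev T (n : ℤ) : ShortComplex A :=
  kerSC (E.d n (n + 1)) (E.d (n + 1) (n + 1 + 1)) (E.d_comp_d _ _ _)

include hE in
lemma T_shortExact (n : ℤ) : (T E n).ShortExact := by
  apply kerSC_shortExact
  exact (E.exactAt_iff' n (n + 1) (n + 1 + 1) (by simp) (by simp)).1 (hE _)

lemma d_eq (n : ℤ) : E.d n (n + 1) = (T E n).g ≫ (T E (n + 1)).f :=
  (kernel.lift_ι _ _ _).symm

include h2 hE hI h0 in
lemma isoClosure_kernel (a : ℤ) [E.IsStrictlyGE a] (n : ℤ) (hn : a - 1 ≤ n) :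
    I.isoClosure (kernel (E.d n (n + 1))) := by
  induction n, hn using Int.leInduction with
  | base =>
    obtain ⟨Z, hZ, hIZ⟩ := h0
    have hz : IsZero (kernel (E.d (a - 1) (a - 1 + 1))) :=
      IsZero.of_mono (kernel.ι _) (E.isZero_of_isStrictlyGE a (a - 1) (by lia))
    exact ⟨Z, hIZ, ⟨hz.iso hZ⟩⟩
  | succ n hn ih =>
    exact I.le_isoClosure _ (h2' F I h2 (T E n) (T_shortExact E hE n) ih
      (I.le_isoClosure _ (hI n))).1

include h2 hE hI h0 in
lemma map_T_shortExact (a : ℤ) [E.IsStrictlyGE a] (n : ℤ) (hn : a - 1 ≤ n) :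
    ((T E n).map F).ShortExact :=
  (h2' F I h2 (T E n) (T_shortExact E hE n) (isoClosure_kernel F I h2 E hE hI h0 a n hn)
    (I.le_isoClosure _ (hI n))).2

include h2 hE hI h0 in
/-- `F` maps a bounded below exact complex with terms in `I` to an exact complex. -/
theorem exactAt_map (a : ℤ) [E.IsStrictlyGE a] (m : ℤ) :
    ((F.mapHomologicalComplex (ComplexShape.up ℤ)).obj E).ExactAt m := by
  by_cases hm : m < a
  · exact ShortComplex.exact_of_isZero_X₂ _ (F.map_isZero (E.isZero_of_isStrictlyGE a m hm))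
  · obtain ⟨n, rfl⟩ : ∃ n : ℤ, m = n + 1 := ⟨m - 1, by lia⟩
    have hn : a - 1 ≤ n := by lia
    rw [HomologicalComplex.exactAt_iff' _ n (n + 1) (n + 1 + 1) (by simp) (by simp)]
    have h₀ := map_T_shortExact F I h2 E hE hI h0 a n hn
    have h₁ := map_T_shortExact F I h2 E hE hI h0 a (n + 1) (by lia)
    have h₂ := map_T_shortExact F I h2 E hE hI h0 a (n + 1 + 1) (by lia)
    have e1 : Epi (F.map (T E n).g) := h₀.epi_g
    have e2 : Mono (F.map (T E (n + 1 + 1)).f) := h₂.mono_f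
    exact exact_of_factor' _ _ _ (F.map (T E n).g) (F.map (T E (n + 1)).f)
      (F.map (T E (n + 1)).g) (F.map (T E (n + 1 + 1)).f) e1 e2 _ h₁.exact
      (by
        change F.map (E.d n (n + 1)) = _
        rw [d_eq, F.map_comp]
        rfl)
      (by
        change F.map (E.d (n + 1) (n + 1 + 1)) = _
        rw [d_eq, F.map_comp]
        rfl)

end Exactness

section Cone

variable {A : Type u} [Category.{v} A] [Abelian A] {B : Type u'} [Category.{v'} B] [Abelian B]

lemma quasiIso_iff_exactAt_mappingCone {K L : CochainComplex A ℤ} (φ : K ⟶ L) :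
    QuasiIso φ ↔ ∀ n, (CochainComplex.mappingCone φ).ExactAt n := by
  rw [← HomologicalComplex.mem_quasiIso_iff, ← HomotopyCategory.quotient_map_mem_quasiIso_iff,
    HomotopyCategory.quasiIso_eq_trW_subcategoryAcyclic,
    ← HomotopyCategory.quotient_obj_mem_subcategoryAcyclic_iff_exactAt]
  exact (HomotopyCategory.subcategoryAcyclic A).trW_iff_of_distinguished _
    (HomotopyCategory.mappingCone_triangleh_distinguished φ)

variable (F : A ⥤ B) [F.Additive] (I : ObjectProperty A)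
  (h2 : ∀ S : ShortComplex A, S.ShortExact → I S.X₁ → I S.X₂ → I S.X₃ ∧ (S.map F).ShortExact)
  (h0 : ∃ Z : A, IsZero Z ∧ I Z)
  (hbiprod : ∀ X Y : A, I X → I Y → I.isoClosure (X ⊞ Y))

include h2 h0 hbiprod in
/-- `F` preserves quasi-isomorphisms between bounded below complexes with terms in `I`. -/
theorem quasiIso_map {K L : CochainComplex A ℤ} (φ : K ⟶ L) [QuasiIso φ]
    (a b : ℤ) [K.IsStrictlyGE a] [L.IsStrictlyGE b]
    (hK : ∀ n, I (K.X n)) (hL : ∀ n, I (L.X n)) :
    QuasiIso ((F.mapHomologicalComplex (ComplexShape.up ℤ)).map φ) := by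
  rw [quasiIso_iff_exactAt_mappingCone]
  have hE := (quasiIso_iff_exactAt_mappingCone φ).1 inferInstance
  have : (CochainComplex.mappingCone φ).IsStrictlyGE (min (a - 1) b) :=
    CochainComplex.isStrictlyGE_mappingCone φ a b _ (by lia) (by lia)
  have hI : ∀ n, I.isoClosure ((CochainComplex.mappingCone φ).X n) := fun n => by
    obtain ⟨Y, hY, ⟨e⟩⟩ := hbiprod _ _ (hK (n + 1)) (hL n)
    exact ⟨Y, hY, ⟨HomologicalComplex.homotopyCofiber.XIsoBiprod φ n (n + 1) rfl ≪≫ e⟩⟩
  intro n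
  exact (exactAt_map F I.isoClosure (fun S hS h₁ h₂ => by
      obtain ⟨h3, h4⟩ := h2' F I h2 S hS h₁ h₂
      exact ⟨I.le_isoClosure _ h3, h4⟩) (CochainComplex.mappingCone φ) hE hI
    (by obtain ⟨Z, hZ, hIZ⟩ := h0; exact ⟨Z, hZ, I.le_isoClosure _ hIZ⟩)
    (min (a - 1) b) n).of_iso (CochainComplex.mappingCone.mapHomologicalComplexIso φ F)

end Cone

section Final

open DerivedCategory Hyper

variable {A : Type u} [Category.{v} A] [Abelian A] [HasDerivedCategory.{w} A] [EnoughInjectives A]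
  {B : Type u'} [Category.{v'} B] [Abelian B] [HasDerivedCategory.{w'} B]
  (F : A ⥤ B) [F.Additive] [PreservesFiniteLimits F]

/-- A left exact functor preserves quasi-isomorphisms between bounded below complexes of
acyclic objects. -/
theorem quasiIso_map_of_acyclic {K L : CochainComplex.Plus A} (φ : K ⟶ L) [QuasiIso φ.hom]
    (hK : ∀ n, acyclic F (K.obj.X n)) (hL : ∀ n, acyclic F (L.obj.X n)) :
    QuasiIso (F.mapCochainComplexPlus.map φ).hom := by
  obtain ⟨a, ha⟩ := K.property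
  obtain ⟨b, hb⟩ := L.property
  exact quasiIso_map F (acyclic F)
    (fun S hS h₁ h₂ => acyclic_X₃_and_shortExact F hS h₁ h₂)
    ⟨0, isZero_zero A, acyclic_of_isZero F (isZero_zero A)⟩
    (fun X Y hX hY => (acyclic F).le_isoClosure _ (acyclic_biprod F hX hY))
    φ.hom a b hK hL

/-- **Leray's acyclicity lemma**: the unit `Q(F K) ⟶ RF(Q K)` is an isomorphism when `K` is a
bounded below complex of right `F`-acyclic objects. -/
theorem isIso_unitQ_of_acyclic (K : CochainComplex.Plus A)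
    (hK : ∀ n, acyclic F (K.obj.X n)) : IsIso (unitQ F K) := by
  obtain ⟨a, ha⟩ := K.property
  obtain ⟨L, hL, φ, hφ⟩ := CochainComplex.Plus.exists_quasiIso_injective K a
  have : QuasiIso φ.hom := hφ
  have hinj : ∀ n, Injective (((InjectiveObject.ι A).mapCochainComplexPlus.obj L).obj.X n) :=
    fun n => (L.obj.X n).property
  rw [isIso_unitQ_iff F φ]
  exact quasiIso_map_of_acyclic F φ hK (fun n => acyclic_of_injective F _)

/-- Hypercohomology of a bounded below complex of acyclic objects. -/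
noncomputable def ΦQIsoOfAcyclic (K : CochainComplex.Plus A)
    (hK : ∀ n, acyclic F (K.obj.X n)) (n : ℤ) :
    ((Φ F).shift n).obj (Plus.Q.obj K) ≅
      ((F.mapHomologicalComplex (ComplexShape.up ℤ)).obj K.obj).homology n :=
  have := isIso_unitQ_of_acyclic F K hK
  (Plus.homologyFunctor B n).mapIso (asIso (unitQ F K)).symm ≪≫
    homologyQIso (F.mapCochainComplexPlus.obj K) n

end Final

end Groth.Agent.H30.Leray
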