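import Mathlib.CategoryTheory.Abelian.RightDerived
import Mathlib.Algebra.Homology.ShortComplex.ExactFunctor

/-!
# Higher right derived functors of an exact functor vanish
-/

set_option autoImplicit false
universe v v' u u'
open CategoryTheory Limits

namespace Groth.Agent.H30.ExactDerived

variable {C : Type u} [Category.{v} C] [Abelian C] [HasInjectiveResolutions C]
  {D : Type u'} [Category.{v'} D] [Abelian D]
  (F : C ⥤ D) [F.Additive] [PreservesFiniteLimits F] [PreservesFiniteColimits F]

/-- For an exact functor `F`, `R^{n+1}F = 0`. -/
lemma isZero_rightDerived_succ (X : C) (n : ℕ) : IsZero ((F.rightDerived (n + 1)).obj X) := by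
  let I := injectiveResolution X
  refine IsZero.of_iso ?_ (I.isoRightDerivedObj F (n + 1))
  have h := I.cocomplex_exactAt_succ n
  have h' : ((F.mapHomologicalComplex _).obj I.cocomplex).ExactAt (n + 1) := by
    rw [HomologicalComplex.exactAt_iff] at h ⊢
    exact h.map F
  exact h'.isZero_homology

end Groth.Agent.H30.ExactDerived
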