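import Mathlib.Algebra.Homology.DerivedCategory.Ext.ExactSequences
import Mathlib.Algebra.Homology.DerivedCategory.Ext.EnoughInjectives
import Mathlib.CategoryTheory.Abelian.Injective.Basic

/-!
# Vanishing of `Ext` by dimension shifting
-/

set_option autoImplicit false
universe w v u
open CategoryTheory Limits Abelian

namespace Groth.Agent.H30.ExtShift

variable {C : Type u} [Category.{v} C] [Abelian C] [HasExt.{w} C] [EnoughInjectives C]

/-- The short exact sequence `Y ⟶ I ⟶ I/Y` with `I` injective. -/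
noncomputable def underSC (Y : C) : ShortComplex C :=
  ShortComplex.mk (Injective.ι Y) (cokernel.π (Injective.ι Y)) (cokernel.condition _)

omit [HasExt.{w} C] in
lemma underSC_shortExact (Y : C) : (underSC Y).ShortExact where
  exact := ShortComplex.exact_of_g_is_cokernel _ (cokernelIsCokernel _)
  mono_f := by dsimp [underSC]; infer_instance
  epi_g := by dsimp [underSC]; infer_instance

instance (Y : C) : Injective (underSC Y).X₂ := by dsimp [underSC]; infer_instance

/-- Dimension shifting: if `P` is a class of objects such that for every short exact sequence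
`0 ⟶ Y ⟶ I ⟶ Q ⟶ 0` with `P Y` and `I` injective one has `P Q` and `Hom(M, I) ⟶ Hom(M, Q)` is
surjective, then `Ext^n(M, Y) = 0` for `n > 0` and `P Y`. -/
theorem ext_eq_zero_of_adapted (M : C) (P : ObjectProperty C)
    (hP : ∀ S : ShortComplex C, S.ShortExact → P S.X₁ → Injective S.X₂ →
      P S.X₃ ∧ ∀ φ : M ⟶ S.X₃, ∃ ψ : M ⟶ S.X₂, ψ ≫ S.g = φ)
    (n : ℕ) (hn : 0 < n) (Y : C) (hY : P Y) (x : Ext M Y n) : x = 0 := by
  induction n generalizing Y with
  | zero => exact absurd hn (lt_irrefl 0)
  | succ n ih =>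
    have hS := underSC_shortExact Y
    obtain ⟨hQ, hsurj⟩ := hP (underSC Y) hS hY inferInstance
    have hx : x.comp (Ext.mk₀ (underSC Y).f) (add_zero (n + 1)) = 0 :=
      Ext.eq_zero_of_injective _
    obtain ⟨x₃, rfl⟩ := Ext.covariant_sequence_exact₁ M hS x hx rfl
    rcases Nat.eq_zero_or_pos n with rfl | hn'
    · obtain ⟨φ, rfl⟩ := (Ext.mk₀_bijective M (underSC Y).X₃).2 x₃
      obtain ⟨ψ, rfl⟩ := hsurj φ
      rw [← Ext.mk₀_comp_mk₀, Ext.comp_assoc_of_second_deg_zero,
        ShortComplex.ShortExact.comp_extClass, Ext.comp_zero]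
      rfl
    · rw [ih hn' _ hQ x₃, Ext.zero_comp]
      rfl

end Groth.Agent.H30.ExtShift
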