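import Groth.Agent.H30.LerayA
import Groth.Agent.H30.ExtShift

/-!
# Acyclicity for a left exact functor via an adapted class of objects
-/

set_option autoImplicit false
set_option linter.unusedSectionVars false
universe w w' v v' u u'
open CategoryTheory Limits

namespace Groth.Agent.H30.Adapted

open DerivedCategory Hyper Leray ExtShift

variable {A : Type u} [Category.{v} A] [Abelian A] [HasDerivedCategory.{w} A] [EnoughInjectives A]
  {B : Type u'} [Category.{v'} B] [Abelian B] [HasDerivedCategory.{w'} B]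
  (F : A ⥤ B) [F.Additive] [PreservesFiniteLimits F]

/-- If `F(g)` is an epimorphism then so is `Φ₀(sgl g)`. -/
lemma epi_Φ_map_sgl_of_epi {X Y : A} (g : X ⟶ Y) (hg : Epi (F.map g)) :
    Epi (((Φ F).shift (0 : ℤ)).map (Plus.Q.map (sglMap g))) := by
  have nat := Θ_naturality F (sglMap g) 0
  have i2 := isIso_Θ_sgl F X
  have i3 := isIso_Θ_sgl F Y
  have e4 : HomologicalComplex.homologyMap (F.mapCochainComplexPlus.map (sglMap g)).hom 0 =
      (ν F X).hom ≫ F.map g ≫ (ν F Y).inv := by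
    rw [← Category.assoc, ← ν_hom_naturality, Category.assoc, Iso.hom_inv_id, Category.comp_id]
  have e3 : Epi (HomologicalComplex.homologyMap
      (F.mapCochainComplexPlus.map (sglMap g)).hom 0) := by
    rw [e4]; infer_instance
  have e2 : Epi (Θ F (sgl X) 0 ≫ ((Φ F).shift (0 : ℤ)).map (Plus.Q.map (sglMap g))) := by
    rw [← nat]; infer_instance
  have : ((Φ F).shift (0 : ℤ)).map (Plus.Q.map (sglMap g)) =
      inv (Θ F (sgl X) 0) ≫ (Θ F (sgl X) 0 ≫ ((Φ F).shift (0 : ℤ)).map (Plus.Q.map (sglMap g))) := by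
    simp
  rw [this]; infer_instance

/-- Acyclicity from an adapted class. -/
theorem acyclic_of_adapted (P : ObjectProperty A)
    (hP : ∀ S : ShortComplex A, S.ShortExact → P S.X₁ → Injective S.X₂ →
      P S.X₃ ∧ Epi (F.map S.g))
    (X : A) (hX : P X) : acyclic F X := by
  have key : ∀ (i : ℕ) (X : A), P X →
      IsZero (((Φ F).shift ((i + 1 : ℕ) : ℤ)).obj (Plus.Q.obj (sgl X))) := by
    intro i
    induction i with
    | zero =>
      intro X hX
      have hS := underSC_shortExact X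
      obtain ⟨hQ, hepi⟩ := hP (underSC X) hS hX inferInstance
      have hn : (0 : ℤ) + 1 = ((0 + 1 : ℕ) : ℤ) := by simp
      have ex1 := Φ_exact₁ F hS 0 ((0 + 1 : ℕ) : ℤ) hn
      have hI : IsZero (((Φ F).shift ((0 + 1 : ℕ) : ℤ)).obj (Plus.Q.obj (sgl (underSC X).X₂))) :=
        (acyclic_of_injective F (underSC X).X₂).isZero_Φ _ (0 + 1) (by lia)
      have e1 : Epi ((Φ F).homologySequenceδ (sglTriangle hS) 0 ((0 + 1 : ℕ) : ℤ) hn) :=
        ex1.epi_f (hI.eq_of_tgt _ _)
      have e0 := epi_Φ_map_sgl_of_epi F (underSC X).g hepi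
      have hδ : (Φ F).homologySequenceδ (sglTriangle hS) 0 ((0 + 1 : ℕ) : ℤ) hn = 0 := by
        have z := (Φ F).comp_homologySequenceδ _ (sglTriangle_distinguished hS) 0 _ hn
        exact (cancel_epi (((Φ F).shift (0 : ℤ)).map (Plus.Q.map (sglMap (underSC X).g)))).1
          (z.trans comp_zero.symm)
      exact @IsZero.of_epi_eq_zero _ _ _ _ _ _ e1 hδ
    | succ i ih =>
      intro X hX
      have hS := underSC_shortExact X
      obtain ⟨hQ, -⟩ := hP (underSC X) hS hX inferInstance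
      have hn : ((i + 1 : ℕ) : ℤ) + 1 = ((i + 1 + 1 : ℕ) : ℤ) := by push_cast; ring
      have ex1 := Φ_exact₁ F hS ((i + 1 : ℕ) : ℤ) ((i + 1 + 1 : ℕ) : ℤ) hn
      have hI : IsZero (((Φ F).shift ((i + 1 + 1 : ℕ) : ℤ)).obj
          (Plus.Q.obj (sgl (underSC X).X₂))) :=
        (acyclic_of_injective F (underSC X).X₂).isZero_Φ _ (i + 1 + 1) (by lia)
      have e1 : Epi ((Φ F).homologySequenceδ (sglTriangle hS) ((i + 1 : ℕ) : ℤ)
          ((i + 1 + 1 : ℕ) : ℤ) hn) := ex1.epi_f (hI.eq_of_tgt _ _)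
      exact @IsZero.of_epi_eq_zero _ _ _ _ _ _ e1 ((ih _ hQ).eq_of_src _ _)
  intro i hi
  obtain ⟨j, rfl⟩ : ∃ j, i = j + 1 := ⟨i - 1, by lia⟩
  exact (key j X hX).of_iso (ΦsglIsoRightDerived F X (j + 1) _ rfl).symm

end Groth.Agent.H30.Adapted
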