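import Groth.Agent.H30.Flasque
import Groth.Agent.H30.ExtShift
import Groth.Agent.H30.Adapted

/-!
# Flasque abelian sheaves are acyclic
-/

set_option autoImplicit false
universe u
open CategoryTheory Limits TopologicalSpace Opposite Abelian

namespace Groth.Agent.H30.FlasqueAcyclic

open Groth.Agent.H30.Flasque Groth.Agent.H30.ExtShift

variable {X : TopCat.{u}}

/-- The class of flasque abelian sheaves. -/
def flasque : ObjectProperty (CohTop.Ab X) := fun F => TopCat.Sheaf.IsFlasque F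

lemma flasque_X₃ (S : ShortComplex (CohTop.Ab X)) (hS : S.ShortExact) (h₁ : flasque S.X₁)
    (h₂ : Injective S.X₂) : flasque S.X₃ := by
  have : TopCat.Sheaf.IsFlasque S.X₁ := h₁
  have : TopCat.Sheaf.IsFlasque S.X₂ := isFlasque_of_injective S.X₂
  exact TopCat.Sheaf.IsFlasque.of_shortExact_of_isFlasque₁₂ (S := S) hS

lemma surjective_g (S : ShortComplex (CohTop.Ab X)) (hS : S.ShortExact) (h₁ : flasque S.X₁)
    (U : Opens X) : Function.Surjective (S.g.hom.app (op U)).hom := by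
  have : TopCat.Sheaf.IsFlasque S.X₁ := h₁
  have := TopCat.Sheaf.IsFlasque.epi_of_shortExact (S := S) (U := U) hS
  exact (AddCommGrpCat.epi_iff_surjective _).1 this

lemma evalGen_comp {F G : CohTop.Ab X} (U : Opens X)
    (φ : CohCx.freeSheaf (Opens.grothendieckTopology X) U ⟶ F) (g : F ⟶ G) :
    CohFree.evalGen _ U G (φ ≫ g) = (g.hom.app (op U)).hom (CohFree.evalGen _ U F φ) := rfl

lemma evalGen_injective (F : CohTop.Ab X) (U : Opens X) :
    Function.Injective (CohFree.evalGen (Opens.grothendieckTopology X) U F) :=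
  (CohFree.homEquivSect (Opens.grothendieckTopology X) U F).injective

/-- lifting maps out of `ℤ_U` -/
lemma lift_freeSheaf (S : ShortComplex (CohTop.Ab X)) (hS : S.ShortExact) (h₁ : flasque S.X₁)
    (U : Opens X) (φ : CohCx.freeSheaf (Opens.grothendieckTopology X) U ⟶ S.X₃) :
    ∃ ψ : CohCx.freeSheaf (Opens.grothendieckTopology X) U ⟶ S.X₂, ψ ≫ S.g = φ := by
  obtain ⟨t, ht⟩ := surjective_g S hS h₁ U (CohFree.evalGen _ U _ φ)
  refine ⟨CohFree.ofSect _ U _ t, ?_⟩
  apply evalGen_injective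
  rw [evalGen_comp, CohFree.evalGen_ofSect, ht]

/-- lifting maps out of `ℤ_V/ℤ_W` -/
lemma lift_zq (S : ShortComplex (CohTop.Ab X)) (hS : S.ShortExact) (h₁ : flasque S.X₁)
    {W V : Opens X} (h : W ≤ V) (φ : LocCohZ.zq h ⟶ S.X₃) :
    ∃ ψ : LocCohZ.zq h ⟶ S.X₂, ψ ≫ S.g = φ := by
  let J := Opens.grothendieckTopology X
  have : TopCat.Sheaf.IsFlasque S.X₁ := h₁
  let π := cokernel.π (CohCx.freeSheafMap J (homOfLE h))
  obtain ⟨t, ht⟩ := surjective_g S hS h₁ V (CohFree.evalGen J V _ (π ≫ φ))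
  -- restriction of `t` to `W` maps to zero
  have hs0 : (S.X₃.obj.map (homOfLE h).op).hom (CohFree.evalGen J V _ (π ≫ φ)) = 0 := by
    rw [← CohFree.evalGen_freeSheafMap_comp, cokernel.condition_assoc, zero_comp, map_zero]
  have htW : (S.g.hom.app (op W)).hom ((S.X₂.obj.map (homOfLE h).op).hom t) = 0 := by
    have := ConcreteCategory.congr_hom (S.g.hom.naturality (homOfLE h).op) t
    refine Eq.trans (Eq.trans rfl this) ?_
    change (S.X₃.obj.map (homOfLE h).op).hom ((S.g.hom.app (op V)).hom t) = 0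
    rw [ht, hs0]
  obtain ⟨r, hr⟩ := TopCat.Sheaf.sections_exact_of_left_exact (S := S) hS.1 hS.2 _ htW
  obtain ⟨r', hr'⟩ := (AddCommGrpCat.epi_iff_surjective (S.X₁.obj.map (homOfLE h).op)).1
    (TopCat.Presheaf.IsFlasque.epi _) r
  let t' := t - (S.f.hom.app (op V)).hom r'
  have hzero : (S.f.hom.app (op V) ≫ S.g.hom.app (op V)) = 0 := by
    rw [← NatTrans.comp_app, ← ObjectProperty.FullSubcategory.comp_hom, S.zero]
    rfl
  have ht' : (S.g.hom.app (op V)).hom t' = CohFree.evalGen J V _ (π ≫ φ) := by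
    have : (S.g.hom.app (op V)).hom ((S.f.hom.app (op V)).hom r') = 0 :=
      ConcreteCategory.congr_hom hzero r'
    simp only [t', map_sub, this, sub_zero, ht]
  have ht'W : (S.X₂.obj.map (homOfLE h).op).hom t' = 0 := by
    have nat := ConcreteCategory.congr_hom (S.f.hom.naturality (homOfLE h).op) r'
    have : (S.X₂.obj.map (homOfLE h).op).hom ((S.f.hom.app (op V)).hom r') =
        (S.f.hom.app (op W)).hom r := by
      refine Eq.trans (Eq.trans rfl nat.symm) ?_
      change (S.f.hom.app (op W)).hom ((S.X₁.obj.map (homOfLE h).op).hom r') = _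
      rw [hr']
    simp only [t', map_sub, this]
    rw [sub_eq_zero]
    exact hr.symm
  have hw : CohCx.freeSheafMap J (homOfLE h) ≫ CohFree.ofSect J V _ t' = 0 := by
    apply evalGen_injective
    rw [CohFree.evalGen_freeSheafMap_comp, CohFree.evalGen_ofSect, ht'W, map_zero]
  refine ⟨cokernel.desc _ (CohFree.ofSect J V _ t') hw, ?_⟩
  rw [← cancel_epi π]
  change cokernel.π _ ≫ cokernel.desc _ _ _ ≫ S.g = _
  rw [cokernel.π_desc_assoc]
  apply evalGen_injective
  rw [evalGen_comp, CohFree.evalGen_ofSect, ht']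

/-- lifting maps out of the constant sheaf `ℤ` -/
lemma lift_const (S : ShortComplex (CohTop.Ab X)) (hS : S.ShortExact) (h₁ : flasque S.X₁)
    (φ : (constantSheaf (Opens.grothendieckTopology X) AddCommGrpCat.{u}).obj
      (AddCommGrpCat.of (ULift ℤ)) ⟶ S.X₃) :
    ∃ ψ : (constantSheaf (Opens.grothendieckTopology X) AddCommGrpCat.{u}).obj
      (AddCommGrpCat.of (ULift ℤ)) ⟶ S.X₂, ψ ≫ S.g = φ := by
  have hT : IsTerminal (⊤ : Opens X) := isTerminalTop
  let x : Sheaf.H S.X₃ 0 := Ext.addEquiv₀.symm φ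
  obtain ⟨t, ht⟩ := surjective_g S hS h₁ ⊤ (Sheaf.H.equiv₀ S.X₃ hT x)
  refine ⟨Ext.addEquiv₀ ((Sheaf.H.equiv₀ S.X₂ hT).symm t), ?_⟩
  rw [← Sheaf.H.addEquiv₀_map, Sheaf.H.equiv₀_symm_naturality]
  have : (S.g.hom.app (op ⊤)) t = Sheaf.H.equiv₀ S.X₃ hT x := ht
  rw [this, AddEquiv.symm_apply_apply, AddEquiv.apply_symm_apply]

/-- The adapted-class hypothesis for `Ext(M, -)`, given a lifting property for `M`. -/
lemma adapted_ext (M : CohTop.Ab X)
    (hM : ∀ (S : ShortComplex (CohTop.Ab X)), S.ShortExact → flasque S.X₁ →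
      ∀ φ : M ⟶ S.X₃, ∃ ψ : M ⟶ S.X₂, ψ ≫ S.g = φ)
    (F : CohTop.Ab X) (hF : flasque F) (n : ℕ) (hn : 0 < n) :
    Subsingleton (Ext.{u} M F n) :=
  subsingleton_of_forall_eq 0 fun x =>
    ext_eq_zero_of_adapted M flasque
      (fun S hS h₁ h₂ => ⟨flasque_X₃ S hS h₁ h₂, hM S hS h₁⟩) n hn F hF x

theorem subsingleton_HU (F : CohTop.Ab X) [TopCat.Sheaf.IsFlasque F] (U : Opens X) (n : ℕ) :
    Subsingleton (CohTop.HU F (n + 1) U) :=
  adapted_ext _ (fun S hS h₁ φ => lift_freeSheaf S hS h₁ U φ) F ‹_› (n + 1) (by lia)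

theorem subsingleton_H (F : CohTop.Ab X) [TopCat.Sheaf.IsFlasque F] (n : ℕ) :
    Subsingleton (CohTop.H F (n + 1)) :=
  adapted_ext _ (fun S hS h₁ φ => lift_const S hS h₁ φ) F ‹_› (n + 1) (by lia)

theorem subsingleton_HZ (F : CohTop.Ab X) [TopCat.Sheaf.IsFlasque F] {W V : Opens X} (h : W ≤ V)
    (i : ℕ) (hi : 0 < i) : Subsingleton (LocCohZ.HZ F i h) :=
  adapted_ext _ (fun S hS h₁ φ => lift_zq S hS h₁ h φ) F ‹_› i hi

end Groth.Agent.H30.FlasqueAcyclic
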