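import Mathlib.Algebra.Homology.ShortComplex.ExactFunctor
import Mathlib.CategoryTheory.Abelian.Basic

/-!
# The kernel of a natural transformation from a left exact functor to a mono-preserving functor
is left exact
-/

set_option autoImplicit false
universe v v' u u'
open CategoryTheory Limits

namespace Groth.Agent.H30.KerFunctor

variable {A : Type u} [Category.{v} A] [Abelian A] {B : Type u'} [Category.{v'} B] [Abelian B]
  (K F₁ F₂ : A ⥤ B) [K.Additive] [F₁.Additive] [PreservesFiniteLimits F₁]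
  [F₂.PreservesMonomorphisms]
  (κ : K ⟶ F₁) (η : F₁ ⟶ F₂) (w : ∀ X, κ.app X ≫ η.app X = 0)
  (hκ : ∀ X, IsLimit (KernelFork.ofι (κ.app X) (w X)))

include hκ in
omit [K.Additive] in
lemma exists_lift (S : ShortComplex A) (hS : S.ShortExact) {T : B} (t : T ⟶ K.obj S.X₂)
    (ht : t ≫ K.map S.g = 0) : ∃ l : T ⟶ K.obj S.X₁, l ≫ K.map S.f = t := by
  have hmono : ∀ X, Mono (κ.app X) := fun X => mono_of_isLimit_fork (hκ X)
  have := hS.mono_f
  have h1 : (t ≫ κ.app S.X₂) ≫ F₁.map S.g = 0 := by
    rw [Category.assoc, ← κ.naturality, reassoc_of% ht, zero_comp]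
  -- `F₁ f` is a kernel of `F₁ g`
  have hF₁ : IsLimit (KernelFork.ofι (F₁.map S.f) (by rw [← F₁.map_comp, S.zero, F₁.map_zero]) :
      KernelFork (F₁.map S.g)) := by
    have h := (Functor.preservesFiniteLimits_iff_forall_exact_map_and_mono F₁).1
      ‹PreservesFiniteLimits F₁› S hS
    have hm₁ : Mono (S.map F₁).f := h.2
    exact h.1.fIsKernel
  obtain ⟨a, ha⟩ := KernelFork.IsLimit.lift' hF₁ (t ≫ κ.app S.X₂) h1
  have ha' : a ≫ F₁.map S.f = t ≫ κ.app S.X₂ := ha
  have h2 : a ≫ η.app S.X₁ = 0 := by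
    have : Mono (F₂.map S.f) := inferInstance
    rw [← cancel_mono (F₂.map S.f), Category.assoc, ← η.naturality, reassoc_of% ha',
      w, comp_zero, zero_comp]
  obtain ⟨l, hl⟩ := KernelFork.IsLimit.lift' (hκ S.X₁) a h2
  have hl' : l ≫ κ.app S.X₁ = a := hl
  refine ⟨l, ?_⟩
  rw [← cancel_mono (κ.app S.X₂), Category.assoc, κ.naturality, reassoc_of% hl', ha']

include hκ in
/-- A functor which is pointwise the kernel of a natural transformation `F₁ ⟶ F₂`, with `F₁` left
exact and `F₂` preserving monomorphisms, is left exact. -/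
theorem preservesFiniteLimits_of_isKernel : PreservesFiniteLimits K := by
  have hmono : ∀ X, Mono (κ.app X) := fun X => mono_of_isLimit_fork (hκ X)
  refine ((Functor.preservesFiniteLimits_tfae K).out 0 3).1 (fun S hS => ?_)
  have := hS.mono_f
  have hm : Mono (K.map S.f) := by
    have : Mono (K.map S.f ≫ κ.app S.X₂) := by
      rw [κ.naturality]
      infer_instance
    exact mono_of_mono (K.map S.f) (κ.app S.X₂)
  refine ⟨?_, hm⟩
  have hm' : Mono (S.map K).f := hm
  refine ShortComplex.exact_of_f_is_kernel _ (KernelFork.IsLimit.ofι' _ _ (fun {T} t ht => ?_))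
  exact ⟨(exists_lift K F₁ F₂ κ η w hκ S hS t ht).choose,
    (exists_lift K F₁ F₂ κ η w hκ S hS t ht).choose_spec⟩

end Groth.Agent.H30.KerFunctor
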