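import Groth.Agent.H30.SectSupp
import Groth.Agent.H30.KerFunctor
import Groth.Agent.H30.FlasqueAcyclic

set_option autoImplicit false
universe u
open CategoryTheory Limits TopologicalSpace Opposite

namespace Groth.Agent.H30.SectSupp

open Groth.Agent.H30.FlasqueAcyclic

variable {X : TopCat.{u}} (U : Opens X)

set_option synthInstance.maxHeartbeats 400000 in
noncomputable instance preservesFiniteLimits_pull {X Y : TopCat.{u}} (f : X ⟶ Y) :
    PreservesFiniteLimits (CohTop.pull f) := by
  change PreservesFiniteLimits ((Opens.map f).sheafPullback AddCommGrpCat.{u} _ _)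
  exact Functor.SmallCategories.instPreservesFiniteLimitsSheafSheafPullbackOfRepresentablyFlat _ _ _ _

instance : (CohTop.push (CohCx.incl U)).IsRightAdjoint :=
  (TopCat.Sheaf.pullbackPushforwardAdjunction AddCommGrpCat.{u} (CohCx.incl U)).isRightAdjoint

/-- the natural transformation `Γ_Z ⟶ 𝟭`. -/
noncomputable def κ : LocCohZ.sectSuppF U ⟶ 𝟭 (CohTop.Ab X) where
  app F := k U F
  naturality _ _ _ := kernel.lift_ι _ _ _

instance : (CohTop.pull (CohCx.incl U) ⋙ CohTop.push (CohCx.incl U)).PreservesMonomorphisms := by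
  have h00 : PreservesFiniteLimits (CohTop.pull (CohCx.incl U)) := preservesFiniteLimits_pull _
  have h0 : PreservesLimitsOfShape WalkingCospan (CohTop.pull (CohCx.incl U)) :=
    PreservesFiniteLimits.preservesFiniteLimits _
  have h1 : (CohTop.pull (CohCx.incl U)).PreservesMonomorphisms :=
    preservesMonomorphisms_of_preservesLimitsOfShape _
  have h2 : (CohTop.push (CohCx.incl U)).PreservesMonomorphisms :=
    preservesMonomorphisms_of_preservesLimitsOfShape _
  infer_instance

instance : PreservesFiniteLimits (LocCohZ.sectSuppF U) :=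
  KerFunctor.preservesFiniteLimits_of_isKernel (LocCohZ.sectSuppF U) (𝟭 (CohTop.Ab X))
    (CohTop.pull (CohCx.incl U) ⋙ CohTop.push (CohCx.incl U)) (κ U)
    (TopCat.Sheaf.pullbackPushforwardAdjunction AddCommGrpCat.{u} (CohCx.incl U)).unit
    (fun _ => kernel.condition _) (fun _ => kernelIsKernel _)

lemma sectSuppF_map_k {F F' : CohTop.Ab X} (g : F ⟶ F') :
    (LocCohZ.sectSuppF U).map g ≫ k U F' = k U F ≫ g := kernel.lift_ι _ _ _

/-- `Γ_Z(g)` is an epimorphism for a short exact sequence with flasque kernel. -/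
lemma epi_sectSuppF_map_g (S : ShortComplex (CohTop.Ab X)) (hS : S.ShortExact)
    (h₁ : flasque S.X₁) : Epi ((LocCohZ.sectSuppF U).map S.g) := by
  have : TopCat.Sheaf.IsFlasque S.X₁ := h₁
  have : Sheaf.IsLocallySurjective ((LocCohZ.sectSuppF U).map S.g) := by
    apply Presheaf.isLocallySurjective_of_surjective
    rintro ⟨W⟩ (s₃' : (CohCx.sectSupp U S.X₃).obj.obj (op W))
    have hmap : ∀ (F : CohTop.Ab X) {A B : Opens X} (i i' : A ⟶ B) (x : F.obj.obj (op B)),
        (F.obj.map i.op).hom x = (F.obj.map i'.op).hom x := fun F _ _ i i' x => by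
      rw [Subsingleton.elim i i']
    let s₃ := ((k U S.X₃).hom.app (op W)).hom s₃'
    have hs₃ : (S.X₃.obj.map (homOfLE (cap_le U W)).op).hom s₃ = 0 :=
      (η_eq_zero_iff U S.X₃ W s₃).1 (η_k U S.X₃ W s₃')
    obtain ⟨s₂, hs₂⟩ := surjective_g S hS h₁ W s₃
    have hres : (S.g.hom.app (op (cap U W))).hom
        ((S.X₂.obj.map (homOfLE (cap_le U W)).op).hom s₂) = 0 := by
      have := ConcreteCategory.congr_hom (S.g.hom.naturality (homOfLE (cap_le U W)).op) s₂
      refine Eq.trans (Eq.trans rfl this) ?_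
      change (S.X₃.obj.map (homOfLE (cap_le U W)).op).hom ((S.g.hom.app (op W)).hom s₂) = 0
      rw [hs₂, hs₃]
    obtain ⟨r, hr⟩ := TopCat.Sheaf.sections_exact_of_left_exact (S := S) hS.1 hS.2 _ hres
    obtain ⟨r', hr'⟩ := (AddCommGrpCat.epi_iff_surjective
      (S.X₁.obj.map (homOfLE (cap_le U W)).op)).1 (TopCat.Presheaf.IsFlasque.epi _) r
    let t := s₂ - (S.f.hom.app (op W)).hom r'
    have hzero : (S.f.hom.app (op W) ≫ S.g.hom.app (op W)) = 0 := by
      rw [← NatTrans.comp_app, ← ObjectProperty.FullSubcategory.comp_hom, S.zero]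
      rfl
    have ht : (S.g.hom.app (op W)).hom t = s₃ := by
      have : (S.g.hom.app (op W)).hom ((S.f.hom.app (op W)).hom r') = 0 :=
        ConcreteCategory.congr_hom hzero r'
      simp only [t, map_sub, this, sub_zero, hs₂]
    have htW : (S.X₂.obj.map (homOfLE (cap_le U W)).op).hom t = 0 := by
      have nat := ConcreteCategory.congr_hom (S.f.hom.naturality (homOfLE (cap_le U W)).op) r'
      have : (S.X₂.obj.map (homOfLE (cap_le U W)).op).hom ((S.f.hom.app (op W)).hom r') =
          (S.f.hom.app (op (cap U W))).hom r := by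
        refine Eq.trans (Eq.trans rfl nat.symm) ?_
        change (S.f.hom.app (op (cap U W))).hom
          ((S.X₁.obj.map (homOfLE (cap_le U W)).op).hom r') = _
        rw [hr']
      simp only [t, map_sub, this]
      rw [sub_eq_zero]
      exact hr.symm
    obtain ⟨t', ht'⟩ := exists_k_eq U S.X₂ W t ((η_eq_zero_iff U S.X₂ W t).2 htW)
    refine ⟨t', ?_⟩
    apply k_injective U S.X₃ W
    have nat := ConcreteCategory.congr_hom
      (congrArg (fun φ => φ.hom.app (op W)) (sectSuppF_map_k U S.g)) t'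
    refine Eq.trans (Eq.trans rfl nat) ?_
    change (S.g.hom.app (op W)).hom (((k U S.X₂).hom.app (op W)).hom t') = s₃
    rw [ht', ht]
  infer_instance

/-- `ℋ^i_Z(F) = 0` for `F` flasque and `i > 0`. -/
theorem acyclic_sectSuppF (F : CohTop.Ab X) [TopCat.Sheaf.IsFlasque F] :
    Leray.acyclic (LocCohZ.sectSuppF U) F :=
  haveI : HasDerivedCategory.{u + 1} (CohTop.Ab X) := HasDerivedCategory.standard _
  Adapted.acyclic_of_adapted (LocCohZ.sectSuppF U) flasque
    (fun S hS h₁ h₂ => ⟨flasque_X₃ S hS h₁ h₂, epi_sectSuppF_map_g U S hS h₁⟩) F ‹_›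

end Groth.Agent.H30.SectSupp
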