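import Groth.Agent.H30.ConstPush
import Groth.Agent.H30.SectSuppExact
import Groth.Agent.H30.ExactDerived

/-!
# Restriction of abelian sheaves to an open subspace, and `H^n(U, F) ≅ H^n(U, F|_U)`
-/

set_option autoImplicit false
universe u
open CategoryTheory Limits TopologicalSpace Opposite

namespace Groth.Agent.H30.RestrOpen

open Groth.Agent.H30.FlasqueAcyclic Groth.Agent.H30.SectSupp Leray

variable {X : TopCat.{u}} (U : Opens X)

/-- Restriction to an open subspace is the inverse image along the inclusion. -/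
noncomputable def restrIso : CohTop.restrFunctor U ≅ CohTop.pull (CohCx.incl U) :=
  (Topology.IsOpenEmbedding.sheafPullbackIso AddCommGrpCat.{u} (hj U)).symm

noncomputable instance : PreservesFiniteLimits (CohTop.restrFunctor U) := by
  have : PreservesFiniteLimits (CohTop.pull (CohCx.incl U)) :=
    SectSupp.preservesFiniteLimits_pull _
  exact preservesFiniteLimits_of_natIso (restrIso U).symm

noncomputable instance : PreservesFiniteColimits (CohTop.restrFunctor U) := by
  have h0 : (CohTop.pull (CohCx.incl U)).IsLeftAdjoint :=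
    (TopCat.Sheaf.pullbackPushforwardAdjunction AddCommGrpCat.{u} (CohCx.incl U)).isLeftAdjoint
  have : PreservesFiniteColimits (CohTop.pull (CohCx.incl U)) :=
    ⟨fun _ _ _ => inferInstance⟩
  exact preservesFiniteColimits_of_natIso (restrIso U).symm

instance (Q : CohTop.Ab X) [TopCat.Sheaf.IsFlasque Q] :
    TopCat.Sheaf.IsFlasque ((CohTop.restrFunctor U).obj Q) where
  epi {_ _} i := TopCat.Presheaf.IsFlasque.epi (F := Q.obj) ((hj U).isOpenMap.functor.map i.unop).op

section Equivs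

variable {Y : TopCat.{u}}

/-- `Hom(ℤ_Y, G) ≃ Γ(Y, G)`. -/
noncomputable def constEquiv (G : CohTop.Ab Y) : (ConstPush.cZ Y ⟶ G) ≃+ G.obj.obj (op ⊤) :=
  AddEquiv.trans ((constantSheafAdj (Opens.grothendieckTopology Y) AddCommGrpCat.{u}
    (isTerminalTop : IsTerminal (⊤ : Opens Y))).homAddEquiv _ G)
    (AddCommGrpCat.uliftZMultiplesAddEquiv _)

lemma constEquiv_comp {G G' : CohTop.Ab Y} (φ : ConstPush.cZ Y ⟶ G) (ψ : G ⟶ G') :
    constEquiv G' (φ ≫ ψ) = (ψ.hom.app (op ⊤)).hom (constEquiv G φ) := by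
  dsimp only [constEquiv, AddEquiv.trans_apply]
  rw [Adjunction.homAddEquiv_apply, Adjunction.homAddEquiv_apply,
    Adjunction.homEquiv_naturality_right]
  rfl

/-- `Hom(ℤ_V, F) ≃ F(V)`. -/
noncomputable def evalGenEquiv (V : Opens X) (F : CohTop.Ab X) :
    (CohCx.freeSheaf (Opens.grothendieckTopology X) V ⟶ F) ≃+ F.obj.obj (op V) where
  toFun := CohFree.evalGen _ V F
  invFun := CohFree.ofSect _ V F
  left_inv φ := CohFree.ofSect_evalGen _ V F φ
  right_inv s := CohFree.evalGen_ofSect _ V F s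
  map_add' := map_add _

end Equivs

lemma functor_top : (hj U).isOpenMap.functor.obj ⊤ = U := by
  ext x
  constructor
  · rintro ⟨y, _, rfl⟩
    exact y.2
  · intro hx
    exact ⟨⟨x, hx⟩, trivial, rfl⟩

/-- `Γ(U, F|_U) ≃ F(U)`. -/
noncomputable def topEquiv (F : CohTop.Ab X) :
    ((CohTop.restrFunctor U).obj F).obj.obj (op ⊤) ≃+ F.obj.obj (op U) :=
  (F.obj.mapIso (eqToIso (functor_top U).symm).op).addCommGroupIsoToAddEquiv

lemma topEquiv_naturality {F F' : CohTop.Ab X} (g : F ⟶ F')
    (s : ((CohTop.restrFunctor U).obj F).obj.obj (op ⊤)) :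
    topEquiv U F' ((((CohTop.restrFunctor U).map g).hom.app (op ⊤)).hom s) =
      (g.hom.app (op U)).hom (topEquiv U F s) :=
  (ConcreteCategory.congr_hom (g.hom.naturality (eqToHom (functor_top U).symm).op) s).symm

/-- `Hom(ℤ_U, F|_U) ≃ Hom(ℤ_U^X, F)`. -/
noncomputable def ρEquiv (F : CohTop.Ab X) :
    (ConstPush.cZ (TopCat.of U) ⟶ (CohTop.restrFunctor U).obj F) ≃+
      (CohCx.freeSheaf (Opens.grothendieckTopology X) U ⟶ F) :=
  ((constEquiv ((CohTop.restrFunctor U).obj F)).trans (topEquiv U F)).trans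
    (evalGenEquiv U F).symm

/-- The natural isomorphism `(-)|_U ⋙ Hom(ℤ_U, -) ≅ Hom(ℤ_U^X, -)`. -/
noncomputable def ρ :
    CohTop.restrFunctor U ⋙ preadditiveCoyoneda.obj (op (ConstPush.cZ (TopCat.of U))) ≅
      preadditiveCoyoneda.obj (op (CohCx.freeSheaf (Opens.grothendieckTopology X) U)) :=
  NatIso.ofComponents (fun F => (ρEquiv U F).toAddCommGrpIso) (by
    intro F F' g
    ext φ
    apply (evalGenEquiv U F').injective
    change evalGenEquiv U F' (ρEquiv U F' (φ ≫ (CohTop.restrFunctor U).map g)) =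
      CohFree.evalGen _ U F' (ρEquiv U F φ ≫ g)
    rw [evalGen_comp]
    change evalGenEquiv U F' ((evalGenEquiv U F').symm _) =
      (g.hom.app (op U)).hom (evalGenEquiv U F ((evalGenEquiv U F).symm _))
    rw [AddEquiv.apply_symm_apply, AddEquiv.apply_symm_apply]
    let φ' : ConstPush.cZ (TopCat.of U) ⟶ (CohTop.restrFunctor U).obj F := φ
    change topEquiv U F' (constEquiv _ (φ' ≫ (CohTop.restrFunctor U).map g)) =
      (g.hom.app (op U)).hom (topEquiv U F (constEquiv _ φ'))
    rw [constEquiv_comp, topEquiv_naturality])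

lemma hT [HasDerivedCategory.{u + 1} (CohTop.Ab (TopCat.of U))]
    [HasDerivedCategory.{u + 1} AddCommGrpCat.{u}] :
    ∀ Q : CohTop.Ab X, Injective Q → ∀ q : ℕ, 0 < q →
      IsZero (((preadditiveCoyoneda.obj (op (ConstPush.cZ (TopCat.of U)))).rightDerived q).obj
        ((CohTop.restrFunctor U).obj Q)) := by
  intro Q hQ q hq
  have : TopCat.Sheaf.IsFlasque Q := Flasque.isFlasque_of_injective Q
  exact ConstPush.acyclic_homConst ((CohTop.restrFunctor U).obj Q) q hq

/-- `H^n(U, F)` (derived functors of sections over `U`) is `H^n(U, F|_U)` computed on `U`. -/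
theorem HU_equiv_H_restr (F : CohTop.Ab X) (n : ℕ) :
    Nonempty (CohTop.HU F n U ≃+ CohTop.H (CohTop.restr F U) n) := by
  let _ : HasDerivedCategory.{u + 1} (CohTop.Ab X) := HasDerivedCategory.standard _
  let _ : HasDerivedCategory.{u + 1} (CohTop.Ab (TopCat.of U)) := HasDerivedCategory.standard _
  let _ : HasDerivedCategory.{u + 1} AddCommGrpCat.{u} := HasDerivedCategory.standard _
  have h' : ∀ q : ℕ, 0 < q → IsZero (((CohTop.restrFunctor U).rightDerived q).obj F) :=
    fun q hq => by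
      obtain ⟨j, rfl⟩ : ∃ j, q = j + 1 := ⟨q - 1, by lia⟩
      exact ExactDerived.isZero_rightDerived_succ _ F j
  obtain ⟨e⟩ := Degenerate.iso_of_isZero_higher (CohTop.restrFunctor U)
    (preadditiveCoyoneda.obj (op (ConstPush.cZ (TopCat.of U)))) (hT U) F h' n
  obtain ⟨e1⟩ := ExtDerived.nonempty_iso_rightDerived
    (CohCx.freeSheaf (Opens.grothendieckTopology X) U) n F
  obtain ⟨e2⟩ := ExtDerived.nonempty_iso_rightDerived (ConstPush.cZ (TopCat.of U)) n
    ((CohTop.restrFunctor U).obj F)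
  exact ⟨(e1 ≪≫ ((GrothSSExt.rightDerivedIsoOfIso (ρ U) n).app F).symm ≪≫ e ≪≫
    ((preadditiveCoyoneda.obj (op (ConstPush.cZ (TopCat.of U)))).rightDerived n).mapIso
      ((CohTop.restrFunctor U).rightDerivedZeroIsoSelf.app F) ≪≫
      e2.symm).addCommGroupIsoToAddEquiv⟩

end Groth.Agent.H30.RestrOpen
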