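import Mathlib.CategoryTheory.Abelian.Injective.Ext

/-!
# `InjectiveResolution.extMk` in degree `0`
-/

set_option autoImplicit false
universe w v u
open CategoryTheory CochainComplex HomComplex Abelian

namespace Groth.Agent.H30.ExtMkZero

variable {C : Type u} [Category.{v} C] [Abelian C] [HasExt.{w} C]
  {X Y : C} (R : InjectiveResolution Y)

lemma extMk_eq_zero_iff_zero (f : X ⟶ R.cocomplex.X 0) (hf : f ≫ R.cocomplex.d 0 1 = 0) :
    R.extMk f 1 rfl hf = 0 ↔ f = 0 := by
  simp only [← R.extEquivCohomologyClass.apply_eq_iff_eq,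
    InjectiveResolution.extEquivCohomologyClass_extMk,
    InjectiveResolution.extEquivCohomologyClass_zero,
    CohomologyClass.mk_eq_zero_iff]
  rw [Cocycle.fromSingleMk_mem_coboundaries_iff _ _ _ _ _ (-1) (by lia)]
  have hz : Limits.IsZero (R.cochainComplex.X (-1)) :=
    CochainComplex.isZero_of_isStrictlyGE _ 0 _ (by lia)
  constructor
  · rintro ⟨g, hg⟩
    rw [hz.eq_of_tgt g 0, Limits.zero_comp] at hg
    rw [← cancel_mono (R.cochainComplexXIso 0 0 rfl).inv, Limits.zero_comp]
    exact hg.symm
  · rintro rfl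
    exact ⟨0, by simp⟩

end Groth.Agent.H30.ExtMkZero
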