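import Groth.Agent.H30.RestrOpen

/-!
# Exactness of a short complex of abelian sheaves can be checked locally on sections;
vanishing of `R^q f_*` from vanishing of `H^q(f⁻¹V, -)` on a basis
-/

set_option autoImplicit false
universe u
open CategoryTheory Limits TopologicalSpace Opposite

namespace Groth.Agent.H30.LocalExact

variable {Y : TopCat.{u}}

/-- A monomorphism of abelian sheaves is injective on sections. -/
lemma injective_of_mono {A B : CohTop.Ab Y} (i : A ⟶ B) [Mono i] (V : Opens Y) :
    Function.Injective ((i.hom.app (op V)).hom) := by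
  have h4 := (Sheaf.Hom.mono_iff_presheaf_mono (Opens.grothendieckTopology Y) AddCommGrpCat.{u}
    i).1 inferInstance
  have h5 : Mono (i.hom.app (op V)) := by
    rw [NatTrans.mono_iff_mono_app] at h4
    exact h4 (op V)
  exact (AddCommGrpCat.mono_iff_injective _).1 h5

/-- A short complex of abelian sheaves is exact if every section killed by `g` is locally in the
image of `f`. -/
lemma exact_of_locally (S : ShortComplex (CohTop.Ab Y))
    (h : ∀ (V : Opens Y) (s : S.X₂.obj.obj (op V)), (S.g.hom.app (op V)).hom s = 0 →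
      ∀ y ∈ V, ∃ (V' : Opens Y) (hV' : V' ≤ V), y ∈ V' ∧ ∃ t : S.X₁.obj.obj (op V'),
        (S.f.hom.app (op V')).hom t = (S.X₂.obj.map (homOfLE hV').op).hom s) : S.Exact := by
  rw [S.exact_iff_epi_toCycles]
  have : Sheaf.IsLocallySurjective S.toCycles := by
    change TopCat.Presheaf.IsLocallySurjective S.toCycles.hom
    rw [TopCat.Presheaf.isLocallySurjective_iff]
    intro V z y hy
    let s : S.X₂.obj.obj (op V) := (S.iCycles.hom.app (op V)).hom z
    have hs : (S.g.hom.app (op V)).hom s = 0 := by
      have h0 : S.iCycles ≫ S.g = 0 := S.iCycles_g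
      have h1 : S.iCycles.hom.app (op V) ≫ S.g.hom.app (op V) = 0 := by
        rw [← NatTrans.comp_app, ← ObjectProperty.FullSubcategory.comp_hom, h0]
        rfl
      exact ConcreteCategory.congr_hom h1 z
    obtain ⟨V', hV', hy', t, ht⟩ := h V s hs y hy
    refine ⟨V', hV', ⟨t, ?_⟩, hy'⟩
    apply injective_of_mono S.iCycles V'
    have h2 : S.toCycles.hom.app (op V') ≫ S.iCycles.hom.app (op V') = S.f.hom.app (op V') := by
      rw [← NatTrans.comp_app, ← ObjectProperty.FullSubcategory.comp_hom, S.toCycles_i]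
    have h3 := ConcreteCategory.congr_hom h2 t
    have h4 := ConcreteCategory.congr_hom (S.iCycles.hom.naturality (homOfLE hV').op) z
    exact h3.trans (ht.trans h4.symm)
  infer_instance

section Res

open RestrOpen FlasqueAcyclic

variable {X : TopCat.{u}}

/-- If `H^{j+1}(W, F) = 0`, the sections over `W` of an injective resolution of `F` are exact in
degree `j + 1`. -/
lemma exists_of_subsingleton_HU (F : CohTop.Ab X) (I : InjectiveResolution F) (W : Opens X) (j : ℕ)
    (h : Subsingleton (CohTop.HU F (j + 1) W)) (s : (I.cocomplex.X (j + 1)).obj.obj (op W))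
    (hs : ((I.cocomplex.d (j + 1) (j + 2)).hom.app (op W)).hom s = 0) :
    ∃ t : (I.cocomplex.X j).obj.obj (op W),
      ((I.cocomplex.d j (j + 1)).hom.app (op W)).hom t = s := by
  let _ : HasDerivedCategory.{u + 1} (CohTop.Ab X) := HasDerivedCategory.standard _
  let _ : HasDerivedCategory.{u + 1} AddCommGrpCat.{u} := HasDerivedCategory.standard _
  let SW := preadditiveCoyoneda.obj (op (CohCx.freeSheaf (Opens.grothendieckTopology X) W))
  let K := (SW.mapHomologicalComplex _).obj I.cocomplex
  obtain ⟨e⟩ := ExtDerived.nonempty_iso_rightDerived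
    (CohCx.freeSheaf (Opens.grothendieckTopology X) W) (j + 1) F
  have hz : IsZero (K.homology (j + 1)) := by
    refine IsZero.of_iso ?_ (I.isoRightDerivedObj SW (j + 1)).symm
    refine IsZero.of_iso ?_ e.symm
    exact @AddCommGrpCat.isZero_of_subsingleton _ h
  have hex : K.ExactAt (j + 1) := by
    rw [HomologicalComplex.exactAt_iff_isZero_homology]
    exact hz
  rw [HomologicalComplex.exactAt_iff' K j (j + 1) (j + 2) (by simp) (by simp),
    ShortComplex.ab_exact_iff] at hex
  let φ : CohCx.freeSheaf (Opens.grothendieckTopology X) W ⟶ I.cocomplex.X (j + 1) :=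
    CohFree.ofSect _ W _ s
  have hφ : φ ≫ I.cocomplex.d (j + 1) (j + 2) = 0 := by
    apply evalGen_injective
    rw [evalGen_comp, CohFree.evalGen_ofSect, hs, map_zero]
  obtain ⟨ψ, hψ⟩ := hex φ hφ
  let ψ' : CohCx.freeSheaf (Opens.grothendieckTopology X) W ⟶ I.cocomplex.X j := ψ
  refine ⟨CohFree.evalGen _ W _ ψ', ?_⟩
  have hψ' : ψ' ≫ I.cocomplex.d j (j + 1) = φ := hψ
  rw [← evalGen_comp, hψ', CohFree.evalGen_ofSect]

/-- If `H^{j+1}(f⁻¹V, F) = 0` for all `V` in a basis of `Y`, then `R^{j+1} f_* F = 0`. -/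
theorem isZero_Rpush_of_basis (f : X ⟶ Y) (F : CohTop.Ab X) (j : ℕ) (B : Set (Opens Y))
    (hB : Opens.IsBasis B)
    (h : ∀ V ∈ B, Subsingleton (CohTop.HU F (j + 1) ((Opens.map f).obj V))) :
    IsZero ((CohTop.Rpush f (j + 1)).obj F) := by
  let I := injectiveResolution F
  let K := ((CohTop.push f).mapHomologicalComplex _).obj I.cocomplex
  refine IsZero.of_iso ?_ (I.isoRightDerivedObj (CohTop.push f) (j + 1))
  have hex : K.ExactAt (j + 1) := by
    rw [HomologicalComplex.exactAt_iff' K j (j + 1) (j + 2) (by simp) (by simp)]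
    apply exact_of_locally
    intro V s hs y hy
    obtain ⟨V', hV'B, hyV', hV'V⟩ := Opens.isBasis_iff_nbhd.1 hB hy
    refine ⟨V', hV'V, hyV', ?_⟩
    have := h V' hV'B
    let i : (Opens.map f).obj V' ⟶ (Opens.map f).obj V := (Opens.map f).map (homOfLE hV'V)
    let s₀ : (I.cocomplex.X (j + 1)).obj.obj (op ((Opens.map f).obj V)) := s
    have hs₀ : ((I.cocomplex.d (j + 1) (j + 2)).hom.app (op ((Opens.map f).obj V))).hom s₀ = 0 :=
      hs
    have hs' : ((I.cocomplex.d (j + 1) (j + 2)).hom.app (op ((Opens.map f).obj V'))).hom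
        (((I.cocomplex.X (j + 1)).obj.map i.op).hom s₀) = 0 := by
      have nat := ConcreteCategory.congr_hom
        ((I.cocomplex.d (j + 1) (j + 2)).hom.naturality i.op) s₀
      refine nat.trans ?_
      change ((I.cocomplex.X (j + 2)).obj.map i.op).hom
        (((I.cocomplex.d (j + 1) (j + 2)).hom.app (op ((Opens.map f).obj V))).hom s₀) = 0
      rw [hs₀, map_zero]
    obtain ⟨t, ht⟩ := exists_of_subsingleton_HU F I ((Opens.map f).obj V') j this _ hs'
    exact ⟨t, ht⟩
  exact hex.isZero_homology

end Res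

end Groth.Agent.H30.LocalExact
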