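import Mathlib.CategoryTheory.Abelian.Injective.Ext
import Groth.Agent.H30.LocalExact
import Groth.Agent.H30.ExtMkZero

/-!
# Cohomology classes on opens via cocycles of an injective resolution
-/

set_option autoImplicit false
universe u
open CategoryTheory Limits TopologicalSpace Opposite Abelian

namespace Groth.Agent.H30.ExtSections

open Groth.Agent.H30.FlasqueAcyclic

variable {X : TopCat.{u}} {F : CohTop.Ab X} (I : InjectiveResolution F)

lemma ofSect_comp (W : Opens X) {G G' : CohTop.Ab X} (g : G ⟶ G') (s : G.obj.obj (op W)) :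
    CohFree.ofSect (Opens.grothendieckTopology X) W _ s ≫ g =
      CohFree.ofSect (Opens.grothendieckTopology X) W _ ((g.hom.app (op W)).hom s) := by
  apply evalGen_injective
  rw [evalGen_comp, CohFree.evalGen_ofSect, CohFree.evalGen_ofSect]

lemma ofSect_zero (W : Opens X) (G : CohTop.Ab X) :
    CohFree.ofSect (Opens.grothendieckTopology X) W G 0 = 0 := by
  apply evalGen_injective
  rw [CohFree.evalGen_ofSect]
  exact (map_zero (CohFree.evalGen (Opens.grothendieckTopology X) W G)).symm

lemma ofSect_add (W : Opens X) (G : CohTop.Ab X) (s t : G.obj.obj (op W)) :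
    CohFree.ofSect (Opens.grothendieckTopology X) W G (s + t) =
      CohFree.ofSect (Opens.grothendieckTopology X) W G s +
        CohFree.ofSect (Opens.grothendieckTopology X) W G t := by
  apply evalGen_injective
  rw [CohFree.evalGen_ofSect, map_add, CohFree.evalGen_ofSect, CohFree.evalGen_ofSect]

lemma ofSect_sub (W : Opens X) (G : CohTop.Ab X) (s t : G.obj.obj (op W)) :
    CohFree.ofSect (Opens.grothendieckTopology X) W G (s - t) =
      CohFree.ofSect (Opens.grothendieckTopology X) W G s -
        CohFree.ofSect (Opens.grothendieckTopology X) W G t := by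
  apply evalGen_injective
  rw [CohFree.evalGen_ofSect, map_sub, CohFree.evalGen_ofSect, CohFree.evalGen_ofSect]

lemma freeSheafMap_ofSect {W' W : Opens X} (h : W' ≤ W) (G : CohTop.Ab X) (s : G.obj.obj (op W)) :
    CohCx.freeSheafMap (Opens.grothendieckTopology X) (homOfLE h) ≫
      CohFree.ofSect (Opens.grothendieckTopology X) W G s =
      CohFree.ofSect (Opens.grothendieckTopology X) W' G ((G.obj.map (homOfLE h).op).hom s) := by
  apply evalGen_injective
  rw [CohFree.evalGen_freeSheafMap_comp, CohFree.evalGen_ofSect, CohFree.evalGen_ofSect]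

/-- The class in `H^n(W, F)` of a cocycle `s ∈ I^n(W)`. -/
noncomputable def cls (W : Opens X) (n : ℕ) (s : (I.cocomplex.X n).obj.obj (op W))
    (hs : ((I.cocomplex.d n (n + 1)).hom.app (op W)).hom s = 0) :
    Ext (CohCx.freeSheaf (Opens.grothendieckTopology X) W) F n :=
  I.extMk (CohFree.ofSect (Opens.grothendieckTopology X) W _ s) (n + 1) rfl (by
    rw [ofSect_comp, hs, ofSect_zero])

lemma cls_surjective (W : Opens X) (n : ℕ)
    (ξ : Ext (CohCx.freeSheaf (Opens.grothendieckTopology X) W) F n) :
    ∃ (s : (I.cocomplex.X n).obj.obj (op W))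
      (hs : ((I.cocomplex.d n (n + 1)).hom.app (op W)).hom s = 0), cls I W n s hs = ξ := by
  obtain ⟨f, hf, rfl⟩ := I.extMk_surjective (X := CohCx.freeSheaf _ W) ξ (n + 1) rfl
  have hfs : f = CohFree.ofSect (Opens.grothendieckTopology X) W _
      (CohFree.evalGen (Opens.grothendieckTopology X) W _ f) :=
    (CohFree.ofSect_evalGen _ W _ f).symm
  refine ⟨CohFree.evalGen (Opens.grothendieckTopology X) W _ f, ?_, ?_⟩
  · rw [← evalGen_comp, hf]
    exact map_zero _
  · unfold cls
    congr 1
    exact hfs.symm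

lemma cls_eq_zero_iff_succ (W : Opens X) (p : ℕ) (s : (I.cocomplex.X (p + 1)).obj.obj (op W))
    (hs : ((I.cocomplex.d (p + 1) (p + 1 + 1)).hom.app (op W)).hom s = 0) :
    cls I W (p + 1) s hs = 0 ↔
      ∃ t : (I.cocomplex.X p).obj.obj (op W), ((I.cocomplex.d p (p + 1)).hom.app (op W)).hom t = s := by
  unfold cls
  rw [I.extMk_eq_zero_iff _ _ _ _ p rfl]
  constructor
  · rintro ⟨g, hg⟩
    refine ⟨CohFree.evalGen (Opens.grothendieckTopology X) W _ g, ?_⟩
    rw [← evalGen_comp, hg, CohFree.evalGen_ofSect]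
  · rintro ⟨t, rfl⟩
    exact ⟨CohFree.ofSect (Opens.grothendieckTopology X) W _ t, ofSect_comp _ _ _⟩

lemma cls_eq_zero_iff_zero (W : Opens X) (s : (I.cocomplex.X 0).obj.obj (op W))
    (hs : ((I.cocomplex.d 0 1).hom.app (op W)).hom s = 0) :
    cls I W 0 s hs = 0 ↔ s = 0 := by
  unfold cls
  rw [ExtMkZero.extMk_eq_zero_iff_zero]
  constructor
  · intro h
    have := congrArg (CohFree.evalGen (Opens.grothendieckTopology X) W _) h
    rw [CohFree.evalGen_ofSect] at this
    exact this.trans (map_zero _)
  · rintro rfl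
    exact ofSect_zero _ _

lemma res_cls {W' W : Opens X} (h : W' ≤ W) (n : ℕ) (s : (I.cocomplex.X n).obj.obj (op W))
    (hs : ((I.cocomplex.d n (n + 1)).hom.app (op W)).hom s = 0) :
    (CohTop.res F n h (cls I W n s hs) :
        Ext (CohCx.freeSheaf (Opens.grothendieckTopology X) W') F n) =
      cls I W' n (((I.cocomplex.X n).obj.map (homOfLE h).op).hom s) (by
        have := ConcreteCategory.congr_hom ((I.cocomplex.d n (n + 1)).hom.naturality (homOfLE h).op) s
        refine Eq.trans (Eq.trans rfl this) ?_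
        change ((I.cocomplex.X (n + 1)).obj.map (homOfLE h).op).hom
          (((I.cocomplex.d n (n + 1)).hom.app (op W)).hom s) = 0
        rw [hs, map_zero]) := by
  unfold cls
  refine Eq.trans (I.mk₀_comp_extMk _ _ _ _ (CohCx.freeSheafMap _ (homOfLE h))) ?_
  congr 1
  exact freeSheafMap_ofSect h _ s

lemma cls_sub (W : Opens X) (n : ℕ) (s t : (I.cocomplex.X n).obj.obj (op W))
    (hs : ((I.cocomplex.d n (n + 1)).hom.app (op W)).hom s = 0)
    (ht : ((I.cocomplex.d n (n + 1)).hom.app (op W)).hom t = 0) :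
    cls I W n s hs - cls I W n t ht = cls I W n (s - t) (by rw [map_sub, hs, ht, sub_zero]) := by
  unfold cls
  rw [I.sub_extMk]
  congr 1
  exact (ofSect_sub _ _ _ _).symm

end Groth.Agent.H30.ExtSections
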