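import Groth.Agent.H30.LocalExact
import Groth.Agent.Lead.Coh.AffineOpen

/-!
# Higher direct images of quasi-coherent modules along affine morphisms vanish
-/

set_option autoImplicit false
universe u
open CategoryTheory Limits TopologicalSpace Opposite AlgebraicGeometry

namespace Groth.Agent.H30.AffinePush

open Groth.Agent.Lead.Coh

/-- `R^{j+1} f_* M = 0` for `f` affine and `M` quasi-coherent. -/
theorem isZero_RpushAb {X S : Scheme.{u}} (f : X ⟶ S) [IsAffineHom f]
    (M : X.Modules) [Coh.IsQCoh M] (j : ℕ) :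
    IsZero ((Coh.RpushAb f (j + 1)).obj (Coh.toAb M)) := by
  refine LocalExact.isZero_Rpush_of_basis f.base (Coh.toAb M) j S.affineOpens
    S.isBasis_affineOpens ?_
  intro V hV
  have hW : IsAffineOpen (f ⁻¹ᵁ V) := hV.preimage f
  exact subsingleton_of_forall_eq 0 (hVanish_of_isAffineOpen X M hW j)

/-- The underlying abelian sheaf of a direct image is the direct image of the underlying abelian
sheaf. -/
noncomputable def toAbPushIso {X S : Scheme.{u}} (f : X ⟶ S) (M : X.Modules) :
    Coh.toAb ((Coh.push f).obj M) ≅ (CohTop.push f.base).obj (Coh.toAb M) :=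
  Iso.refl _

/-- `H^i(X, M) ≃ H^i(S, f_* M)` for `f` affine and `M` quasi-coherent. -/
theorem HH_equiv_push {X S : Scheme.{u}} (f : X ⟶ S) [IsAffineHom f]
    (M : X.Modules) [Coh.IsQCoh M] (i : ℕ) :
    Nonempty (Coh.HH X M i ≃+ Coh.HH S ((Coh.push f).obj M) i) :=
  ConstPush.H_push_of_isZero f.base (Coh.toAb M) (fun q => isZero_RpushAb f M q) i

end Groth.Agent.H30.AffinePush
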