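import Mathlib

/-!
# Right derived functors are compatible with central endomorphisms

If `τ : 𝟭 𝒜 ⟶ 𝟭 𝒜` and `τ' : 𝟭 ℬ ⟶ 𝟭 ℬ` are natural endomorphisms of the identity functors with
`F (τ_M) = τ'_{F M}`, then `(R^n F)(τ_M) = τ'_{R^n F M}`.
-/

set_option autoImplicit false

open CategoryTheory Limits

namespace Groth.Agent.H30.RDCenter

universe v₁ v₂ u₁ u₂

variable {𝒜 : Type u₁} [Category.{v₁} 𝒜] [Abelian 𝒜] [HasInjectiveResolutions 𝒜]
  {ℬ : Type u₂} [Category.{v₂} ℬ] [Abelian ℬ]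

/-- the endomorphism of a complex given termwise by a natural endomorphism of the identity -/
@[simps]
def cxEnd (τ : 𝟭 ℬ ⟶ 𝟭 ℬ) {ι : Type*} {c : ComplexShape ι} (K : HomologicalComplex ℬ c) : K ⟶ K where
  f i := τ.app (K.X i)
  comm' i j _ := (τ.naturality (K.d i j)).symm

lemma homologyMap_cxEnd (τ : 𝟭 ℬ ⟶ 𝟭 ℬ) {ι : Type*} {c : ComplexShape ι}
    (K : HomologicalComplex ℬ c) (n : ι) :
    HomologicalComplex.homologyMap (cxEnd τ K) n = τ.app (K.homology n) := by
  have h1 : HomologicalComplex.cyclesMap (cxEnd τ K) n = τ.app (K.cycles n) := by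
    rw [← cancel_mono (K.iCycles n), HomologicalComplex.cyclesMap_i]
    exact τ.naturality (K.iCycles n)
  rw [← cancel_epi (K.homologyπ n), HomologicalComplex.homologyπ_naturality, h1]
  exact (τ.naturality (K.homologyπ n)).symm

variable (F : 𝒜 ⥤ ℬ) [F.Additive]

theorem rightDerived_map_center (τ : 𝟭 𝒜 ⟶ 𝟭 𝒜) (τ' : 𝟭 ℬ ⟶ 𝟭 ℬ)
    (h : ∀ M, F.map (τ.app M) = τ'.app (F.obj M)) (M : 𝒜) (n : ℕ) :
    (F.rightDerived n).map (τ.app M) = τ'.app ((F.rightDerived n).obj M) := by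
  let I := injectiveResolution M
  have comm : I.ι.f 0 ≫ (cxEnd τ I.cocomplex).f 0 = τ.app M ≫ I.ι.f 0 :=
    τ.naturality (I.ι.f 0)
  have h1 := InjectiveResolution.isoRightDerivedObj_hom_naturality (τ.app M) I I
    (cxEnd τ I.cocomplex) comm F n
  have h2 : (F.mapHomologicalComplex (ComplexShape.up ℕ)).map (cxEnd τ I.cocomplex) =
      cxEnd τ' ((F.mapHomologicalComplex (ComplexShape.up ℕ)).obj I.cocomplex) := by
    ext i
    exact h _
  rw [Functor.comp_map, h2] at h1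
  change _ = _ ≫ HomologicalComplex.homologyMap _ n at h1
  rw [homologyMap_cxEnd] at h1
  rw [← cancel_mono (I.isoRightDerivedObj F n).hom, h1]
  exact τ'.naturality (I.isoRightDerivedObj F n).hom

end Groth.Agent.H30.RDCenter
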