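import Mathlib
import Groth.Prelude.Def_Coh

/-!
# Multiplication by a global function as an endomorphism of an `O_X`-module
-/

set_option autoImplicit false

open CategoryTheory Limits AlgebraicGeometry Opposite TopologicalSpace

namespace Groth.Agent.H30.SmulMod

universe u

variable {X : Scheme.{u}}

lemma ring_mul_comm (U : (Opens X)ᵒᵖ) (a b : X.ringCatSheaf.obj.obj U) : a * b = b * a :=
  mul_comm (G := ↑(X.presheaf.obj U)) a b

/-- multiplication by a global function as an endomorphism of a module -/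
noncomputable def smulMod (M : X.Modules) (r : Coh.Γtop X) : M ⟶ M :=
  ⟨PresheafOfModules.homMk (Coh.smulAb M r).hom (fun U s m => by
    change Coh.resTop X U r • (s • m) = s • (Coh.resTop X U r • m)
    rw [← mul_smul, ← mul_smul, ring_mul_comm])⟩

lemma toSheaf_map_smulMod (M : X.Modules) (r : Coh.Γtop X) :
    (SheafOfModules.toSheaf X.ringCatSheaf).map (smulMod M r) = Coh.smulAb M r := rfl

lemma smulMod_app_apply (M : X.Modules) (r : Γ(X, ⊤)) (U : X.Opens) (m : Γ(M, U)) :
    (smulMod M r).app U m = (X.presheaf.map (homOfLE (le_top : U ≤ ⊤)).op r) • m := rfl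

lemma smulMod_naturality {M N : X.Modules} (φ : M ⟶ N) (r : Coh.Γtop X) :
    smulMod M r ≫ φ = φ ≫ smulMod N r := by
  apply Scheme.Modules.hom_ext
  intro U
  ext m
  exact Scheme.Modules.Hom.app_smul φ (X.presheaf.map (homOfLE (le_top : U ≤ ⊤)).op r) m

/-- multiplication by a global function, as an endomorphism of the identity functor -/
@[simps]
noncomputable def smulNat (r : Coh.Γtop X) : 𝟭 X.Modules ⟶ 𝟭 X.Modules where
  app M := smulMod M r
  naturality _ _ φ := (smulMod_naturality φ r).symm

end Groth.Agent.H30.SmulMod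

namespace Groth.Agent.H30.SmulMod

universe u

variable {X S : Scheme.{u}} (f : X ⟶ S)

lemma pushforward_smul_apply (M : X.Modules) (U : S.Opens) (s : Γ(S, U))
    (m : Γ((Scheme.Modules.pushforward f).obj M, U)) :
    s • m = (show Γ(M, f ⁻¹ᵁ U) from (f.app U s) • (show Γ(M, f ⁻¹ᵁ U) from m)) := rfl

lemma pushforward_map_smulMod (M : X.Modules) (r : Γ(S, ⊤)) :
    (Scheme.Modules.pushforward f).map (smulMod M (f.appTop r)) =
      smulMod ((Scheme.Modules.pushforward f).obj M) r := by
  apply Scheme.Modules.hom_ext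
  intro U
  ext m
  change (X.presheaf.map (homOfLE (le_top : f ⁻¹ᵁ U ≤ ⊤)).op (f.appTop r)) •
      (show Γ(M, f ⁻¹ᵁ U) from m) =
    (f.app U (S.presheaf.map (homOfLE (le_top : U ≤ ⊤)).op r)) • (show Γ(M, f ⁻¹ᵁ U) from m)
  congr 1
  have := congrArg (fun g => g.hom r) (f.naturality (homOfLE (le_top : U ≤ ⊤)).op)
  exact this.symm

end Groth.Agent.H30.SmulMod
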