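import Groth.Agent.H30.LerayA
import Groth.Agent.H30.ExtShift
import Mathlib.CategoryTheory.Preadditive.Yoneda.Limits

/-!
# `Ext^n(M, Y)` is the `n`-th right derived functor of `Hom(M, -)` (objectwise)
-/

set_option autoImplicit false
set_option linter.unusedSectionVars false
universe w w' v u
open CategoryTheory Limits Abelian Opposite

namespace Groth.Agent.H30.ExtDerived

open DerivedCategory Hyper Leray ExtShift

section Coker

variable {𝒜 : Type*} [Category 𝒜] [Abelian 𝒜]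

/-- Two cokernels of isomorphic maps are isomorphic. -/
lemma nonempty_iso_of_exact {A B D A' B' D' : 𝒜} (a : A ⟶ B) (δ : B ⟶ D) (a' : A' ⟶ B')
    (δ' : B' ⟶ D') (w : a ≫ δ = 0) (w' : a' ≫ δ' = 0)
    (h : (ShortComplex.mk a δ w).Exact) (h' : (ShortComplex.mk a' δ' w').Exact)
    (_ : Epi δ) (_ : Epi δ') (α : A ≅ A') (β : B ≅ B') (comm : a ≫ β.hom = α.hom ≫ a') :
    Nonempty (D ≅ D') := by
  have e : D ≅ cokernel a :=
    IsColimit.coconePointUniqueUpToIso (s := CokernelCofork.ofπ δ w)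
      (t := Cofork.ofπ (cokernel.π a) (by simp)) h.gIsCokernel (cokernelIsCokernel a)
  have e' : D' ≅ cokernel a' :=
    IsColimit.coconePointUniqueUpToIso (s := CokernelCofork.ofπ δ' w')
      (t := Cofork.ofπ (cokernel.π a') (by simp)) h'.gIsCokernel (cokernelIsCokernel a')
  exact ⟨e ≪≫ cokernel.mapIso a a' α β comm ≪≫ e'.symm⟩

end Coker

variable {C : Type u} [Category.{v} C] [Abelian C] [HasExt.{v} C] [EnoughInjectives C]
  [HasDerivedCategory.{w} C] [HasDerivedCategory.{w'} AddCommGrpCat.{v}] (M : C)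

/-- The functor `Hom(M, -)`. -/
abbrev homF : C ⥤ AddCommGrpCat.{v} := preadditiveCoyoneda.obj (op M)

/-- The hypercohomology groups of `Hom(M, -)` at a single object. -/
noncomputable abbrev G (n : ℤ) (Y : C) : AddCommGrpCat.{v} :=
  ((Φ (homF M)).shift n).obj (Plus.Q.obj (sgl Y))

/-- The degree `0` comparison. -/
noncomputable def ε (Y : C) : AddCommGrpCat.of (Ext M Y 0) ≅ G M 0 Y :=
  (Ext.addEquiv₀ (X := M) (Y := Y)).toAddCommGrpIso ≪≫ (ν (homF M) Y).symm ≪≫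
    (have := isIso_Θ_sgl (homF M) Y; asIso (Θ (homF M) (sgl Y) 0))

lemma ε_naturality {Y Z : C} (g : Y ⟶ Z) :
    AddCommGrpCat.ofHom ((Ext.mk₀ g).postcomp M (add_zero 0)) ≫ (ε M Z).hom =
      (ε M Y).hom ≫ ((Φ (homF M)).shift (0 : ℤ)).map (Plus.Q.map (sglMap g)) := by
  have h1 : AddCommGrpCat.ofHom ((Ext.mk₀ g).postcomp M (add_zero 0)) ≫
      (Ext.addEquiv₀ (X := M) (Y := Z)).toAddCommGrpIso.hom =
      (Ext.addEquiv₀ (X := M) (Y := Y)).toAddCommGrpIso.hom ≫ (homF M).map g := by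
    ext x
    obtain ⟨φ, rfl⟩ := (Ext.mk₀_bijective M Y).2 x
    change Ext.addEquiv₀ ((Ext.mk₀ φ).comp (Ext.mk₀ g) (add_zero 0)) =
      Ext.addEquiv₀ (Ext.mk₀ φ) ≫ g
    rw [Ext.mk₀_comp_mk₀, ← Ext.addEquiv₀_symm_apply, ← Ext.addEquiv₀_symm_apply,
      AddEquiv.apply_symm_apply, AddEquiv.apply_symm_apply]
  have h2 := ν_hom_naturality (homF M) g
  have h3 := Θ_naturality (homF M) (sglMap g) 0
  have h2' : (homF M).map g ≫ (ν (homF M) Z).inv = (ν (homF M) Y).inv ≫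
      HomologicalComplex.homologyMap ((homF M).mapCochainComplexPlus.map (sglMap g)).hom 0 := by
    rw [← cancel_mono (ν (homF M) Z).hom, Category.assoc, Category.assoc, Iso.inv_hom_id,
      Category.comp_id, h2, Iso.inv_hom_id_assoc]
  dsimp only [ε, Iso.trans_hom, Iso.symm_hom, asIso_hom]
  rw [reassoc_of% h1, reassoc_of% h2', h3, Category.assoc, Category.assoc]

variable {M}

lemma isZero_ext_of_injective (I : C) [Injective I] (n : ℕ) :
    IsZero (AddCommGrpCat.of (Ext M I (n + 1))) := by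
  have : Subsingleton (Ext M I (n + 1)) :=
    subsingleton_of_forall_eq 0 (fun x => Ext.eq_zero_of_injective x)
  exact AddCommGrpCat.isZero_of_subsingleton _

lemma isZero_G_of_injective (I : C) [Injective I] (n : ℕ) :
    IsZero (G M ((n + 1 : ℕ) : ℤ) I) :=
  (acyclic_of_injective (homF M) I).isZero_Φ _ (n + 1) (by lia)

/-- One step of dimension shifting. -/
lemma step (Y : C) (n₀ : ℕ)
    (α : AddCommGrpCat.of (Ext M (underSC Y).X₂ n₀) ≅ G M n₀ (underSC Y).X₂)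
    (β : AddCommGrpCat.of (Ext M (underSC Y).X₃ n₀) ≅ G M n₀ (underSC Y).X₃)
    (comm : AddCommGrpCat.ofHom ((Ext.mk₀ (underSC Y).g).postcomp M (add_zero n₀)) ≫ β.hom =
      α.hom ≫ ((Φ (homF M)).shift (n₀ : ℤ)).map (Plus.Q.map (sglMap (underSC Y).g))) :
    Nonempty (AddCommGrpCat.of (Ext M Y (n₀ + 1)) ≅ G M ((n₀ + 1 : ℕ) : ℤ) Y) := by
  have hS := underSC_shortExact Y
  have hn : (n₀ : ℤ) + 1 = ((n₀ + 1 : ℕ) : ℤ) := by push_cast; rfl
  have ex3 := Ext.covariant_sequence_exact₃' M hS n₀ (n₀ + 1) rfl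
  have ex1 := Ext.covariant_sequence_exact₁' M hS n₀ (n₀ + 1) rfl
  have ex3' := Φ_exact₃ (homF M) hS n₀ ((n₀ + 1 : ℕ) : ℤ) hn
  have ex1' := Φ_exact₁ (homF M) hS n₀ ((n₀ + 1 : ℕ) : ℤ) hn
  have e1 := ex1.epi_f ((isZero_ext_of_injective (M := M) (underSC Y).X₂ n₀).eq_of_tgt _ _)
  have e1' := ex1'.epi_f ((isZero_G_of_injective (M := M) (underSC Y).X₂ n₀).eq_of_tgt _ _)
  exact nonempty_iso_of_exact _ _ _ _ _ _ ex3 ex3' e1 e1' α β comm

variable (M)

/-- `Ext^n(M, Y) ≅ Hⁿ(R Hom(M, -)(Y))`. -/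
theorem nonempty_iso_G (n : ℕ) (Y : C) :
    Nonempty (AddCommGrpCat.of (Ext M Y n) ≅ G M (n : ℤ) Y) := by
  induction n generalizing Y with
  | zero => exact ⟨ε M Y⟩
  | succ n ih =>
    rcases n with _ | m
    · exact step Y 0 (ε M _) (ε M _) (ε_naturality M _)
    · obtain ⟨β⟩ := ih (underSC Y).X₃
      have hz := isZero_ext_of_injective (M := M) (underSC Y).X₂ m
      have hz' := isZero_G_of_injective (M := M) (underSC Y).X₂ m
      exact step Y (m + 1) (hz.iso hz') β (hz.eq_of_src _ _)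

/-- `Ext^n(M, Y)` is the value at `Y` of the `n`-th right derived functor of `Hom(M, -)`. -/
theorem nonempty_iso_rightDerived (n : ℕ) (Y : C) :
    Nonempty (AddCommGrpCat.of (Ext M Y n) ≅ ((homF M).rightDerived n).obj Y) := by
  obtain ⟨e⟩ := nonempty_iso_G M n Y
  exact ⟨e ≪≫ ΦsglIsoRightDerived (homF M) Y n n rfl⟩

end Groth.Agent.H30.ExtDerived
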