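import Groth.Agent.H30.GrothSS
import Groth.Agent.H30.ExtDerived

/-!
# The Grothendieck spectral sequence with prescribed `E₂` terms and abutment
-/

set_option autoImplicit false
set_option linter.unusedSectionVars false
universe w w' v v' u u'
open CategoryTheory Limits ZeroObject

namespace Groth.Agent.H30.GrothSSExt

open DerivedCategory

section

variable {C D : Type*} [Category C] [Category D] [Abelian C] [Abelian D]
  [HasInjectiveResolutions C]

/-- Right derived functors of isomorphic functors are isomorphic. -/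
noncomputable def rightDerivedIsoOfIso {F G : C ⥤ D} [F.Additive] [G.Additive] (e : F ≅ G)
    (n : ℕ) : F.rightDerived n ≅ G.rightDerived n where
  hom := NatTrans.rightDerived e.hom n
  inv := NatTrans.rightDerived e.inv n
  hom_inv_id := by rw [← NatTrans.rightDerived_comp, e.hom_inv_id, NatTrans.rightDerived_id]
  inv_hom_id := by rw [← NatTrans.rightDerived_comp, e.inv_hom_id, NatTrans.rightDerived_id]

end

variable {C : Type*} [Category C] [Abelian C] [HasInjectiveResolutions C]
  {C' : Type u} [Category.{v} C'] [Abelian C'] [HasDerivedCategory.{w} C'] [EnoughInjectives C']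
  {C'' : Type u'} [Category.{v'} C''] [Abelian C''] [HasDerivedCategory.{w'} C'']
  (T : C ⥤ C') [T.Additive] (S : C' ⥤ C'') [S.Additive] [PreservesFiniteLimits S]
  (hT : ∀ Q : C, Injective Q → ∀ q : ℕ, 0 < q → IsZero ((S.rightDerived q).obj (T.obj Q)))
  (X : C)

include hT in
/-- The Grothendieck spectral sequence, with the `E₂` terms and the abutment replaced by
isomorphic objects, and a chosen zero object. -/
theorem grothendieck_spectralSequence' (Hn : ℕ → C'') (E2 : ℕ → ℕ → C'') (Z : C'')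
    (hZ : IsZero Z)
    (hab : ∀ n, Nonempty (((T ⋙ S).rightDerived n).obj X ≅ Hn n))
    (hE2 : ∀ p q, Nonempty ((S.rightDerived p).obj ((T.rightDerived q).obj X) ≅ E2 p q)) :
    ∃ (E : E₂CohomologicalSpectralSequence C'')
      (a : SpSeq.Abutment E (fun n : ℤ => if 0 ≤ n then Hn n.toNat else Z)),
      (∀ n, a.IsFinite n) ∧ SpSeq.IsBounded E ∧
      ∀ p q : ℤ, Nonempty ((E.page 2 le_rfl).X (p, q) ≅
        (if 0 ≤ p ∧ 0 ≤ q then E2 p.toNat q.toNat else Z)) := by
  obtain ⟨E, a, hfin, hbd, hE⟩ := GrothSS.grothendieck_spectralSequence T S hT X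
  have e : ∀ n : ℤ, (if 0 ≤ n then ((T ⋙ S).rightDerived n.toNat).obj X else 0) ≅
      (if 0 ≤ n then Hn n.toNat else Z) := fun n =>
    if h : 0 ≤ n then
      eqToIso (if_pos h) ≪≫ (hab n.toNat).some ≪≫ eqToIso (if_pos h).symm
    else
      eqToIso (if_neg h) ≪≫ (isZero_zero _).iso hZ ≪≫ eqToIso (if_neg h).symm
  refine ⟨E, SpSeqTransport.transport a e,
    fun n => SpSeqTransport.transport_isFinite _ _ n (hfin n), hbd, fun p q => ?_⟩
  obtain ⟨e₂⟩ := hE p q
  by_cases h : 0 ≤ p ∧ 0 ≤ q
  · rw [if_pos h] at e₂ ⊢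
    exact ⟨e₂ ≪≫ (hE2 p.toNat q.toNat).some⟩
  · rw [if_neg h] at e₂ ⊢
    exact ⟨e₂ ≪≫ (isZero_zero _).iso hZ⟩

end Groth.Agent.H30.GrothSSExt
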