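import Mathlib.Algebra.Homology.Embedding.ExtendHomology
import Mathlib.Algebra.Homology.Additive
import Mathlib.CategoryTheory.Abelian.RightDerived
import Mathlib.CategoryTheory.Abelian.Injective.Extend

/-!
# Compatibility of `HomologicalComplex.extend` with additive functors, and right derived
functors computed by the `ℤ`-indexed injective resolution
-/

set_option autoImplicit false
universe v v' u u'
open CategoryTheory Limits

namespace Groth.Agent.H30.ExtendMap

section

variable {ι ι' : Type*} {c : ComplexShape ι} {c' : ComplexShape ι'}
  {C : Type u} [Category.{v} C] [HasZeroObject C] [Preadditive C]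
  {D : Type u'} [Category.{v'} D] [HasZeroObject D] [Preadditive D]
  (F : C ⥤ D) [F.Additive] (K : HomologicalComplex C c) (e : c.Embedding c')

/-- Auxiliary isomorphism `F (extend.X K o) ≅ extend.X (F K) o`. -/
noncomputable def mapXIso : ∀ (o : Option ι),
    F.obj (HomologicalComplex.extend.X K o) ≅
      HomologicalComplex.extend.X ((F.mapHomologicalComplex c).obj K) o
  | some _ => Iso.refl _
  | none => (F.map_isZero (isZero_zero C)).iso (isZero_zero D)

lemma mapXIso_comm (o o' : Option ι) :
    F.map (HomologicalComplex.extend.d K o o') ≫ (mapXIso F K o').hom =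
      (mapXIso F K o).hom ≫
        HomologicalComplex.extend.d ((F.mapHomologicalComplex c).obj K) o o' := by
  match o, o' with
  | none, _ => exact (F.map_isZero (isZero_zero C)).eq_of_src _ _
  | some i, some j =>
      simp only [mapXIso, HomologicalComplex.extend.d, Iso.refl_hom,
        Functor.mapHomologicalComplex_obj_d]
      exact (Category.comp_id _).trans (Category.id_comp _).symm
  | some i, none => exact (isZero_zero D).eq_of_tgt _ _

/-- An additive functor commutes with the extension of homological complexes. -/
noncomputable def mapExtendIso :
    (F.mapHomologicalComplex c').obj (K.extend e) ≅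
      ((F.mapHomologicalComplex c).obj K).extend e :=
  HomologicalComplex.Hom.isoOfComponents (fun i' => mapXIso F K (e.r i'))
    (fun i' j' _ => (mapXIso_comm F K (e.r i') (e.r j')).symm)

end

section

variable {C : Type u} [Category.{v} C] [Abelian C]
  {D : Type u'} [Category.{v'} D] [Abelian D]
  (F : C ⥤ D) [F.Additive]

/-- The homology of `F` applied to an extended complex. -/
noncomputable def homologyMapExtendIso (K : CochainComplex C ℕ) (n : ℕ) (m : ℤ) (h : (n : ℤ) = m) :
    ((F.mapHomologicalComplex (ComplexShape.up ℤ)).obj
      (K.extend ComplexShape.embeddingUpNat)).homology m ≅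
      ((F.mapHomologicalComplex (ComplexShape.up ℕ)).obj K).homology n :=
  (HomologicalComplex.homologyFunctor D _ m).mapIso (mapExtendIso F K _) ≪≫
    HomologicalComplex.extendHomologyIso _ ComplexShape.embeddingUpNat (j := n) (j' := m) h

lemma exactAt_map_extend_of_neg (K : CochainComplex C ℕ) (m : ℤ) (h : m < 0) :
    ((F.mapHomologicalComplex (ComplexShape.up ℤ)).obj
      (K.extend ComplexShape.embeddingUpNat)).ExactAt m := by
  apply HomologicalComplex.exactAt_of_isSupported _ ComplexShape.embeddingUpNat m
  intro i hi
  simp at hi
  lia

variable [HasInjectiveResolutions C]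

/-- The right derived functors computed with the `ℤ`-indexed injective resolution. -/
noncomputable def rightDerivedIso {X : C} (I : InjectiveResolution X) (n : ℕ) (m : ℤ)
    (h : (n : ℤ) = m) :
    ((F.mapHomologicalComplex (ComplexShape.up ℤ)).obj I.cochainComplex).homology m ≅
      (F.rightDerived n).obj X :=
  homologyMapExtendIso F I.cocomplex n m h ≪≫ (I.isoRightDerivedObj F n).symm

omit [HasInjectiveResolutions C] in
lemma exactAt_map_cochainComplex_of_neg {X : C} (I : InjectiveResolution X) (m : ℤ) (h : m < 0) :
    ((F.mapHomologicalComplex (ComplexShape.up ℤ)).obj I.cochainComplex).ExactAt m :=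
  exactAt_map_extend_of_neg F I.cocomplex m h

end

end Groth.Agent.H30.ExtendMap
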