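import Groth.Prelude.Def_LocCohZ

set_option autoImplicit false
universe u
open CategoryTheory Limits TopologicalSpace Opposite

namespace Groth.Agent.H30.SectSupp

variable {X : TopCat.{u}} (U : Opens X)

/-- `j_* j⁻¹ F`. -/
noncomputable abbrev G (F : CohTop.Ab X) : CohTop.Ab X :=
  (CohTop.push (CohCx.incl U)).obj ((CohTop.pull (CohCx.incl U)).obj F)

/-- the unit `F ⟶ j_* j⁻¹ F`. -/
noncomputable abbrev η (F : CohTop.Ab X) : F ⟶ G U F :=
  (TopCat.Sheaf.pullbackPushforwardAdjunction AddCommGrpCat.{u} (CohCx.incl U)).unit.app F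

lemma hj : Topology.IsOpenEmbedding (CohCx.incl U) := U.isOpenEmbedding

/-- `W ∩ U`, as the image of the preimage. -/
noncomputable def cap (W : Opens X) : Opens X :=
  (hj U).functor.obj ((Opens.map (CohCx.incl U)).obj W)

lemma mem_cap (W : Opens X) (x : X) : x ∈ cap U W ↔ x ∈ W ∧ x ∈ U := by
  constructor
  · rintro ⟨y, hy, rfl⟩
    exact ⟨hy, y.2⟩
  · rintro ⟨h1, h2⟩
    exact ⟨⟨x, h2⟩, h1, rfl⟩

lemma cap_le (W : Opens X) : cap U W ≤ W := fun x hx => ((mem_cap U W x).1 hx).1

lemma cap_le_U (W : Opens X) : cap U W ≤ U := fun x hx => ((mem_cap U W x).1 hx).2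

lemma cap_mono {W W' : Opens X} (h : W' ≤ W) : cap U W' ≤ cap U W := fun x hx =>
  (mem_cap U W x).2 ⟨h ((mem_cap U W' x).1 hx).1, ((mem_cap U W' x).1 hx).2⟩

lemma map_cap (W : Opens X) :
    (Opens.map (CohCx.incl U)).obj (cap U W) = (Opens.map (CohCx.incl U)).obj W := by
  ext x
  constructor
  · intro hx
    exact ((mem_cap U W x.1).1 hx).1
  · intro hx
    exact (mem_cap U W x.1).2 ⟨hx, x.2⟩

/-- Sections of `j_* G'` over `W` inject into sections over `W ∩ U`. -/
lemma push_res_injective (G' : CohTop.Ab (TopCat.of U)) (W : Opens X) :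
    Function.Injective
      (((CohTop.push (CohCx.incl U)).obj G').obj.map (homOfLE (cap_le U W)).op).hom := by
  have : IsIso ((Opens.map (CohCx.incl U)).map (homOfLE (cap_le U W))) :=
    ⟨homOfLE (le_of_eq (map_cap U W).symm), Subsingleton.elim _ _, Subsingleton.elim _ _⟩
  have : IsIso (((CohTop.push (CohCx.incl U)).obj G').obj.map (homOfLE (cap_le U W)).op) := by
    change IsIso (G'.obj.map ((Opens.map (CohCx.incl U)).map (homOfLE (cap_le U W))).op)
    infer_instance
  exact ((ConcreteCategory.isIso_iff_bijective _).1 this).1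

/-- The unit is injective on sections over opens of `U`. -/
lemma η_injective_of_le (F : CohTop.Ab X) (W'' : Opens (TopCat.of U)) :
    Function.Injective ((η U F).hom.app (op ((hj U).functor.obj W''))).hom := by
  let adj := TopCat.Sheaf.pullbackPushforwardAdjunction AddCommGrpCat.{u} (CohCx.incl U)
  let e := Topology.IsOpenEmbedding.sheafPullbackIso AddCommGrpCat.{u} (hj U)
  let F' : TopCat.Sheaf AddCommGrpCat.{u} X := F
  let G' : TopCat.Sheaf AddCommGrpCat.{u} X := G U F
  let η' : F' ⟶ G' := adj.unit.app F'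
  have h1 : Mono ((TopCat.Sheaf.pullback AddCommGrpCat.{u} (CohCx.incl U)).map η') :=
    (SplitMono.mk _ (adj.left_triangle_components F')).mono
  have h2 : ((hj U).sheafPullback AddCommGrpCat.{u}).map η' =
      e.inv.app F' ≫ (TopCat.Sheaf.pullback AddCommGrpCat.{u} (CohCx.incl U)).map η' ≫
        e.hom.app G' := by
    rw [e.hom.naturality, Iso.inv_hom_id_app_assoc]
  have h3 : Mono (((hj U).sheafPullback AddCommGrpCat.{u}).map η') := by
    rw [h2]; infer_instance
  have h4 := (Sheaf.Hom.mono_iff_presheaf_mono (Opens.grothendieckTopology _) AddCommGrpCat.{u}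
    (((hj U).sheafPullback AddCommGrpCat.{u}).map η')).1 h3
  have h5 := (NatTrans.mono_iff_mono_app _).1 h4 (op W'')
  exact (AddCommGrpCat.mono_iff_injective _).1 h5

/-- Key fact: a section is killed by the unit iff its restriction to `W ∩ U` vanishes. -/
lemma η_eq_zero_iff (F : CohTop.Ab X) (W : Opens X) (s : F.obj.obj (op W)) :
    ((η U F).hom.app (op W)).hom s = 0 ↔ (F.obj.map (homOfLE (cap_le U W)).op).hom s = 0 := by
  have nat := ConcreteCategory.congr_hom ((η U F).hom.naturality (homOfLE (cap_le U W)).op) s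
  have nat' : ((G U F).obj.map (homOfLE (cap_le U W)).op).hom (((η U F).hom.app (op W)).hom s) =
      ((η U F).hom.app (op (cap U W))).hom ((F.obj.map (homOfLE (cap_le U W)).op).hom s) :=
    nat.symm
  constructor
  · intro h
    apply η_injective_of_le U F ((Opens.map (CohCx.incl U)).obj W)
    refine Eq.trans nat'.symm ?_
    rw [h, map_zero]
    exact (map_zero _).symm
  · intro h
    apply push_res_injective U _ W
    rw [map_zero]
    refine Eq.trans nat' ?_
    rw [h, map_zero]

/-- Gluing two sections of a sheaf of abelian groups. -/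
lemma glue₂ (F : CohTop.Ab X) {V₁ V₂ V : Opens X} (h₁ : V₁ ≤ V) (h₂ : V₂ ≤ V)
    (hcover : V ≤ V₁ ⊔ V₂) (s₁ : F.obj.obj (op V₁)) (s₂ : F.obj.obj (op V₂))
    (hcompat : (F.obj.map (homOfLE (inf_le_left : V₁ ⊓ V₂ ≤ V₁)).op).hom s₁ =
      (F.obj.map (homOfLE (inf_le_right : V₁ ⊓ V₂ ≤ V₂)).op).hom s₂) :
    ∃ s : F.obj.obj (op V), (F.obj.map (homOfLE h₁).op).hom s = s₁ ∧
      (F.obj.map (homOfLE h₂).op).hom s = s₂ := by
  let F' : TopCat.Sheaf AddCommGrpCat.{u} X := F
  let Uf : Bool → Opens X := fun b => cond b V₁ V₂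
  let sf : ∀ b : Bool, ToType (F'.1.obj (op (Uf b))) := fun b =>
    Bool.rec (motive := fun b => ToType (F'.1.obj (op (Uf b)))) s₂ s₁ b
  have hmap : ∀ {A B : Opens X} (i i' : A ⟶ B) (x : F.obj.obj (op B)),
      (F.obj.map i.op).hom x = (F.obj.map i'.op).hom x := fun i i' x => by
    rw [Subsingleton.elim i i']
  have hc : TopCat.Presheaf.IsCompatible F'.1 Uf sf := by
    rintro (_ | _) (_ | _)
    · exact hmap _ _ _
    · -- (false, true): on `V₂ ⊓ V₁`
      have := congrArg (F.obj.map (homOfLE (by rw [inf_comm] : V₂ ⊓ V₁ ≤ V₁ ⊓ V₂)).op).hom hcompat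
      change (F.obj.map _).hom ((F.obj.map _).hom s₁) = (F.obj.map _).hom ((F.obj.map _).hom s₂)
        at this
      rw [← ConcreteCategory.comp_apply, ← ConcreteCategory.comp_apply, ← F.obj.map_comp,
        ← F.obj.map_comp] at this
      exact (this.symm : _)
    · exact hcompat
    · exact hmap _ _ _
  obtain ⟨s, hs, -⟩ := F'.existsUnique_gluing' Uf V
    (fun b => Bool.rec (motive := fun b => Uf b ⟶ V) (homOfLE h₂) (homOfLE h₁) b)
    (by
      refine le_trans hcover (sup_le ?_ ?_)
      · exact le_iSup Uf true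
      · exact le_iSup Uf false) sf hc
  exact ⟨s, hs true, hs false⟩


/-- the inclusion `Γ_Z F ⟶ F`. -/
noncomputable abbrev k (F : CohTop.Ab X) : CohCx.sectSupp U F ⟶ F := kernel.ι (η U F)

lemma k_injective (F : CohTop.Ab X) (W : Opens X) :
    Function.Injective ((k U F).hom.app (op W)).hom := by
  have h4 := (Sheaf.Hom.mono_iff_presheaf_mono (Opens.grothendieckTopology X) AddCommGrpCat.{u}
    (k U F)).1 inferInstance
  have h5 := (NatTrans.mono_iff_mono_app _).1 h4 (op W)
  exact (AddCommGrpCat.mono_iff_injective _).1 h5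

lemma η_k (F : CohTop.Ab X) (W : Opens X) (t : (CohCx.sectSupp U F).obj.obj (op W)) :
    ((η U F).hom.app (op W)).hom (((k U F).hom.app (op W)).hom t) = 0 := by
  have : (k U F).hom.app (op W) ≫ (η U F).hom.app (op W) = 0 := by
    rw [← NatTrans.comp_app, ← ObjectProperty.FullSubcategory.comp_hom, kernel.condition]
    rfl
  exact ConcreteCategory.congr_hom this t

lemma exists_k_eq (F : CohTop.Ab X) (W : Opens X) (s : F.obj.obj (op W))
    (hs : ((η U F).hom.app (op W)).hom s = 0) :
    ∃ t : (CohCx.sectSupp U F).obj.obj (op W), ((k U F).hom.app (op W)).hom t = s := by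
  let S : ShortComplex (CohTop.Ab X) :=
    ShortComplex.mk (k U F) (η U F) (kernel.condition _)
  have hS : S.Exact := ShortComplex.exact_of_f_is_kernel _ (kernelIsKernel _)
  have hm : Mono S.f := inferInstanceAs (Mono (k U F))
  exact TopCat.Sheaf.sections_exact_of_left_exact (S := S) hS hm s hs

/-- `Γ_Z F` is flasque when `F` is. -/
theorem isFlasque_sectSupp (F : CohTop.Ab X) [TopCat.Sheaf.IsFlasque F] :
    TopCat.Sheaf.IsFlasque (CohCx.sectSupp U F) where
  epi {W₀ W₀'} i := by
    rw [AddCommGrpCat.epi_iff_surjective]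
    intro s'
    obtain ⟨W⟩ := W₀
    obtain ⟨W'⟩ := W₀'
    have hW : W' ≤ W := leOfHom i.unop
    let s := ((k U F).hom.app (op W')).hom s'
    have hs0 : (F.obj.map (homOfLE (cap_le U W')).op).hom s = 0 :=
      (η_eq_zero_iff U F W' s).1 (η_k U F W' s')
    -- glue `s` on `W'` with `0` on `W ∩ U`
    have hmap : ∀ {A B : Opens X} (i i' : A ⟶ B) (x : F.obj.obj (op B)),
        (F.obj.map i.op).hom x = (F.obj.map i'.op).hom x := fun i i' x => by
      rw [Subsingleton.elim i i']
    have hle : W' ⊓ cap U W ≤ cap U W' := fun x hx =>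
      (mem_cap U W' x).2 ⟨hx.1, ((mem_cap U W x).1 hx.2).2⟩
    have hcompat : (F.obj.map (homOfLE (inf_le_left : W' ⊓ cap U W ≤ W')).op).hom s =
        (F.obj.map (homOfLE (inf_le_right : W' ⊓ cap U W ≤ cap U W)).op).hom 0 := by
      rw [map_zero]
      have : (F.obj.map (homOfLE hle).op).hom ((F.obj.map (homOfLE (cap_le U W')).op).hom s) = 0 := by
        rw [hs0, map_zero]
      rw [← ConcreteCategory.comp_apply, ← F.obj.map_comp] at this
      exact (hmap _ _ _).trans this
    obtain ⟨t, ht1, ht2⟩ := glue₂ F (le_sup_left : W' ≤ W' ⊔ cap U W)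
      (le_sup_right : cap U W ≤ W' ⊔ cap U W) le_rfl s 0 hcompat
    -- extend to `W`
    have hle' : W' ⊔ cap U W ≤ W := sup_le hW (cap_le U W)
    obtain ⟨t', ht'⟩ := (AddCommGrpCat.epi_iff_surjective (F.obj.map (homOfLE hle').op)).1
      (TopCat.Presheaf.IsFlasque.epi _) t
    have ht'W : (F.obj.map (homOfLE (cap_le U W)).op).hom t' = 0 := by
      have : (F.obj.map (homOfLE (le_sup_right : cap U W ≤ W' ⊔ cap U W)).op).hom
          ((F.obj.map (homOfLE hle').op).hom t') = 0 := by rw [ht', ht2]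
      rw [← ConcreteCategory.comp_apply, ← F.obj.map_comp] at this
      exact (hmap _ _ _).trans this
    have ht'W' : (F.obj.map (homOfLE hW).op).hom t' = s := by
      have : (F.obj.map (homOfLE (le_sup_left : W' ≤ W' ⊔ cap U W)).op).hom
          ((F.obj.map (homOfLE hle').op).hom t') = s := by rw [ht', ht1]
      rw [← ConcreteCategory.comp_apply, ← F.obj.map_comp] at this
      exact (hmap _ _ _).trans this
    obtain ⟨t'', ht''⟩ := exists_k_eq U F W t' ((η_eq_zero_iff U F W t').2 ht'W)
    refine ⟨t'', ?_⟩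
    apply k_injective U F W'
    have nat := ConcreteCategory.congr_hom ((k U F).hom.naturality i) t''
    refine Eq.trans (Eq.trans rfl nat) ?_
    change (F.obj.map i).hom (((k U F).hom.app (op W)).hom t'') = _
    rw [ht'']
    exact (hmap i.unop (homOfLE hW) t').trans ht'W'

end Groth.Agent.H30.SectSupp

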