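import Groth.Prelude.Def_Wider
import Mathlib.RingTheory.FiniteLength
import Mathlib.RingTheory.Length
import Mathlib.RingTheory.LocalRing.ResidueField.Basic
import Mathlib.Algebra.Module.Injective

set_option autoImplicit false
set_option linter.unusedSectionVars false
universe u

namespace Groth.Agent.H30.Matlis

variable {A : Type u} [CommRing A] [IsLocalRing A]
variable {E : Type u} [AddCommGroup E] [Module A E]
variable (f : IsLocalRing.ResidueField A →ₗ[A] E) (hf : InjHull.IsInjectiveHull f)

local notation "k" => IsLocalRing.ResidueField A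

include hf in
/-- every linear map from the residue field to its injective hull is a multiple of `f` -/
lemma exists_smul_eq (g : k →ₗ[A] E) : ∃ a : A, g = a • f := by
  by_cases hg : g = 0
  · exact ⟨0, by simp [hg]⟩
  have h1 : g 1 ≠ 0 := by
    intro h
    apply hg
    ext x
    obtain ⟨a, rfl⟩ := IsLocalRing.residue_surjective x
    have : IsLocalRing.residue A a = a • (1 : k) := by
      rw [Algebra.smul_def, mul_one]; rfl
    rw [this, map_smul, h, smul_zero, LinearMap.zero_apply]
  have hN : LinearMap.range g ≠ ⊥ := by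
    intro h
    apply h1
    have : g 1 ∈ LinearMap.range g := ⟨1, rfl⟩
    rw [h] at this
    simpa using this
  have := hf.essential _ hN
  rw [Submodule.ne_bot_iff] at this
  obtain ⟨y, ⟨⟨x, hx⟩, ⟨c, hc⟩⟩, hy⟩ := this
  obtain ⟨a, rfl⟩ := IsLocalRing.residue_surjective x
  obtain ⟨c', rfl⟩ := IsLocalRing.residue_surjective c
  have ha : IsUnit a := by
    by_contra hna
    have : IsLocalRing.residue A a = 0 := (IsLocalRing.residue_eq_zero_iff a).2 hna
    rw [this, map_zero] at hx
    exact hy hx.symm
  obtain ⟨b, hb⟩ := ha.exists_left_inv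
  refine ⟨b * c', ?_⟩
  ext z
  obtain ⟨t, rfl⟩ := IsLocalRing.residue_surjective z
  have e1 : ∀ s : A, IsLocalRing.residue A s = s • (1 : k) := by
    intro s; rw [Algebra.smul_def, mul_one]; rfl
  rw [LinearMap.smul_apply, e1 t, map_smul, map_smul, smul_comm]
  congr 1
  have e2 : a • g 1 = c' • f 1 := by
    rw [← map_smul, ← map_smul, ← e1, ← e1, hx, hc]
  calc g 1 = (b * a) • g 1 := by rw [hb, one_smul]
    _ = b • (c' • f 1) := by rw [mul_smul, e2]
    _ = (b * c') • f 1 := by rw [mul_smul]

include hf in
lemma length_dual_simple_le (S : Type u) [AddCommGroup S] [Module A S] [IsSimpleModule A S] :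
    Module.length A (S →ₗ[A] E) ≤ 1 := by
  obtain ⟨m, hm, ⟨e⟩⟩ := isSimpleModule_iff_quot_maximal.mp (inferInstance : IsSimpleModule A S)
  obtain rfl := IsLocalRing.eq_maximalIdeal hm
  let e' : S ≃ₗ[A] k := e
  let φ₀ : S →ₗ[A] E := f ∘ₗ e'.toLinearMap
  let T : A →ₗ[A] (S →ₗ[A] E) := LinearMap.toSpanSingleton A (S →ₗ[A] E) φ₀
  have hT : IsLocalRing.maximalIdeal A ≤ LinearMap.ker T := by
    intro a ha
    rw [LinearMap.mem_ker]
    ext s
    change a • f (e' s) = 0
    rw [← map_smul]
    obtain ⟨t, ht⟩ := IsLocalRing.residue_surjective (e' s)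
    have : a • e' s = 0 := by
      rw [← ht, Algebra.smul_def]
      change IsLocalRing.residue A a * IsLocalRing.residue A t = 0
      rw [(IsLocalRing.residue_eq_zero_iff a).2 ha, zero_mul]
    rw [this, map_zero]
  let Φ : (A ⧸ IsLocalRing.maximalIdeal A) →ₗ[A] (S →ₗ[A] E) := Submodule.liftQ _ T hT
  have hΦ : Function.Surjective Φ := by
    intro g
    obtain ⟨a, ha⟩ := exists_smul_eq f hf (g ∘ₗ e'.symm.toLinearMap)
    refine ⟨Submodule.Quotient.mk a, ?_⟩
    change T a = g
    ext s
    have := congr($ha (e' s))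
    simp only [LinearMap.coe_comp, LinearEquiv.coe_coe, Function.comp_apply,
      LinearEquiv.symm_apply_apply, LinearMap.smul_apply] at this
    rw [this]
    rfl
  have hsimple : IsSimpleModule A (A ⧸ IsLocalRing.maximalIdeal A) :=
    isSimpleModule_iff_quot_maximal.mpr ⟨_, inferInstance, ⟨LinearEquiv.refl _ _⟩⟩
  calc Module.length A (S →ₗ[A] E) ≤ Module.length A (A ⧸ IsLocalRing.maximalIdeal A) :=
        Module.length_le_of_surjective Φ hΦ
    _ = 1 := Module.length_eq_one A _

omit [IsLocalRing A] in
/-- left exactness of the dual, in terms of lengths -/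
lemma length_dual_le_add {M : Type u} [AddCommGroup M] [Module A M] (N : Submodule A M) :
    Module.length A (M →ₗ[A] E) ≤
      Module.length A ((M ⧸ N) →ₗ[A] E) + Module.length A (N →ₗ[A] E) := by
  let r : (M →ₗ[A] E) →ₗ[A] (N →ₗ[A] E) := LinearMap.lcomp A E N.subtype
  let K := LinearMap.ker r
  have h1 := Module.length_eq_add_of_exact K.subtype K.mkQ (Submodule.subtype_injective _)
    (Submodule.mkQ_surjective _) (LinearMap.exact_subtype_mkQ K)
  have h2 : Module.length A ((M →ₗ[A] E) ⧸ K) ≤ Module.length A (N →ₗ[A] E) :=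
    Module.length_le_of_injective (K.liftQ r le_rfl) (by
      rw [← LinearMap.ker_eq_bot]
      exact Submodule.ker_liftQ_eq_bot _ _ _ le_rfl)
  have h3 : Module.length A K ≤ Module.length A ((M ⧸ N) →ₗ[A] E) := by
    let c : ((M ⧸ N) →ₗ[A] E) →ₗ[A] K :=
      LinearMap.codRestrict K (LinearMap.lcomp A E N.mkQ) (by
        intro φ
        rw [LinearMap.mem_ker]
        ext n
        change φ (N.mkQ n) = 0
        rw [Submodule.mkQ_apply, (Submodule.Quotient.mk_eq_zero N).2 n.2, map_zero])
    refine Module.length_le_of_surjective c ?_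
    rintro ⟨φ, hφ⟩
    have hφ' : N ≤ LinearMap.ker φ := by
      intro n hn
      rw [LinearMap.mem_ker]
      exact congr($hφ ⟨n, hn⟩)
    refine ⟨N.liftQ φ hφ', ?_⟩
    apply Subtype.ext
    ext m
    rfl
  rw [h1]
  exact add_le_add h3 h2

include hf in
lemma length_dual_le {M : Type u} [AddCommGroup M] [Module A M] (hM : IsFiniteLength A M) :
    Module.length A (M →ₗ[A] E) ≤ Module.length A M := by
  induction hM with
  | @of_subsingleton M _ _ _ =>
    have : Subsingleton (M →ₗ[A] E) := ⟨fun a b => LinearMap.ext fun x => by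
      rw [Subsingleton.elim x 0, map_zero, map_zero]⟩
    rw [Module.length_eq_zero]
    exact bot_le
  | @of_simple_quotient M _ _ N _ hN ih =>
    calc Module.length A (M →ₗ[A] E)
        ≤ Module.length A ((M ⧸ N) →ₗ[A] E) + Module.length A (N →ₗ[A] E) :=
          length_dual_le_add N
      _ ≤ 1 + Module.length A N := add_le_add (length_dual_simple_le f hf (M ⧸ N)) ih
      _ = Module.length A (M ⧸ N) + Module.length A N := by rw [Module.length_eq_one A (M ⧸ N)]
      _ = Module.length A M := by
          rw [add_comm]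
          exact (Module.length_eq_add_of_exact N.subtype N.mkQ (Submodule.subtype_injective _)
            (Submodule.mkQ_surjective _) (LinearMap.exact_subtype_mkQ N)).symm

include hf in
/-- `E` is a cogenerator: the evaluation map is injective for every module -/
lemma applyₗ_injective (M : Type u) [AddCommGroup M] [Module A M] :
    Function.Injective (LinearMap.applyₗ : M →ₗ[A] (M →ₗ[A] E) →ₗ[A] E) := by
  rw [injective_iff_map_eq_zero]
  intro m hm
  by_contra hne
  let T : A →ₗ[A] M := LinearMap.toSpanSingleton A M m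
  have hker : LinearMap.ker T ≤ IsLocalRing.maximalIdeal A := by
    apply IsLocalRing.le_maximalIdeal
    intro h
    have : (1 : A) ∈ LinearMap.ker T := h ▸ Submodule.mem_top
    rw [LinearMap.mem_ker, LinearMap.toSpanSingleton_apply, one_smul] at this
    exact hne this
  let q : (A ⧸ LinearMap.ker T) →ₗ[A] k :=
    Submodule.liftQ _ (Algebra.linearMap A k) (fun x hx => by
      rw [LinearMap.mem_ker, Algebra.linearMap_apply]
      exact (IsLocalRing.residue_eq_zero_iff x).2 (hker hx))
  let ψ : LinearMap.range T →ₗ[A] E := f ∘ₗ q ∘ₗ (LinearMap.quotKerEquivRange T).symm.toLinearMap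
  have := hf.isInjective
  obtain ⟨φ, hφ⟩ := Module.Injective.out (LinearMap.range T).subtype
    (Submodule.subtype_injective _) ψ
  have hm' : m ∈ LinearMap.range T := ⟨1, by simp [T]⟩
  have h1 : φ m = ψ ⟨m, hm'⟩ := hφ ⟨m, hm'⟩
  have h2 : (LinearMap.quotKerEquivRange T).symm ⟨m, hm'⟩ = Submodule.Quotient.mk 1 := by
    rw [LinearEquiv.symm_apply_eq]
    apply Subtype.ext
    change m = ((LinearMap.quotKerEquivRange T) (Submodule.Quotient.mk 1) : M)
    rw [LinearMap.quotKerEquivRange_apply_mk]
    simp [T]
  have h3 : ψ ⟨m, hm'⟩ = f 1 := by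
    change f (q ((LinearMap.quotKerEquivRange T).symm ⟨m, hm'⟩)) = f 1
    rw [h2]
    rfl
  have h4 : φ m = 0 := congr($hm φ)
  rw [h1, h3] at h4
  have := hf.injective (h4.trans (map_zero f).symm)
  exact one_ne_zero this


include hf in
/-- Matlis duality for modules of finite length -/
theorem applyₗ_bijective {M : Type u} [AddCommGroup M] [Module A M] (hM : IsFiniteLength A M) :
    Function.Bijective (LinearMap.applyₗ : M →ₗ[A] (M →ₗ[A] E) →ₗ[A] E) := by
  refine ⟨applyₗ_injective f hf M, ?_⟩
  have h1 : Module.length A (M →ₗ[A] E) ≤ Module.length A M := length_dual_le f hf hM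
  have hfin : Module.length A M ≠ ⊤ := Module.length_ne_top_iff.2 hM
  have hD : IsFiniteLength A (M →ₗ[A] E) :=
    Module.length_ne_top_iff.1 (ne_top_of_le_ne_top hfin h1)
  have h2 : Module.length A ((M →ₗ[A] E) →ₗ[A] E) ≤ Module.length A (M →ₗ[A] E) :=
    length_dual_le f hf hD
  have hDD : IsFiniteLength A ((M →ₗ[A] E) →ₗ[A] E) :=
    Module.length_ne_top_iff.1 (ne_top_of_le_ne_top hfin (h2.trans h1))
  rw [isFiniteLength_iff_isNoetherian_isArtinian] at hDD
  obtain ⟨_, _⟩ := hDD
  rw [← LinearMap.range_eq_top]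
  by_contra hne
  have h3 := Submodule.length_lt hne
  have h4 : Module.length A M ≤ Module.length A (LinearMap.range
      (LinearMap.applyₗ : M →ₗ[A] (M →ₗ[A] E) →ₗ[A] E)) :=
    Module.length_le_of_injective (LinearMap.rangeRestrict _) (by
      intro x y hxy
      exact applyₗ_injective f hf M congr(($hxy).1))
  exact absurd (h4.trans_lt h3) (not_lt.2 (h2.trans h1))

include hf in
/-- the dual of a module of finite length has the same length -/
theorem length_dual_eq {M : Type u} [AddCommGroup M] [Module A M] (hM : IsFiniteLength A M) :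
    Module.length A (M →ₗ[A] E) = Module.length A M := by
  have h1 : Module.length A (M →ₗ[A] E) ≤ Module.length A M := length_dual_le f hf hM
  have hfin : Module.length A M ≠ ⊤ := Module.length_ne_top_iff.2 hM
  have hD : IsFiniteLength A (M →ₗ[A] E) :=
    Module.length_ne_top_iff.1 (ne_top_of_le_ne_top hfin h1)
  have h2 : Module.length A ((M →ₗ[A] E) →ₗ[A] E) ≤ Module.length A (M →ₗ[A] E) :=
    length_dual_le f hf hD
  have h3 : Module.length A M ≤ Module.length A ((M →ₗ[A] E) →ₗ[A] E) :=
    Module.length_le_of_injective _ (applyₗ_injective f hf M)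
  exact le_antisymm h1 (h3.trans h2)

omit [IsLocalRing A] in
lemma isFiniteLength_of_finite_of_isArtinianRing [IsArtinianRing A] (M : Type u) [AddCommGroup M]
    [Module A M] [Module.Finite A M] : IsFiniteLength A M := by
  rw [isFiniteLength_iff_isNoetherian_isArtinian]
  exact ⟨inferInstance, inferInstance⟩

end Groth.Agent.H30.Matlis
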