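import Mathlib.CategoryTheory.Abelian.RightDerived
import Mathlib.Algebra.Homology.ShortComplex.ExactFunctor
import Mathlib.Algebra.Homology.QuasiIso

/-!
# `Rᵠ(T ⋙ S) ≅ T ⋙ RᵠS` (as functors) for an exact functor `T` preserving injectives
-/

set_option autoImplicit false
set_option linter.unusedSectionVars false
universe v v' v'' u u' u''
open CategoryTheory Limits

namespace Groth.Agent.H30.DerivedComp

variable {C : Type u} [Category.{v} C] [Abelian C] [HasInjectiveResolutions C]
  {C' : Type u'} [Category.{v'} C'] [Abelian C'] [HasInjectiveResolutions C']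
  {D : Type u''} [Category.{v''} D] [Abelian D]
  (T : C ⥤ C') [T.Additive] [PreservesFiniteLimits T] [PreservesFiniteColimits T]
  (hT : ∀ Q : C, Injective Q → Injective (T.obj Q))
  (S : C' ⥤ D) [S.Additive]

include hT in
/-- The image of an injective resolution under an exact functor preserving injectives. -/
noncomputable def mapRes {X : C} (I : InjectiveResolution X) : InjectiveResolution (T.obj X) where
  cocomplex := (T.mapHomologicalComplex _).obj I.cocomplex
  injective n := hT _ (I.injective n)
  ι := (HomologicalComplex.singleMapHomologicalComplex T (ComplexShape.up ℕ) 0).inv.app X ≫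
    (T.mapHomologicalComplex _).map I.ι
  quasiIso := by
    have : QuasiIso ((T.mapHomologicalComplex (ComplexShape.up ℕ)).map I.ι) := inferInstance
    infer_instance

lemma mapRes_comm {X Y : C} (f : X ⟶ Y) (I : InjectiveResolution X) (J : InjectiveResolution Y)
    (φ : I.cocomplex ⟶ J.cocomplex) (w : I.ι ≫ φ = (CochainComplex.single₀ C).map f ≫ J.ι) :
    (mapRes T hT I).ι ≫ (T.mapHomologicalComplex _).map φ =
      (CochainComplex.single₀ C').map (T.map f) ≫ (mapRes T hT J).ι := by
  dsimp only [mapRes]
  rw [Category.assoc, ← Functor.map_comp, w, Functor.map_comp]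
  exact ((HomologicalComplex.singleMapHomologicalComplex T (ComplexShape.up ℕ) 0).inv.naturality_assoc
    f _).symm

/-- The components of `rightDerivedCompIso`. -/
noncomputable def compIsoApp (q : ℕ) (X : C) :
    ((T ⋙ S).rightDerived q).obj X ≅ (S.rightDerived q).obj (T.obj X) :=
  (injectiveResolution X).isoRightDerivedObj (T ⋙ S) q ≪≫
    ((mapRes T hT (injectiveResolution X)).isoRightDerivedObj S q).symm

lemma compIsoApp_naturality (q : ℕ) {X Y : C} (f : X ⟶ Y) :
    ((T ⋙ S).rightDerived q).map f ≫ (compIsoApp T hT S q Y).hom =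
      (compIsoApp T hT S q X).hom ≫ (S.rightDerived q).map (T.map f) := by
  let I := injectiveResolution X
  let J := injectiveResolution Y
  let φ := InjectiveResolution.desc f J I
  have w : I.ι ≫ φ = (CochainComplex.single₀ C).map f ≫ J.ι :=
    InjectiveResolution.desc_commutes f J I
  have w0 : I.ι.f 0 ≫ φ.f 0 = f ≫ J.ι.f 0 := InjectiveResolution.desc_commutes_zero f J I
  have w0' : (mapRes T hT I).ι.f 0 ≫ ((T.mapHomologicalComplex _).map φ).f 0 =
      T.map f ≫ (mapRes T hT J).ι.f 0 :=
    (HomologicalComplex.congr_hom (mapRes_comm T hT f I J φ w) 0).trans (by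
      rw [HomologicalComplex.comp_f, CochainComplex.single₀_map_f_zero]
      rfl)
  have n1 := InjectiveResolution.isoRightDerivedObj_hom_naturality f I J φ w0 (T ⋙ S) q
  have n2 := InjectiveResolution.isoRightDerivedObj_inv_naturality (T.map f) (mapRes T hT I)
    (mapRes T hT J) ((T.mapHomologicalComplex _).map φ) w0' S q
  have e1 : (compIsoApp T hT S q Y).hom = (J.isoRightDerivedObj (T ⋙ S) q).hom ≫
      ((mapRes T hT J).isoRightDerivedObj S q).inv := rfl
  have e2 : (compIsoApp T hT S q X).hom = (I.isoRightDerivedObj (T ⋙ S) q).hom ≫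
      ((mapRes T hT I).isoRightDerivedObj S q).inv := rfl
  rw [e1, e2]
  calc _ = (((T ⋙ S).rightDerived q).map f ≫ (J.isoRightDerivedObj (T ⋙ S) q).hom) ≫
        ((mapRes T hT J).isoRightDerivedObj S q).inv := (Category.assoc _ _ _).symm
    _ = ((I.isoRightDerivedObj (T ⋙ S) q).hom ≫ _) ≫
        ((mapRes T hT J).isoRightDerivedObj S q).inv := by rw [n1]; rfl
    _ = (I.isoRightDerivedObj (T ⋙ S) q).hom ≫ (_ ≫
        ((mapRes T hT J).isoRightDerivedObj S q).inv) := Category.assoc _ _ _
    _ = (I.isoRightDerivedObj (T ⋙ S) q).hom ≫ (((mapRes T hT I).isoRightDerivedObj S q).inv ≫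
        (S.rightDerived q).map (T.map f)) := congrArg _ n2.symm
    _ = _ := (Category.assoc _ _ _).symm

/-- `Rᵠ(T ⋙ S) ≅ T ⋙ RᵠS`. -/
noncomputable def rightDerivedCompIso (q : ℕ) : (T ⋙ S).rightDerived q ≅ T ⋙ S.rightDerived q :=
  NatIso.ofComponents (fun X => compIsoApp T hT S q X)
    (fun f => compIsoApp_naturality T hT S q f)

end Groth.Agent.H30.DerivedComp
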