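import Groth.Prelude.Def_OmegaPn

/-!
# Principal parts on schemes: order zero (helper30)
-/

set_option autoImplicit false
set_option linter.unusedSectionVars false
set_option linter.style.haveILetI false
universe u
open CategoryTheory CategoryTheory.Limits AlgebraicGeometry TopologicalSpace Opposite

namespace Groth.Agent.H30.PP

section
variable {X Y : Scheme.{u}} (p : Y ⟶ X) [IsIso p]

/-- pushforward along an isomorphism of schemes is an equivalence -/
noncomputable def pushforwardEquiv : Y.Modules ≌ X.Modules :=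
  CategoryTheory.Equivalence.mk (Scheme.Modules.pushforward p) (Scheme.Modules.pushforward (inv p))
    ((Scheme.Modules.pushforwardId Y).symm ≪≫
      Scheme.Modules.pushforwardCongr (IsIso.hom_inv_id p).symm ≪≫
      (Scheme.Modules.pushforwardComp p (inv p)).symm)
    (Scheme.Modules.pushforwardComp (inv p) p ≪≫
      Scheme.Modules.pushforwardCongr (IsIso.inv_hom_id p) ≪≫ Scheme.Modules.pushforwardId X)

instance : (Scheme.Modules.pushforward p).IsEquivalence :=
  (pushforwardEquiv p).isEquivalence_functor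

instance : IsIso (Scheme.Modules.pullbackPushforwardAdjunction p).unit := inferInstance

lemma pullSect_bijective (F : X.Modules) (U : X.Opens) :
    Function.Bijective (OmegaSh.pullSect p F U) := by
  have : IsIso ((Scheme.Modules.pullbackPushforwardAdjunction p).unit.app F) := inferInstance
  have : IsIso (((Scheme.Modules.pullbackPushforwardAdjunction p).unit.app F).app U) :=
    inferInstance
  exact ConcreteCategory.bijective_of_isIso
    (((Scheme.Modules.pullbackPushforwardAdjunction p).unit.app F).app U)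

end


section
variable {X Y : Scheme.{u}} (i : Y ⟶ X)

lemma isIso_inclusion_of_eq {I J : X.IdealSheafData} (h : I ≤ J) (h' : J ≤ I) :
    IsIso (Scheme.IdealSheafData.inclusion h) :=
  ⟨⟨Scheme.IdealSheafData.inclusion h', by
    rw [Scheme.IdealSheafData.inclusion_comp, Scheme.IdealSheafData.inclusion_id], by
    rw [Scheme.IdealSheafData.inclusion_comp, Scheme.IdealSheafData.inclusion_id]⟩⟩

instance isIso_toInfNbhd_zero [IsClosedImmersion i] : IsIso (PrinPart.toInfNbhd i 0) := by
  have h' : i.ker ≤ i.ker ^ (0 + 1) := by rw [zero_add, pow_one]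
  have := isIso_inclusion_of_eq (PrinPart.ker_pow_succ_le i 0) h'
  unfold PrinPart.toInfNbhd
  infer_instance

end

section
variable {X S : Scheme.{u}} (f : X ⟶ S)

instance : IsIso (PrinPart.toNbhd f 0) := isIso_toInfNbhd_zero _

lemma pr1_zero_eq : PrinPart.pr1 f 0 = inv (PrinPart.toNbhd f 0) := by
  rw [← cancel_epi (PrinPart.toNbhd f 0), PrinPart.toNbhd_pr1, IsIso.hom_inv_id]

lemma pr2_zero_eq : PrinPart.pr2 f 0 = inv (PrinPart.toNbhd f 0) := by
  rw [← cancel_epi (PrinPart.toNbhd f 0), PrinPart.toNbhd_pr2, IsIso.hom_inv_id]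

lemma pr1_zero_eq_pr2 : PrinPart.pr1 f 0 = PrinPart.pr2 f 0 := by
  rw [pr1_zero_eq, pr2_zero_eq]

instance : IsIso (PrinPart.pr1 f 0) := by rw [pr1_zero_eq]; infer_instance
instance : IsIso (PrinPart.pr2 f 0) := by rw [pr2_zero_eq]; infer_instance
end


section
variable {X : Scheme.{u}}

noncomputable def homOfLinear (F G : X.Modules) (D : F.presheaf ⟶ G.presheaf)
    (hD : ∀ (U : X.Opens) (a : Γ(X, U)) (t : Γ(F, U)), D.app (op U) (a • t) = a • D.app (op U) t) :
    F ⟶ G :=
  ⟨PresheafOfModules.homMk D (fun U r m => hD U.unop r m)⟩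

lemma homOfLinear_app (F G : X.Modules) (D : F.presheaf ⟶ G.presheaf)
    (hD : ∀ (U : X.Opens) (a : Γ(X, U)) (t : Γ(F, U)), D.app (op U) (a • t) = a • D.app (op U) t)
    (U : X.Opens) (t : Γ(F, U)) : (homOfLinear F G D hD).app U t = D.app (op U) t := rfl

lemma map_app_of_eq {Y : Scheme.{u}} {p q : Y ⟶ X} (hpq : q = p) (U : X.Opens)
    (e : p ⁻¹ᵁ U ≤ q ⁻¹ᵁ U) (a : Γ(X, U)) :
    Y.presheaf.map (homOfLE e).op (q.app U a) = p.app U a := by
  subst hpq
  have : homOfLE e = 𝟙 _ := Subsingleton.elim _ _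
  rw [this]
  simp

end

section
variable {X S : Scheme.{u}} (f : X ⟶ S)

lemma dP_zero_smul (F : X.Modules) (U : X.Opens) (a : Γ(X, U)) (t : Γ(F, U)) :
    PrinPart.dP f 0 F U (a • t) = a • PrinPart.dP f 0 F U t := by
  rw [PrinPart.dP_apply, PrinPart.dP_apply, OmegaSh.pullSect_smul, Scheme.Modules.map_smul,
    map_app_of_eq (pr1_zero_eq_pr2 f).symm]
  rfl

/-- `d^0` as an isomorphism of modules -/
noncomputable def dZero (F : X.Modules) : F ⟶ PrinPart.PMod f 0 F :=
  (Scheme.Modules.pullbackPushforwardAdjunction (PrinPart.pr2 f 0)).unit.app F ≫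
    (Scheme.Modules.pushforwardCongr (pr1_zero_eq_pr2 f).symm).hom.app _

instance (F : X.Modules) : IsIso (dZero f F) := by
  have h0 : IsIso (Scheme.Modules.pullbackPushforwardAdjunction (PrinPart.pr2 f 0)).unit :=
    inferInstance
  have h1 : IsIso ((Scheme.Modules.pullbackPushforwardAdjunction (PrinPart.pr2 f 0)).unit.app F) :=
    inferInstance
  have h2 : IsIso ((Scheme.Modules.pushforwardCongr (pr1_zero_eq_pr2 f).symm).hom.app
      ((Scheme.Modules.pullback (PrinPart.pr2 f 0)).obj F)) :=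
    ((Scheme.Modules.pushforwardCongr (pr1_zero_eq_pr2 f).symm).app
      ((Scheme.Modules.pullback (PrinPart.pr2 f 0)).obj F)).isIso_hom
  exact @IsIso.comp_isIso _ _ _ _ _ _ _ h1 h2

lemma dZero_app (F : X.Modules) (U : X.Opens) (t : Γ(F, U)) :
    (dZero f F).app U t = PrinPart.dP f 0 F U t := rfl

end

section
variable {X Y Z : Scheme.{u}} (j : Z ⟶ Y) (q : Y ⟶ X)

lemma pullbackComp_pullSect (M : X.Modules) (U : X.Opens) (t : Γ(M, U)) :
    ((Scheme.Modules.pullbackComp j q).hom.app M).app ((j ≫ q) ⁻¹ᵁ U)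
      (OmegaSh.pullSect j ((Scheme.Modules.pullback q).obj M) (q ⁻¹ᵁ U)
        (OmegaSh.pullSect q M U t)) = OmegaSh.pullSect (j ≫ q) M U t := by
  have h := unit_conjugateEquiv
    ((Scheme.Modules.pullbackPushforwardAdjunction q).comp
      (Scheme.Modules.pullbackPushforwardAdjunction j))
    (Scheme.Modules.pullbackPushforwardAdjunction (j ≫ q))
    (Scheme.Modules.pullbackComp j q).inv M
  rw [Scheme.Modules.conjugateEquiv_pullbackComp_inv] at h
  have h2 := congr(($h).app U t)
  simp only [Scheme.Modules.Hom.comp_app, Adjunction.comp_unit_app] at h2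
  have h3 : OmegaSh.pullSect j ((Scheme.Modules.pullback q).obj M) (q ⁻¹ᵁ U)
      (OmegaSh.pullSect q M U t) =
      ((Scheme.Modules.pullbackComp j q).inv.app M).app ((j ≫ q) ⁻¹ᵁ U)
        (OmegaSh.pullSect (j ≫ q) M U t) := h2
  rw [h3, ← ConcreteCategory.comp_apply, ← Scheme.Modules.Hom.comp_app, Iso.inv_hom_id_app]
  rfl


/-- module morphisms commute with restriction -/
lemma hom_app_map {M N : X.Modules} (φ : M ⟶ N) {U V : X.Opens} (e : V ≤ U) (x : Γ(M, U)) :
    φ.app V (M.presheaf.map (homOfLE e).op x) = N.presheaf.map (homOfLE e).op (φ.app U x) :=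
  congr($((Scheme.Modules.Hom.mapPresheaf φ).naturality (homOfLE e).op) x)

/-- the general operator `t ↦ 1 ⊗ t : F → p_* q^* F` for two morphisms agreeing on points -/
noncomputable def dGen (p q : Y ⟶ X) (hpq : ∀ U : X.Opens, p ⁻¹ᵁ U ≤ q ⁻¹ᵁ U) (F : X.Modules)
    (U : X.Opens) (t : Γ(F, U)) :
    Γ((Scheme.Modules.pushforward p).obj ((Scheme.Modules.pullback q).obj F), U) :=
  ((Scheme.Modules.pullback q).obj F).presheaf.map (homOfLE (hpq U)).op (OmegaSh.pullSect q F U t)

/-- transition maps between `p_* q^* F` -/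
lemma exists_trans (p q : Y ⟶ X) (p' q' : Z ⟶ X) (hp : j ≫ p = p') (hq : j ≫ q = q')
    (hpq : ∀ U : X.Opens, p ⁻¹ᵁ U ≤ q ⁻¹ᵁ U) (hpq' : ∀ U : X.Opens, p' ⁻¹ᵁ U ≤ q' ⁻¹ᵁ U)
    (F : X.Modules) :
    ∃ τ : (Scheme.Modules.pushforward p).obj ((Scheme.Modules.pullback q).obj F) ⟶
        (Scheme.Modules.pushforward p').obj ((Scheme.Modules.pullback q').obj F),
      ∀ (U : X.Opens) (t : Γ(F, U)), τ.app U (dGen p q hpq F U t) = dGen p' q' hpq' F U t := by
  subst hp hq
  refine ⟨(Scheme.Modules.pushforward p).map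
      ((Scheme.Modules.pullbackPushforwardAdjunction j).unit.app _) ≫
    (Scheme.Modules.pushforwardComp j p).hom.app _ ≫
    (Scheme.Modules.pushforward (j ≫ p)).map ((Scheme.Modules.pullbackComp j q).hom.app F), ?_⟩
  intro U t
  have e1 : ((Scheme.Modules.pushforward p).map
      ((Scheme.Modules.pullbackPushforwardAdjunction j).unit.app
        ((Scheme.Modules.pullback q).obj F))).app U (dGen p q hpq F U t) =
      ((Scheme.Modules.pullback j).obj ((Scheme.Modules.pullback q).obj F)).presheaf.map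
        (homOfLE (j.preimage_mono (hpq U))).op
        (OmegaSh.pullSect j ((Scheme.Modules.pullback q).obj F) (q ⁻¹ᵁ U)
          (OmegaSh.pullSect q F U t)) :=
    OmegaSh.pullSect_map j _ (hpq U) _
  have e2 : ∀ x, ((Scheme.Modules.pushforward p).map
      ((Scheme.Modules.pullbackPushforwardAdjunction j).unit.app _) ≫
    (Scheme.Modules.pushforwardComp j p).hom.app _ ≫
    (Scheme.Modules.pushforward (j ≫ p)).map ((Scheme.Modules.pullbackComp j q).hom.app F)).app U x =
    ((Scheme.Modules.pullbackComp j q).hom.app F).app ((j ≫ p) ⁻¹ᵁ U)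
      (((Scheme.Modules.pushforward p).map
      ((Scheme.Modules.pullbackPushforwardAdjunction j).unit.app
        ((Scheme.Modules.pullback q).obj F))).app U x) := fun x => rfl
  rw [e2, e1]
  have e3 := hom_app_map ((Scheme.Modules.pullbackComp j q).hom.app F) (j.preimage_mono (hpq U))
    (OmegaSh.pullSect j ((Scheme.Modules.pullback q).obj F) (q ⁻¹ᵁ U) (OmegaSh.pullSect q F U t))
  have e4 := pullbackComp_pullSect j q F U t
  refine e3.trans ?_
  exact congrArg (fun z => (((Scheme.Modules.pullback (j ≫ q)).obj F).presheaf.map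
    (homOfLE (hpq' U)).op) z) e4

end

section
variable {X S : Scheme.{u}} (f : X ⟶ S)

lemma infNbhdMap_pr1 {n m : ℕ} (h : n ≤ m) :
    PrinPart.infNbhdMap (PrinPart.diagCl f) h ≫ PrinPart.pr1 f m = PrinPart.pr1 f n := by
  simp [PrinPart.pr1, PrinPart.nbhdι]

lemma infNbhdMap_pr2 {n m : ℕ} (h : n ≤ m) :
    PrinPart.infNbhdMap (PrinPart.diagCl f) h ≫ PrinPart.pr2 f m = PrinPart.pr2 f n := by
  simp [PrinPart.pr2, PrinPart.nbhdι]

/-- the transition map `P^m(F) ⟶ P^n(F)` for `n ≤ m`, compatible with `d` -/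
lemma exists_PMod_trans {n m : ℕ} (h : n ≤ m) (F : X.Modules) :
    ∃ τ : PrinPart.PMod f m F ⟶ PrinPart.PMod f n F,
      ∀ (U : X.Opens) (t : Γ(F, U)),
        τ.app U (PrinPart.dP f m F U t) = PrinPart.dP f n F U t :=
  exists_trans (PrinPart.infNbhdMap (PrinPart.diagCl f) h) (PrinPart.pr1 f m) (PrinPart.pr2 f m)
    (PrinPart.pr1 f n) (PrinPart.pr2 f n) (infNbhdMap_pr1 f h) (infNbhdMap_pr2 f h)
    (fun U => (PrinPart.preimage_pr1 f m U).le) (fun U => (PrinPart.preimage_pr1 f n U).le) F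

end
end Groth.Agent.H30.PP
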