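import Mathlib.Algebra.Homology.HomotopyCategory.KInjective
import Mathlib.Algebra.Homology.ShortComplex.ExactFunctor
import Mathlib.CategoryTheory.Adjunction.Additive

/-!
# A right adjoint of an exact functor preserves K-injective complexes
-/

set_option autoImplicit false
universe v v' u u'
open CategoryTheory Limits

namespace Groth.Agent.H30.KInjAdj

variable {C : Type u} [Category.{v} C] [Abelian C] {D : Type u'} [Category.{v'} D] [Abelian D]
  {L : C ⥤ D} {R : D ⥤ C} (adj : L ⊣ R) [L.Additive] [R.Additive]

omit [Abelian C] [Abelian D] [L.Additive] [R.Additive] in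
lemma aux1 {A A' : C} {B B' : D} (g : A ⟶ R.obj B) (g' : A' ⟶ R.obj B') (a : A ⟶ A')
    (b : B ⟶ B') (h : g ≫ R.map b = a ≫ g') :
    (L.map g ≫ adj.counit.app B) ≫ b = L.map a ≫ L.map g' ≫ adj.counit.app B' := by
  have h2 : L.map (R.map b) ≫ adj.counit.app B' = adj.counit.app B ≫ b :=
    adj.counit.naturality b
  rw [Category.assoc, ← h2, ← Category.assoc, ← Category.assoc, ← L.map_comp, h, L.map_comp]

omit [Abelian C] [Abelian D] [L.Additive] [R.Additive] in
lemma aux2 {A : C} {B : D} (g : A ⟶ R.obj B) :
    adj.unit.app A ≫ R.map (L.map g ≫ adj.counit.app B) = g := by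
  have h : g ≫ adj.unit.app (R.obj B) = adj.unit.app A ≫ R.map (L.map g) :=
    adj.unit.naturality g
  rw [R.map_comp, ← Category.assoc, ← h, Category.assoc, adj.right_triangle_components]
  exact Category.comp_id _

/-- The unit on complexes. -/
def unitCx (K : CochainComplex C ℤ) :
    K ⟶ (R.mapHomologicalComplex _).obj ((L.mapHomologicalComplex _).obj K) where
  f n := adj.unit.app (K.X n)
  comm' i j _ := (adj.unit.naturality (K.d i j)).symm

/-- The adjoint of a morphism of complexes `K ⟶ R I`. -/
def adjCx {K : CochainComplex C ℤ} {I : CochainComplex D ℤ}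
    (f : K ⟶ (R.mapHomologicalComplex _).obj I) : (L.mapHomologicalComplex _).obj K ⟶ I where
  f n := L.map (f.f n) ≫ adj.counit.app (I.X n)
  comm' i j _ := aux1 adj (f.f i) (f.f j) (K.d i j) (I.d i j) (f.comm i j)

lemma unitCx_adjCx {K : CochainComplex C ℤ} {I : CochainComplex D ℤ}
    (f : K ⟶ (R.mapHomologicalComplex _).obj I) :
    unitCx adj K ≫ (R.mapHomologicalComplex _).map (adjCx adj f) = f := by
  ext n
  exact aux2 adj (f.f n)

variable [PreservesFiniteLimits L] [PreservesFiniteColimits L]

lemma acyclic_map {K : CochainComplex C ℤ} (hK : K.Acyclic) :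
    ((L.mapHomologicalComplex _).obj K).Acyclic := by
  intro n
  have h := hK n
  rw [HomologicalComplex.exactAt_iff] at h ⊢
  exact h.map L

include adj in
/-- A right adjoint of an exact functor preserves K-injective complexes. -/
theorem isKInjective_map (I : CochainComplex D ℤ) [I.IsKInjective] :
    CochainComplex.IsKInjective ((R.mapHomologicalComplex _).obj I) where
  nonempty_homotopy_zero {K} f hK := by
    have h0 : Homotopy (adjCx adj f) 0 :=
      CochainComplex.IsKInjective.homotopyZero _ (acyclic_map hK)
    have h1 : Homotopy ((R.mapHomologicalComplex _).map (adjCx adj f))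
        ((R.mapHomologicalComplex _).map 0) := R.mapHomotopy h0
    have h2 := h1.compLeft (unitCx adj K)
    rw [unitCx_adjCx, Functor.map_zero, comp_zero] at h2
    exact ⟨h2⟩

end Groth.Agent.H30.KInjAdj
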