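import Mathlib

/-!
# Bijectivity loci for a triangulated functor

For an additive triangulated functor `Φ : T ⥤ T'`, we study the pairs `(K, L)` such that
`Φ` induces a bijection `(K ⟶ L) → (Φ K ⟶ Φ L)`, and show that the "stable" version
(all shifts) is closed under extensions in both variables.
-/

set_option autoImplicit false
set_option linter.unusedSectionVars false
open CategoryTheory Limits Pretriangulated

namespace Groth.Agent.H30.BddEquiv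

variable {T T' : Type*} [Category T] [Category T'] [Preadditive T] [Preadditive T']
  [HasZeroObject T] [HasZeroObject T'] [HasShift T ℤ] [HasShift T' ℤ]
  [∀ n : ℤ, (shiftFunctor T n).Additive] [∀ n : ℤ, (shiftFunctor T' n).Additive]
  [Pretriangulated T] [Pretriangulated T']
  (Φ : T ⥤ T') [Φ.Additive] [Φ.CommShift ℤ] [Φ.IsTriangulated]

/-- injectivity of `Φ` on `K ⟶ L` -/
def INJ (K L : T) : Prop := ∀ φ : K ⟶ L, Φ.map φ = 0 → φ = 0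

/-- surjectivity of `Φ` on `K ⟶ L` -/
def SURJ (K L : T) : Prop := ∀ χ : Φ.obj K ⟶ Φ.obj L, ∃ φ : K ⟶ L, Φ.map φ = χ

/-- bijectivity of `Φ` on `K ⟶ L` -/
def BIJ (K L : T) : Prop := INJ Φ K L ∧ SURJ Φ K L

variable {Φ}

lemma BIJ.bijective {K L : T} (h : BIJ Φ K L) :
    Function.Bijective (fun φ : K ⟶ L => Φ.map φ) := by
  constructor
  · intro φ ψ hφψ
    have h1 : Φ.map (φ - ψ) = 0 := by
      rw [Φ.map_sub]
      exact sub_eq_zero.2 hφψ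
    exact sub_eq_zero.1 (h.1 _ h1)
  · intro χ
    exact h.2 χ

lemma BIJ.of_bijective {K L : T} (h : Function.Bijective (fun φ : K ⟶ L => Φ.map φ)) :
    BIJ Φ K L := by
  constructor
  · intro φ hφ
    apply h.1
    change Φ.map φ = Φ.map 0
    rw [hφ, Φ.map_zero]
  · intro χ
    exact h.2 χ

lemma BIJ.of_iso {K K' L L' : T} (eK : K ≅ K') (eL : L ≅ L') (h : BIJ Φ K L) :
    BIJ Φ K' L' := by
  constructor
  · intro φ hφ
    have h1 : Φ.map (eK.hom ≫ φ ≫ eL.inv) = 0 := by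
      rw [Φ.map_comp, Φ.map_comp, hφ, zero_comp, comp_zero]
    have h2 := h.1 _ h1
    have h3 : φ = eK.inv ≫ (eK.hom ≫ φ ≫ eL.inv) ≫ eL.hom := by simp
    rw [h3, h2, zero_comp, comp_zero]
  · intro χ
    obtain ⟨φ, hφ⟩ := h.2 (Φ.map eK.hom ≫ χ ≫ Φ.map eL.inv)
    refine ⟨eK.inv ≫ φ ≫ eL.hom, ?_⟩
    rw [Φ.map_comp, Φ.map_comp, hφ]
    simp only [Category.assoc, ← Φ.map_comp, Iso.inv_hom_id, Φ.map_id, Category.comp_id]
    rw [← Category.assoc, ← Φ.map_comp, Iso.inv_hom_id, Φ.map_id, Category.id_comp]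

lemma BIJ.of_isZero_right {K L : T} (hL : IsZero L) : BIJ Φ K L := by
  constructor
  · intro φ _
    exact hL.eq_of_tgt _ _
  · intro χ
    exact ⟨0, (Φ.map_isZero hL).eq_of_tgt _ _⟩

lemma BIJ.of_isZero_left {K L : T} (hK : IsZero K) : BIJ Φ K L := by
  constructor
  · intro φ _
    exact hK.eq_of_src _ _
  · intro χ
    exact ⟨0, (Φ.map_isZero hK).eq_of_src _ _⟩

lemma BIJ.shift {K L : T} (h : BIJ Φ K L) (m : ℤ) : BIJ Φ (K⟦m⟧) (L⟦m⟧) := by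
  have nat : ∀ φ : K ⟶ L, Φ.map (φ⟦m⟧') ≫ (Φ.commShiftIso m).hom.app L =
      (Φ.commShiftIso m).hom.app K ≫ (Φ.map φ)⟦m⟧' :=
    fun φ => (Φ.commShiftIso m).hom.naturality φ
  constructor
  · intro ψ hψ
    obtain ⟨φ, rfl⟩ := (shiftFunctor T m).map_surjective ψ
    have h1 := nat φ
    rw [hψ, zero_comp] at h1
    have h2 : (Φ.map φ)⟦m⟧' = 0 := by
      have := congrArg (fun z => (Φ.commShiftIso m).inv.app K ≫ z) h1
      simpa using this.symm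
    have h3 : Φ.map φ = 0 := by
      apply (shiftFunctor T' m).map_injective
      rw [h2, Functor.map_zero]
    rw [h.1 φ h3, Functor.map_zero]
  · intro χ
    obtain ⟨θ, hθ⟩ := (shiftFunctor T' m).map_surjective
      ((Φ.commShiftIso m).inv.app K ≫ χ ≫ (Φ.commShiftIso m).hom.app L)
    obtain ⟨φ, rfl⟩ := h.2 θ
    refine ⟨φ⟦m⟧', ?_⟩
    have h1 := nat φ
    rw [hθ] at h1
    have h2 := congrArg (fun z => z ≫ (Φ.commShiftIso m).inv.app L) h1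
    simpa using h2

section Five

variable (Tr : Triangle T) (hT : Tr ∈ distTriang T)
include hT

/-- five lemma, first variable, injectivity -/
lemma inj_obj₂_left (L : T) (h1 : INJ Φ Tr.obj₁ L) (h1s : SURJ Φ (Tr.obj₁⟦(1 : ℤ)⟧) L)
    (h3 : INJ Φ Tr.obj₃ L) : INJ Φ Tr.obj₂ L := by
  intro φ hφ
  have e1 : Tr.mor₁ ≫ φ = 0 := h1 _ (by rw [Φ.map_comp, hφ, comp_zero])
  obtain ⟨ψ, rfl⟩ := Triangle.yoneda_exact₂ Tr hT φ e1
  have hR := Φ.map_distinguished _ (rot_of_distTriang _ hT)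
  have e2 : (Φ.mapTriangle.obj Tr.rotate).mor₁ ≫ Φ.map ψ = 0 := by
    change Φ.map Tr.mor₂ ≫ Φ.map ψ = 0
    rw [← Φ.map_comp]
    exact hφ
  obtain ⟨g, hg⟩ := Triangle.yoneda_exact₂ _ hR (Φ.map ψ) e2
  let g' : Φ.obj (Tr.obj₁⟦(1 : ℤ)⟧) ⟶ Φ.obj L := g
  have hg' : Φ.map ψ = Φ.map Tr.mor₃ ≫ g' := hg
  obtain ⟨χ, hχ⟩ := h1s g'
  have e4 : Φ.map (ψ - Tr.mor₃ ≫ χ) = 0 := by
    rw [Φ.map_sub, Φ.map_comp, hχ, hg', sub_self]
  have e5 : ψ = Tr.mor₃ ≫ χ := sub_eq_zero.1 (h3 _ e4)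
  rw [e5, ← Category.assoc, comp_distTriang_mor_zero₂₃ _ hT, zero_comp]

/-- five lemma, first variable, surjectivity -/
lemma surj_obj₂_left (L : T) (h1 : SURJ Φ Tr.obj₁ L) (h3 : SURJ Φ Tr.obj₃ L)
    (h3s : INJ Φ (Tr.obj₃⟦(-1 : ℤ)⟧) L) : SURJ Φ Tr.obj₂ L := by
  intro g
  obtain ⟨a, ha⟩ := h1 (Φ.map Tr.mor₁ ≫ g)
  have hI := inv_rot_of_distTriang _ hT
  let ι : Tr.obj₃⟦(-1 : ℤ)⟧ ⟶ Tr.obj₁ := Tr.invRotate.mor₁
  have hι : ι ≫ Tr.mor₁ = 0 := comp_distTriang_mor_zero₁₂ _ hI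
  have e1 : ι ≫ a = 0 := by
    apply h3s
    rw [Φ.map_comp, ha, ← Category.assoc, ← Φ.map_comp, hι, Φ.map_zero, zero_comp]
  obtain ⟨b, hb⟩ := Triangle.yoneda_exact₂ _ hI a e1
  let b' : Tr.obj₂ ⟶ L := b
  have hb' : a = Tr.mor₁ ≫ b' := hb
  have hM := Φ.map_distinguished _ hT
  have e2 : (Φ.mapTriangle.obj Tr).mor₁ ≫ (g - Φ.map b') = 0 := by
    change Φ.map Tr.mor₁ ≫ (g - Φ.map b') = 0
    rw [Preadditive.comp_sub, ← ha, hb', Φ.map_comp, sub_self]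
  obtain ⟨c', hc'⟩ := Triangle.yoneda_exact₂ _ hM (g - Φ.map b') e2
  let c'' : Φ.obj Tr.obj₃ ⟶ Φ.obj L := c'
  have hc'' : g - Φ.map b' = Φ.map Tr.mor₂ ≫ c'' := hc'
  obtain ⟨c, hc⟩ := h3 c''
  refine ⟨b' + Tr.mor₂ ≫ c, ?_⟩
  rw [Φ.map_add, Φ.map_comp, hc, ← hc'']
  abel

/-- five lemma, second variable, injectivity -/
lemma inj_obj₂_right (K : T) (h1 : INJ Φ K Tr.obj₁) (h3 : INJ Φ K Tr.obj₃)
    (h3s : SURJ Φ K (Tr.obj₃⟦(-1 : ℤ)⟧)) : INJ Φ K Tr.obj₂ := by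
  intro φ hφ
  have e1 : φ ≫ Tr.mor₂ = 0 := h3 _ (by rw [Φ.map_comp, hφ, zero_comp])
  obtain ⟨ψ, rfl⟩ := Triangle.coyoneda_exact₂ Tr hT φ e1
  have hI := inv_rot_of_distTriang _ hT
  let ι : Tr.obj₃⟦(-1 : ℤ)⟧ ⟶ Tr.obj₁ := Tr.invRotate.mor₁
  have hι : ι ≫ Tr.mor₁ = 0 := comp_distTriang_mor_zero₁₂ _ hI
  have hM := Φ.map_distinguished _ hI
  have e2 : Φ.map ψ ≫ (Φ.mapTriangle.obj Tr.invRotate).mor₂ = 0 := by
    change Φ.map ψ ≫ Φ.map Tr.mor₁ = 0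
    rw [← Φ.map_comp]
    exact hφ
  obtain ⟨g, hg⟩ := Triangle.coyoneda_exact₂ _ hM (Φ.map ψ) e2
  let g' : Φ.obj K ⟶ Φ.obj (Tr.obj₃⟦(-1 : ℤ)⟧) := g
  have hg' : Φ.map ψ = g' ≫ Φ.map ι := hg
  obtain ⟨χ, hχ⟩ := h3s g'
  have e4 : Φ.map (ψ - χ ≫ ι) = 0 := by
    rw [Φ.map_sub, Φ.map_comp, hχ, hg', sub_self]
  have e5 : ψ = χ ≫ ι := sub_eq_zero.1 (h1 _ e4)
  rw [e5, Category.assoc, hι, comp_zero]

/-- five lemma, second variable, surjectivity -/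
lemma surj_obj₂_right (K : T) (h1 : SURJ Φ K Tr.obj₁) (h3 : SURJ Φ K Tr.obj₃)
    (h1s : INJ Φ K (Tr.obj₁⟦(1 : ℤ)⟧)) : SURJ Φ K Tr.obj₂ := by
  intro g
  obtain ⟨a, ha⟩ := h3 (g ≫ Φ.map Tr.mor₂)
  have e1 : a ≫ Tr.mor₃ = 0 := by
    apply h1s
    rw [Φ.map_comp, ha, Category.assoc, ← Φ.map_comp, comp_distTriang_mor_zero₂₃ _ hT,
      Φ.map_zero, comp_zero]
  obtain ⟨b, hb⟩ := Triangle.coyoneda_exact₃ _ hT a e1
  have hM := Φ.map_distinguished _ hT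
  have e2 : (g - Φ.map b) ≫ (Φ.mapTriangle.obj Tr).mor₂ = 0 := by
    change (g - Φ.map b) ≫ Φ.map Tr.mor₂ = 0
    rw [Preadditive.sub_comp, ← ha, hb, Φ.map_comp, sub_self]
  obtain ⟨c', hc'⟩ := Triangle.coyoneda_exact₂ _ hM (g - Φ.map b) e2
  let c'' : Φ.obj K ⟶ Φ.obj Tr.obj₁ := c'
  have hc'' : g - Φ.map b = c'' ≫ Φ.map Tr.mor₁ := hc'
  obtain ⟨c, hc⟩ := h1 c''
  refine ⟨b + c ≫ Tr.mor₁, ?_⟩
  rw [Φ.map_add, Φ.map_comp, hc, ← hc'']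
  abel

end Five

section Stable

variable (Φ)

/-- stable bijectivity: all shifts of both variables -/
def Q (K L : T) : Prop := ∀ a b : ℤ, BIJ Φ (K⟦a⟧) (L⟦b⟧)

variable {Φ}

lemma Q.of_iso {K K' L L' : T} (eK : K ≅ K') (eL : L ≅ L') (h : Q Φ K L) : Q Φ K' L' :=
  fun a b => (h a b).of_iso ((shiftFunctor T a).mapIso eK) ((shiftFunctor T b).mapIso eL)

lemma Q.bij {K L : T} (h : Q Φ K L) : BIJ Φ K L :=
  (h 0 0).of_iso ((shiftFunctorZero T ℤ).app K) ((shiftFunctorZero T ℤ).app L)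

lemma Q.shift_left {K L : T} (h : Q Φ K L) (n : ℤ) : Q Φ (K⟦n⟧) L :=
  fun a b => (h (n + a) b).of_iso ((shiftFunctorAdd T n a).app K) (Iso.refl _)

lemma Q.shift_right {K L : T} (h : Q Φ K L) (n : ℤ) : Q Φ K (L⟦n⟧) :=
  fun a b => (h a (n + b)).of_iso (Iso.refl _) ((shiftFunctorAdd T n b).app L)

lemma Q.mk_right {K L : T} (h : ∀ b : ℤ, BIJ Φ K (L⟦b⟧)) : Q Φ K L := fun a b =>
  ((h (b - a)).shift a).of_iso (Iso.refl _)
    ((shiftFunctorAdd' T (b - a) a b (by omega)).app L).symm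

lemma Q.mk_left {K L : T} (h : ∀ a : ℤ, BIJ Φ (K⟦a⟧) L) : Q Φ K L := fun a b =>
  ((h (a - b)).shift b).of_iso ((shiftFunctorAdd' T (a - b) b a (by omega)).app K).symm
    (Iso.refl _)

lemma Q.of_isZero_left {K L : T} (hK : IsZero K) : Q Φ K L :=
  fun a _ => BIJ.of_isZero_left ((shiftFunctor T a).map_isZero hK)

lemma Q.of_isZero_right {K L : T} (hL : IsZero L) : Q Φ K L :=
  fun _ b => BIJ.of_isZero_right ((shiftFunctor T b).map_isZero hL)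

lemma Q.obj₂_left (Tr : Triangle T) (hT : Tr ∈ distTriang T) (L : T)
    (h1 : Q Φ Tr.obj₁ L) (h3 : Q Φ Tr.obj₃ L) : Q Φ Tr.obj₂ L := by
  apply Q.mk_right
  intro b
  have a1 := (h1.shift_right b).bij
  have a3 := (h3.shift_right b).bij
  have a1s := ((h1.shift_left 1).shift_right b).bij
  have a3s := ((h3.shift_left (-1)).shift_right b).bij
  exact ⟨inj_obj₂_left Tr hT _ a1.1 a1s.2 a3.1, surj_obj₂_left Tr hT _ a1.2 a3.2 a3s.1⟩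

lemma Q.obj₂_right (Tr : Triangle T) (hT : Tr ∈ distTriang T) (K : T)
    (h1 : Q Φ K Tr.obj₁) (h3 : Q Φ K Tr.obj₃) : Q Φ K Tr.obj₂ := by
  apply Q.mk_left
  intro a
  have a1 := (h1.shift_left a).bij
  have a3 := (h3.shift_left a).bij
  have a1s := ((h1.shift_right 1).shift_left a).bij
  have a3s := ((h3.shift_right (-1)).shift_left a).bij
  exact ⟨inj_obj₂_right Tr hT _ a1.1 a3.1 a3s.2, surj_obj₂_right Tr hT _ a1.2 a3.2 a1s.1⟩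

end Stable

end Groth.Agent.H30.BddEquiv
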