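import Mathlib
import Groth.Agent.H30.BddEquivTri
import Groth.Agent.H45.Derived.BoundedInduction
import Groth.Agent.H45.Derived.CohIn
import Groth.Agent.H45.Derived.MapDerivedHomology
import Groth.Prelude.Def_WeakSerre

/-!
# `D^b_A(𝒜) ≃ D^b_B(ℬ)` for an exact functor inducing `A ≃ B` and bijections on Ext groups
-/

set_option autoImplicit false
set_option linter.unusedSectionVars false
open CategoryTheory Limits Pretriangulated

namespace Groth.Agent.H30.BddEquiv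

universe w₁ w₂ v₁ v₂ u₁ u₂

variable {𝒜 : Type u₁} [Category.{v₁} 𝒜] [Abelian 𝒜] [HasDerivedCategory.{w₁} 𝒜]
  {ℬ : Type u₂} [Category.{v₂} ℬ] [Abelian ℬ] [HasDerivedCategory.{w₂} ℬ]

open DerivedCategory Groth.Agent.H45

variable (F : 𝒜 ⥤ ℬ) [F.Additive] [PreservesFiniteLimits F] [PreservesFiniteColimits F]

instance : F.mapDerivedCategory.Additive := inferInstance

/-- the shift of a single -/
noncomputable def singleIso (M : 𝒜) (k : ℤ) :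
    (singleFunctor 𝒜 k).obj M ≅ ((singleFunctor 𝒜 0).obj M)⟦-k⟧ :=
  (((singleFunctors 𝒜).shiftIso (-k) k 0 (by omega)).app M).symm

variable (A : ObjectProperty 𝒜) [WSerre.IsWeakSerre A]

lemma bounded_of_cohInBdd {K : DerivedCategory 𝒜} (hK : WSerre.cohInBdd A K) :
    ∃ a b : ℤ, K.IsGE a ∧ K.IsLE b := by
  obtain ⟨_, ⟨a, ha⟩, ⟨b, hb⟩⟩ := hK
  exact ⟨a, b, ha, hb⟩

variable {F A}

section FF

variable (h2 : ∀ (M M' : 𝒜), A M → A M' → ∀ n : ℤ, Function.Bijective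
    (fun φ : ((singleFunctor 𝒜 0).obj M ⟶ ((singleFunctor 𝒜 0).obj M')⟦n⟧) =>
      F.mapDerivedCategory.map φ))
include h2

lemma Q_single_left (M : 𝒜) (hM : A M) (L : DerivedCategory 𝒜) (hL : WSerre.cohInBdd A L) :
    Q F.mapDerivedCategory ((singleFunctor 𝒜 0).obj M) L := by
  obtain ⟨a, b, ha, hb⟩ := bounded_of_cohInBdd A hL
  let P : ObjectProperty (DerivedCategory 𝒜) :=
    fun L => Q F.mapDerivedCategory ((singleFunctor 𝒜 0).obj M) L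
  haveI : P.IsClosedUnderIsomorphisms := ⟨fun e h => Q.of_iso (Iso.refl _) e h⟩
  refine bounded_induction' P A ?_ ?_ ?_ ?_ L a b ha hb hL.1
  · intro Z hZ
    exact Q.of_isZero_right hZ
  · intro Tr hT h1 h3
    exact Q.obj₂_right Tr hT _ h1 h3
  · intro M' n hM'
    have q0 : Q F.mapDerivedCategory ((singleFunctor 𝒜 0).obj M) ((singleFunctor 𝒜 0).obj M') :=
      Q.mk_right (fun b => BIJ.of_bijective (h2 M M' hM hM' b))
    exact Q.of_iso (Iso.refl _) (singleIso M' n).symm (q0.shift_right (-n))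
  · intro M' hM'
    exact A.prop_of_isZero hM'

theorem Q_of_cohInBdd (K L : DerivedCategory 𝒜) (hK : WSerre.cohInBdd A K)
    (hL : WSerre.cohInBdd A L) : Q F.mapDerivedCategory K L := by
  obtain ⟨a, b, ha, hb⟩ := bounded_of_cohInBdd A hK
  let P : ObjectProperty (DerivedCategory 𝒜) := fun K => Q F.mapDerivedCategory K L
  haveI : P.IsClosedUnderIsomorphisms := ⟨fun e h => Q.of_iso e (Iso.refl _) h⟩
  refine bounded_induction' P A ?_ ?_ ?_ ?_ K a b ha hb hK.1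
  · intro Z hZ
    exact Q.of_isZero_left hZ
  · intro Tr hT h1 h3
    exact Q.obj₂_left Tr hT _ h1 h3
  · intro M n hM
    exact Q.of_iso (singleIso M n).symm (Iso.refl _)
      ((Q_single_left h2 M hM L hL).shift_left (-n))
  · intro M' hM'
    exact A.prop_of_isZero hM'

theorem bijective_of_cohInBdd (K L : DerivedCategory 𝒜) (hK : WSerre.cohInBdd A K)
    (hL : WSerre.cohInBdd A L) :
    Function.Bijective (fun φ : K ⟶ L => F.mapDerivedCategory.map φ) :=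
  (Q_of_cohInBdd h2 K L hK hL).bij.bijective

end FF

section Shift

lemma cohIn_shift (K : DerivedCategory 𝒜) (h : WSerre.cohIn A K) (n : ℤ) :
    WSerre.cohIn A (K⟦n⟧) := fun i =>
  A.prop_of_iso (((homologyFunctor 𝒜 0).shiftIso n i (n + i) rfl).app K).symm (h (n + i))

lemma cohInBdd_shift (K : DerivedCategory 𝒜) (h : WSerre.cohInBdd A K) (n : ℤ) :
    WSerre.cohInBdd A (K⟦n⟧) := by
  obtain ⟨hc, ⟨a, ha⟩, ⟨b, hb⟩⟩ := h
  exact ⟨cohIn_shift K hc n, ⟨a - n, TStructure.t.isGE_shift K a n (a - n) (by omega)⟩,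
    ⟨b - n, TStructure.t.isLE_shift K b n (b - n) (by omega)⟩⟩

end Shift

section Image

variable (B : ObjectProperty ℬ) [WSerre.IsWeakSerre B] (h1 : ∀ M : 𝒜, A M → B (F.obj M))
include h1

theorem cohInBdd_map (K : DerivedCategory 𝒜) (hK : WSerre.cohInBdd A K) :
    WSerre.cohInBdd B (F.mapDerivedCategory.obj K) := by
  obtain ⟨hc, ⟨a, ha⟩, ⟨b, hb⟩⟩ := hK
  exact ⟨fun i => B.prop_of_iso (homologyMapDerivedCategoryObjIso F K i).symm (h1 _ (hc i)),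
    ⟨a, isGE_mapDerivedCategory_obj F K a ha⟩, ⟨b, isLE_mapDerivedCategory_obj F K b hb⟩⟩

end Image

section EssSurj

variable (B : ObjectProperty ℬ) [WSerre.IsWeakSerre B]
  (hess : ∀ N : ℬ, B N → ∃ M : 𝒜, A M ∧ Nonempty (F.obj M ≅ N))
  (h2 : ∀ (M M' : 𝒜), A M → A M' → ∀ n : ℤ, Function.Bijective
    (fun φ : ((singleFunctor 𝒜 0).obj M ⟶ ((singleFunctor 𝒜 0).obj M')⟦n⟧) =>
      F.mapDerivedCategory.map φ))
include hess h2

theorem essSurj_of_cohInBdd (N : DerivedCategory ℬ) (hN : WSerre.cohInBdd B N) :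
    ∃ K : DerivedCategory 𝒜, WSerre.cohInBdd A K ∧ Nonempty (F.mapDerivedCategory.obj K ≅ N) := by
  obtain ⟨a, b, ha, hb⟩ := bounded_of_cohInBdd B hN
  let P : ObjectProperty (DerivedCategory ℬ) := fun N =>
    ∃ K : DerivedCategory 𝒜, WSerre.cohInBdd A K ∧ Nonempty (F.mapDerivedCategory.obj K ≅ N)
  haveI : P.IsClosedUnderIsomorphisms := ⟨fun e h => by
    obtain ⟨K, hK, ⟨i⟩⟩ := h
    exact ⟨K, hK, ⟨i ≪≫ e⟩⟩⟩
  have hsingle : ∀ (M : 𝒜) (n : ℤ), A M → WSerre.cohInBdd A ((singleFunctor 𝒜 n).obj M) :=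
    fun M n hM => ⟨cohIn_single A M hM n, ⟨n, inferInstance⟩, ⟨n, inferInstance⟩⟩
  refine bounded_induction' P B ?_ ?_ ?_ ?_ N a b ha hb hN.1
  · -- zero
    intro Z hZ
    obtain ⟨M0, hM0, hAM0⟩ := A.exists_prop_of_containsZero
    refine ⟨(singleFunctor 𝒜 0).obj M0, hsingle M0 0 hAM0, ⟨?_⟩⟩
    exact (F.mapDerivedCategory.map_isZero ((singleFunctor 𝒜 0).map_isZero hM0)).iso hZ
  · -- triangles
    intro Tr hT h1 h3
    obtain ⟨K₁, hK₁, ⟨e₁⟩⟩ := h1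
    obtain ⟨K₃, hK₃, ⟨e₃⟩⟩ := h3
    let Φ := F.mapDerivedCategory
    let α := Φ.commShiftIso (1 : ℤ)
    let δ : Φ.obj K₃ ⟶ Φ.obj (K₁⟦(1 : ℤ)⟧) :=
      e₃.hom ≫ Tr.mor₃ ≫ e₁.inv⟦(1 : ℤ)⟧' ≫ α.inv.app K₁
    obtain ⟨d, hd⟩ := (bijective_of_cohInBdd h2 K₃ (K₁⟦(1 : ℤ)⟧) hK₃ (cohInBdd_shift K₁ hK₁ 1)).2 δ
    have hd' : Φ.map d = δ := hd
    obtain ⟨K₂, u, v, hTr'⟩ := distinguished_cocone_triangle₂ d
    have hΦ := Φ.map_distinguished _ hTr'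
    have comm : (Φ.mapTriangle.obj (Triangle.mk u v d)).mor₃ ≫ (shiftFunctor _ (1 : ℤ)).map e₁.hom =
        e₃.hom ≫ Tr.mor₃ := by
      change (Φ.map d ≫ α.hom.app K₁) ≫ e₁.hom⟦(1 : ℤ)⟧' = e₃.hom ≫ Tr.mor₃
      rw [hd']
      simp only [δ, Category.assoc, Iso.inv_hom_id_app_assoc]
      rw [← Functor.map_comp, Iso.inv_hom_id, CategoryTheory.Functor.map_id, Category.comp_id]
    let iso := isoTriangleOfIso₁₃ _ _ hΦ hT e₁ e₃ comm
    refine ⟨K₂, ?_, ⟨Triangle.π₂.mapIso iso⟩⟩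
    obtain ⟨hc₁, ⟨a₁, ha₁⟩, ⟨b₁, hb₁⟩⟩ := hK₁
    obtain ⟨hc₃, ⟨a₃, ha₃⟩, ⟨b₃, hb₃⟩⟩ := hK₃
    refine ⟨cohIn_obj₂_of_distTriang A _ hTr' hc₁ hc₃, ⟨min a₁ a₃, ?_⟩, ⟨max b₁ b₃, ?_⟩⟩
    · have g1 : K₁.IsGE (min a₁ a₃) := TStructure.t.isGE_of_ge K₁ (min a₁ a₃) a₁ (min_le_left _ _)
      have g3 : K₃.IsGE (min a₁ a₃) := TStructure.t.isGE_of_ge K₃ (min a₁ a₃) a₃ (min_le_right _ _)
      exact TStructure.t.isGE₂ _ hTr' (min a₁ a₃) g1 g3
    · have g1 : K₁.IsLE (max b₁ b₃) := TStructure.t.isLE_of_le K₁ b₁ (max b₁ b₃) (le_max_left _ _)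
      have g3 : K₃.IsLE (max b₁ b₃) := TStructure.t.isLE_of_le K₃ b₃ (max b₁ b₃) (le_max_right _ _)
      exact TStructure.t.isLE₂ _ hTr' (max b₁ b₃) g1 g3
  · -- singles
    intro N' n hN'
    obtain ⟨M, hM, ⟨e⟩⟩ := hess N' hN'
    refine ⟨(singleFunctor 𝒜 n).obj M, hsingle M n hM, ⟨?_⟩⟩
    exact (F.mapDerivedCategorySingleFunctor n).app M ≪≫ (singleFunctor ℬ n).mapIso e
  · intro N' hN'
    exact B.prop_of_isZero hN'

end EssSurj

end Groth.Agent.H30.BddEquiv
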