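import Groth.Agent.H30.ClosedPush
import Groth.Agent.H30.SectSupp
import Groth.Agent.H30.SectSuppExact

/-!
# Closed embeddings of topological spaces: `i_*` is fully faithful, its essential image,
and the adjunction `i_* ⊣ i⁻¹ Γ_Z`
-/

set_option autoImplicit false
universe u
open CategoryTheory Limits TopologicalSpace Opposite

namespace Groth.Agent.H30.ClosedAdj

variable {Z X : TopCat.{u}} (i : Z ⟶ X) (hi : Topology.IsClosedEmbedding i)

/-- the largest open of `X` whose preimage is `V`. -/
def hat (V : Opens Z) : Opens X :=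
  ⟨(i '' ((V : Set Z)ᶜ))ᶜ, (hi.isClosedMap _ V.isOpen.isClosed_compl).isOpen_compl⟩

variable {i}

lemma mem_hat {V : Opens Z} {x : X} : x ∈ hat i hi V ↔ ∀ z : Z, i z = x → z ∈ V := by
  change x ∈ (i '' ((V : Set Z)ᶜ))ᶜ ↔ _
  simp only [Set.mem_compl_iff, Set.mem_image, not_exists, not_and]
  constructor
  · intro h z hz
    by_contra hzV
    exact h z hzV hz
  · intro h z hzV hz
    exact hzV (h z hz)

lemma map_hat (V : Opens Z) : (Opens.map i).obj (hat i hi V) = V := by
  ext z
  change i z ∈ hat i hi V ↔ z ∈ V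
  rw [mem_hat]
  constructor
  · intro h
    exact h z rfl
  · intro hz z' hz'
    rw [hi.injective hz']
    exact hz

lemma le_hat_map (W : Opens X) : W ≤ hat i hi ((Opens.map i).obj W) := by
  intro x hx
  rw [mem_hat]
  intro z hz
  change i z ∈ W
  rw [hz]
  exact hx

lemma hat_mono {V V' : Opens Z} (h : V ≤ V') : hat i hi V ≤ hat i hi V' := by
  intro x hx
  rw [mem_hat] at hx ⊢
  exact fun z hz => h (hx z hz)

variable (U : Opens X) (hU : (U : Set X) = (Set.range i)ᶜ)

include hU in
lemma U_le_hat (V : Opens Z) : U ≤ hat i hi V := by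
  intro x hx
  rw [mem_hat]
  intro z hz
  have : x ∈ (Set.range i)ᶜ := hU ▸ hx
  exact absurd ⟨z, hz⟩ this

include hU in
lemma hat_map_le (W : Opens X) : hat i hi ((Opens.map i).obj W) ≤ W ⊔ U := by
  intro x hx
  rw [mem_hat] at hx
  by_cases hxr : x ∈ Set.range i
  · obtain ⟨z, rfl⟩ := hxr
    exact Or.inl (hx z rfl)
  · exact Or.inr (hU ▸ hxr : x ∈ (U : Set X))

include hU in
lemma hat_iSup_le {ι : Type*} (V : ι → Opens Z) :
    hat i hi (iSup V) ≤ (⨆ a, hat i hi (V a)) ⊔ U := by
  intro x hx
  rw [mem_hat] at hx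
  by_cases hxr : x ∈ Set.range i
  · obtain ⟨z, rfl⟩ := hxr
    have hz := hx z rfl
    rw [Opens.mem_iSup] at hz
    obtain ⟨a, ha⟩ := hz
    refine Or.inl ?_
    rw [SetLike.mem_coe, Opens.mem_iSup]
    refine ⟨a, ?_⟩
    rw [mem_hat]
    intro z' hz'
    rw [hi.injective hz']
    exact ha
  · exact Or.inr (hU ▸ hxr : x ∈ (U : Set X))

lemma hat_inf_le (V V' : Opens Z) : hat i hi V ⊓ hat i hi V' ≤ hat i hi (V ⊓ V') := by
  rintro x ⟨hx, hx'⟩
  rw [SetLike.mem_coe, mem_hat] at hx hx'
  rw [mem_hat]
  exact fun z hz => ⟨hx z hz, hx' z hz⟩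

include hU in
lemma map_eq_bot_of_le {W : Opens X} (hW : W ≤ U) : (Opens.map i).obj W = ⊥ := by
  ext z
  simp only [Opens.coe_bot, Set.mem_empty_iff_false, iff_false]
  intro hz
  have : i z ∈ (U : Set X) := hW hz
  rw [hU] at this
  exact this ⟨z, rfl⟩

/-! ### `i_*` is fully faithful -/

section FullyFaithful

/-- `hat` as a functor. -/
def hatF : Opens Z ⥤ Opens X where
  obj V := hat i hi V
  map f := (hat_mono hi (leOfHom f)).hom

/-- `i⁻¹ ⊣ hat` on opens. -/
def opensAdj : Opens.map i ⊣ hatF hi :=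
  Adjunction.mkOfHomEquiv
    { homEquiv := fun W V =>
        { toFun := fun f => ((le_hat_map hi W).trans (hat_mono hi (leOfHom f))).hom
          invFun := fun f => (le_of_le_of_eq ((Opens.map i).map f).le (map_hat hi V)).hom
          left_inv := fun _ => Subsingleton.elim _ _
          right_inv := fun _ => Subsingleton.elim _ _ }
      homEquiv_naturality_left_symm := fun _ _ => Subsingleton.elim _ _
      homEquiv_naturality_right := fun _ _ => Subsingleton.elim _ _ }

instance : (hatF hi).Faithful where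
  map_injective := fun _ => Subsingleton.elim _ _

instance : (hatF hi).Full where
  map_surjective := fun {V V'} f =>
    ⟨(le_of_eq_of_le (map_hat hi V).symm
      (le_of_le_of_eq ((Opens.map i).map f).le (map_hat hi V'))).hom, Subsingleton.elim _ _⟩

include hi in
/-- The presheaf pushforward along a closed embedding is fully faithful. -/
noncomputable def whiskerFullyFaithful :
    ((Functor.whiskeringLeft (Opens X)ᵒᵖ (Opens Z)ᵒᵖ AddCommGrpCat.{u}).obj
      (Opens.map i).op).FullyFaithful := by
  have h1 := (opensAdj hi).isLocalization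
  exact Localization.fullyFaithfulWhiskeringLeft (Opens.map i).op
    ((MorphismProperty.isomorphisms (Opens Z)).inverseImage (Opens.map i)).op AddCommGrpCat.{u}

include hi in
/-- `i_*` is fully faithful for a closed embedding `i`. -/
noncomputable def pushFullyFaithful : (CohTop.push i).FullyFaithful := by
  have h : (CohTop.push i ⋙
      sheafToPresheaf (Opens.grothendieckTopology X) AddCommGrpCat.{u}).FullyFaithful :=
    ((fullyFaithfulSheafToPresheaf (Opens.grothendieckTopology Z) AddCommGrpCat.{u}).comp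
      (whiskerFullyFaithful hi) :)
  exact Functor.FullyFaithful.ofCompFaithful h

end FullyFaithful

/-! ### Sheaves supported on the closed complement of `U` -/

section Supp

/-- `H` is supported on the closed complement of `U`: it has no nonzero section over
opens contained in `U`. -/
def SuppOn (U : Opens X) (H : CohTop.Ab X) : Prop :=
  ∀ W : Opens X, W ≤ U → Subsingleton (H.obj.obj (op W))

variable {U} {H : CohTop.Ab X} (hH : SuppOn U H)

omit hi in
lemma hmap (F : CohTop.Ab X) {A B : Opens X} (f f' : A ⟶ B) (x : F.obj.obj (op B)) :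
    (F.obj.map f.op).hom x = (F.obj.map f'.op).hom x := by
  rw [Subsingleton.elim f f']

omit hi in
lemma map_map (F : CohTop.Ab X) {A B D : Opens X} (f : A ⟶ B) (f' : B ⟶ D) (f'' : A ⟶ D)
    (x : F.obj.obj (op D)) :
    (F.obj.map f.op).hom ((F.obj.map f'.op).hom x) = (F.obj.map f''.op).hom x := by
  rw [← ConcreteCategory.comp_apply, ← F.obj.map_comp, ← op_comp]
  exact hmap F _ _ x

omit hi in
include hH in
/-- For `H` supported off `U`, restriction from `W` to `W'` is bijective as soon as
`W ≤ W' ⊔ U`. -/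
lemma res_bijective {W' W : Opens X} (h : W' ≤ W) (hc : W ≤ W' ⊔ U) :
    Function.Bijective (H.obj.map (homOfLE h).op).hom := by
  have hsub : Subsingleton (H.obj.obj (op (W ⊓ U))) := hH _ inf_le_right
  have hcov : W ≤ W' ⊔ (W ⊓ U) := by
    intro x hx
    rcases hc hx with h1 | h1
    · exact Or.inl h1
    · exact Or.inr ⟨hx, h1⟩
  constructor
  · rw [injective_iff_map_eq_zero]
    intro s hs
    let H' : TopCat.Sheaf AddCommGrpCat.{u} X := H
    refine H'.eq_of_locally_eq₂ (homOfLE h) (homOfLE (inf_le_left : W ⊓ U ≤ W)) hcov s 0 ?_ ?_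
    · exact hs.trans (map_zero _).symm
    · exact Subsingleton.elim _ _
  · intro t
    have hsub' : Subsingleton (H.obj.obj (op (W' ⊓ (W ⊓ U)))) :=
      hH _ (inf_le_right.trans inf_le_right)
    obtain ⟨s, hs, -⟩ := SectSupp.glue₂ H h (inf_le_left : W ⊓ U ≤ W) hcov t 0
      (Subsingleton.elim _ _)
    exact ⟨s, hs⟩

variable (H) in
/-- the presheaf `V ↦ H(hat V)` on `Z`. -/
noncomputable abbrev hatPre : (Opens Z)ᵒᵖ ⥤ AddCommGrpCat.{u} := (hatF hi).op ⋙ H.obj

lemma iSup_hat_le {ι : Type*} (V : ι → Opens Z) :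
    (⨆ a, hat i hi (V a)) ≤ hat i hi (iSup V) :=
  iSup_le fun a => hat_mono hi (le_iSup V a)

include hU hH in
lemma isSheaf_hatPre : TopCat.Presheaf.IsSheaf (hatPre hi H) := by
  rw [TopCat.Presheaf.isSheaf_iff_isSheafUniqueGluing]
  intro ι V sf hsf
  let H' : TopCat.Sheaf AddCommGrpCat.{u} X := H
  let Uh : ι → Opens X := fun a => hat i hi (V a)
  let sf' : ∀ a, ToType (H'.1.obj (op (Uh a))) := sf
  have hc : TopCat.Presheaf.IsCompatible H'.1 Uh sf' := by
    intro a b
    have h1 : (H.obj.map (hat_mono hi (inf_le_left : V a ⊓ V b ≤ V a)).hom.op).hom (sf' a) =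
        (H.obj.map (hat_mono hi (inf_le_right : V a ⊓ V b ≤ V b)).hom.op).hom (sf' b) := hsf a b
    have h2 := congrArg (H.obj.map (homOfLE (hat_inf_le hi (V a) (V b))).op).hom h1
    rw [map_map H _ _ (Opens.infLELeft (Uh a) (Uh b)),
      map_map H _ _ (Opens.infLERight (Uh a) (Uh b))] at h2
    exact h2
  obtain ⟨s', hs', hs'u⟩ := H'.existsUnique_gluing Uh sf' hc
  have hb := res_bijective hH (iSup_hat_le hi V) (hat_iSup_le hi U hU V)
  obtain ⟨s, hs⟩ := hb.2 s'
  refine ⟨s, ?_, ?_⟩
  · intro a
    change (H.obj.map (hat_mono hi (le_iSup V a)).hom.op).hom s = sf' a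
    rw [← map_map H (Opens.leSupr Uh a) (homOfLE (iSup_hat_le hi V)) _ s, hs]
    exact hs' a
  · intro t ht
    let t' : H.obj.obj (op (hat i hi (iSup V))) := t
    apply hb.1
    refine Eq.trans ?_ hs.symm
    apply hs'u
    intro a
    change (H.obj.map (Opens.leSupr Uh a).op).hom
      ((H.obj.map (homOfLE (iSup_hat_le hi V)).op).hom t') = sf' a
    exact (map_map H _ _ (hat_mono hi (le_iSup V a)).hom t').trans (ht a)

/-- the sheaf `V ↦ H(hat V)` on `Z`, for `H` supported on `Z`. -/
noncomputable def hatSheaf : CohTop.Ab Z := ⟨hatPre hi H, isSheaf_hatPre hi hU hH⟩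

omit hi in
lemma op_hom_ext {T : TopCat.{u}} {A B : (Opens T)ᵒᵖ} (f g : A ⟶ B) : f = g :=
  Quiver.Hom.unop_inj (Subsingleton.elim _ _)

omit hi in
lemma map_comp_eq {T : TopCat.{u}} (P : (Opens T)ᵒᵖ ⥤ AddCommGrpCat.{u}) {A B B' D : (Opens T)ᵒᵖ}
    (f : A ⟶ B) (g : B ⟶ D) (f' : A ⟶ B') (g' : B' ⟶ D) :
    P.map f ≫ P.map g = P.map f' ≫ P.map g' := by
  rw [← P.map_comp, ← P.map_comp, op_hom_ext (f ≫ g) (f' ≫ g')]

/-- components of `i_* (hatSheaf H) ≅ H`. -/
noncomputable def pushHatIsoApp (W : Opens X) :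
    H.obj.obj (op (hat i hi ((Opens.map i).obj W))) ≅ H.obj.obj (op W) :=
  (AddEquiv.ofBijective (H.obj.map (homOfLE (le_hat_map hi W)).op).hom
    (res_bijective hH _ (hat_map_le hi U hU W))).toAddCommGrpIso

lemma pushHatIsoApp_hom (W : Opens X) :
    (pushHatIsoApp hi hU hH W).hom = H.obj.map (homOfLE (le_hat_map hi W)).op := rfl

/-- `i_* (hatSheaf H) ≅ H` on presheaves. -/
noncomputable def pushHatIsoPre :
    ((CohTop.push i).obj (hatSheaf hi hU hH)).obj ≅ H.obj :=
  NatIso.ofComponents (fun W => pushHatIsoApp hi hU hH W.unop) (by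
    intro W W' g
    change H.obj.map ((hatF hi).map ((Opens.map i).map g.unop)).op ≫
      H.obj.map (homOfLE (le_hat_map hi W'.unop)).op =
      H.obj.map (homOfLE (le_hat_map hi W.unop)).op ≫ H.obj.map g
    exact map_comp_eq H.obj _ _ _ _)

/-- a sheaf supported on `Z` is the direct image of a sheaf on `Z`. -/
noncomputable def pushHatIso : (CohTop.push i).obj (hatSheaf hi hU hH) ≅ H :=
  (fullyFaithfulSheafToPresheaf _ _).preimageIso (pushHatIsoPre hi hU hH)

end Supp

/-! ### `Γ_Z F` and `i_* G` are supported on `Z`; maps out of supported sheaves -/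

section SuppFacts

open SectSupp

omit hi in
/-- `Γ_Z F` has no sections over opens contained in `U`. -/
lemma suppOn_sectSupp (F : CohTop.Ab X) : SuppOn U (CohCx.sectSupp U F) := by
  intro W hW
  refine ⟨fun t t' => ?_⟩
  have key : ∀ t : (CohCx.sectSupp U F).obj.obj (op W), t = 0 := by
    intro t
    apply k_injective U F W
    rw [map_zero]
    have h1 := (η_eq_zero_iff U F W _).1 (η_k U F W t)
    have hle : W ≤ cap U W := fun x hx => (mem_cap U W x).2 ⟨hx, hW hx⟩
    have h2 := congrArg (F.obj.map (homOfLE hle).op).hom h1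
    rw [map_map F _ _ (𝟙 W), map_zero] at h2
    rw [← h2]
    change _ = (F.obj.map (𝟙 (op W))).hom _
    rw [F.obj.map_id]
    rfl
  rw [key t, key t']

include hU in
omit hi in
/-- `i_* G` has no sections over opens contained in `U`. -/
lemma suppOn_push (G : CohTop.Ab Z) : SuppOn U ((CohTop.push i).obj G) := by
  intro W hW
  exact ClosedPush.subsingleton_of_eq_bot G (map_eq_bot_of_le U hU hW)

omit hi in
/-- a map from a sheaf supported on `Z` is killed by the unit `F ⟶ j_* j⁻¹ F`. -/
lemma comp_η_eq_zero {H F : CohTop.Ab X} (hH : SuppOn U H) (φ : H ⟶ F) : φ ≫ η U F = 0 := by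
  apply Sheaf.hom_ext
  apply NatTrans.ext
  funext W
  apply AddCommGrpCat.hom_ext
  apply AddMonoidHom.ext
  intro s
  change ((η U F).hom.app W).hom ((φ.hom.app W).hom s) = 0
  obtain ⟨W⟩ := W
  rw [η_eq_zero_iff]
  have nat := ConcreteCategory.congr_hom (φ.hom.naturality (homOfLE (cap_le U W)).op) s
  have nat' : (F.obj.map (homOfLE (cap_le U W)).op).hom ((φ.hom.app (op W)).hom s) =
      (φ.hom.app (op (cap U W))).hom ((H.obj.map (homOfLE (cap_le U W)).op).hom s) := nat.symm
  rw [nat']
  have := hH _ (cap_le_U U W)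
  rw [Subsingleton.elim ((H.obj.map (homOfLE (cap_le U W)).op).hom s) 0, map_zero]

end SuppFacts

/-! ### The adjunction `i_* ⊣ i⁻¹ Γ_Z` -/

section Adjunction

open SectSupp

variable (i) in
/-- `i⁻¹ ⊣ i_*`. -/
noncomputable abbrev adj : CohTop.pull i ⊣ CohTop.push i :=
  TopCat.Sheaf.pullbackPushforwardAdjunction AddCommGrpCat.{u} i

include hi hU in
/-- the unit `H ⟶ i_* i⁻¹ H` is an isomorphism for `H` supported on `Z`. -/
lemma isIso_unit_of_suppOn {H : CohTop.Ab X} (hH : SuppOn U H) : IsIso ((adj i).unit.app H) := by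
  have := (pushFullyFaithful hi).full
  have := (pushFullyFaithful hi).faithful
  exact (adj i).isIso_unit_app_of_iso (pushHatIso hi hU hH).symm

/-- the unit at `Γ_Z F`, as an isomorphism. -/
noncomputable def unitIso (F : CohTop.Ab X) :
    (LocCohZ.sectSuppF U).obj F ≅
      (CohTop.push i).obj ((CohTop.pull i).obj ((LocCohZ.sectSuppF U).obj F)) :=
  @asIso _ _ _ _ ((adj i).unit.app ((LocCohZ.sectSuppF U).obj F))
    (isIso_unit_of_suppOn hi U hU (H := (LocCohZ.sectSuppF U).obj F) (suppOn_sectSupp U F))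

lemma unitIso_hom (F : CohTop.Ab X) :
    (unitIso hi U hU F).hom = (adj i).unit.app ((LocCohZ.sectSuppF U).obj F) := rfl

omit hi in
/-- the inclusion `Γ_Z F ⟶ F`, with source written through `sectSuppF`. -/
noncomputable def kk (F : CohTop.Ab X) : (LocCohZ.sectSuppF U).obj F ⟶ F := k U F

omit hi in
lemma map_kk {F F' : CohTop.Ab X} (g : F ⟶ F') :
    (LocCohZ.sectSuppF U).map g ≫ kk U F' = kk U F ≫ g := sectSuppF_map_k U g

instance (F : CohTop.Ab X) : Mono (kk U F) := inferInstanceAs (Mono (k U F))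

/-- `Hom(i_* G, F) ≃ Hom(i_* G, Γ_Z F)`. -/
noncomputable def liftEquiv (G : CohTop.Ab Z) (F : CohTop.Ab X) :
    ((CohTop.push i).obj G ⟶ F) ≃ ((CohTop.push i).obj G ⟶ (LocCohZ.sectSuppF U).obj F) where
  toFun φ := kernel.lift (η U F) φ (comp_η_eq_zero U (suppOn_push U hU G) φ)
  invFun ψ := ψ ≫ kk U F
  left_inv φ := kernel.lift_ι _ _ _
  right_inv ψ := (cancel_mono (kk U F)).1 (kernel.lift_ι _ _ _)

/-- `Hom(i_* G, F) ≃ Hom(G, i⁻¹ Γ_Z F)`. -/
noncomputable def homEquiv (G : CohTop.Ab Z) (F : CohTop.Ab X) :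
    ((CohTop.push i).obj G ⟶ F) ≃
      (G ⟶ (CohTop.pull i).obj ((LocCohZ.sectSuppF U).obj F)) :=
  ((liftEquiv U hU G F).trans (unitIso hi U hU F).homToEquiv).trans
    (pushFullyFaithful hi).homEquiv.symm

lemma homEquiv_symm_apply (G : CohTop.Ab Z) (F : CohTop.Ab X)
    (g : G ⟶ (CohTop.pull i).obj ((LocCohZ.sectSuppF U).obj F)) :
    (homEquiv hi U hU G F).symm g =
      (CohTop.push i).map g ≫ (unitIso hi U hU F).inv ≫ kk U F := by
  change ((CohTop.push i).map g ≫ (unitIso hi U hU F).inv) ≫ kk U F = _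
  exact Category.assoc _ _ _

/-- **`i_* ⊣ i⁻¹ Γ_Z`** for a closed embedding `i` with open complement `U`. -/
noncomputable def pushAdj : CohTop.push i ⊣ LocCohZ.sectSuppF U ⋙ CohTop.pull i :=
  Adjunction.mkOfHomEquiv
    { homEquiv := homEquiv hi U hU
      homEquiv_naturality_left_symm := by
        intro G' G F f g
        rw [homEquiv_symm_apply, homEquiv_symm_apply, Functor.map_comp, Category.assoc]
      homEquiv_naturality_right := by
        intro G F F' f g
        apply (homEquiv hi U hU G F').symm.injective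
        rw [Equiv.symm_apply_apply, homEquiv_symm_apply, Functor.map_comp]
        have h1 : (CohTop.push i).map ((LocCohZ.sectSuppF U ⋙ CohTop.pull i).map g) ≫
            (unitIso hi U hU F').inv =
            (unitIso hi U hU F).inv ≫ (LocCohZ.sectSuppF U).map g := by
          rw [Iso.comp_inv_eq, Category.assoc, Iso.eq_inv_comp, unitIso_hom, unitIso_hom]
          exact ((adj i).unit.naturality ((LocCohZ.sectSuppF U).map g)).symm
        have h2 := map_kk U g
        calc f ≫ g = (homEquiv hi U hU G F).symm (homEquiv hi U hU G F f) ≫ g := by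
              rw [Equiv.symm_apply_apply]
          _ = ((CohTop.push i).map (homEquiv hi U hU G F f) ≫ (unitIso hi U hU F).inv ≫
                kk U F) ≫ g := by rw [homEquiv_symm_apply]
          _ = (CohTop.push i).map (homEquiv hi U hU G F f) ≫ (unitIso hi U hU F).inv ≫
                (kk U F ≫ g) := by simp only [Category.assoc]
          _ = (CohTop.push i).map (homEquiv hi U hU G F f) ≫ (unitIso hi U hU F).inv ≫
                ((LocCohZ.sectSuppF U).map g ≫ kk U F') := by rw [h2]
          _ = (CohTop.push i).map (homEquiv hi U hU G F f) ≫ ((unitIso hi U hU F).inv ≫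
                (LocCohZ.sectSuppF U).map g) ≫ kk U F' := by simp only [Category.assoc]
          _ = (CohTop.push i).map (homEquiv hi U hU G F f) ≫
                ((CohTop.push i).map ((LocCohZ.sectSuppF U ⋙ CohTop.pull i).map g) ≫
                (unitIso hi U hU F').inv) ≫ kk U F' := by rw [h1]
          _ = _ := by simp only [Category.assoc] }

end Adjunction

/-! ### Stalks and the essential image -/

section Stalks

omit hi in
/-- `SuppOn U F` in terms of stalks. -/
lemma suppOn_iff_stalk (F : CohTop.Ab X) :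
    SuppOn U F ↔ ∀ x : X, x ∈ U → IsZero (CohTop.stalk F x) := by
  constructor
  · intro hF x hx
    have : Subsingleton (CohTop.stalk F x) := by
      refine ⟨fun t t' => ?_⟩
      have key : ∀ t : ToType (TopCat.Presheaf.stalk F.obj x), t = 0 := by
        intro t
        obtain ⟨W, hW, m, s, rfl⟩ := TopCat.Presheaf.exists_le_germ_eq F.obj t hx
        have := hF W hW
        rw [Subsingleton.elim s 0]
        exact map_zero _
      exact (key t).trans (key t').symm
    exact AddCommGrpCat.isZero_of_subsingleton _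
  · intro h W hW
    refine ⟨fun s t => ?_⟩
    let F' : TopCat.Sheaf AddCommGrpCat.{u} X := F
    refine TopCat.Presheaf.section_ext F' W s t ?_
    intro x hx
    have := AddCommGrpCat.subsingleton_of_isZero (h x (hW hx))
    exact Subsingleton.elim _ _

omit hi in
lemma suppOn_of_iso {H H' : CohTop.Ab X} (e : H ≅ H') (hH : SuppOn U H) : SuppOn U H' := by
  intro W hW
  have := hH W hW
  let e' : H'.obj.obj (op W) ≅ H.obj.obj (op W) :=
    ((sheafToPresheaf _ _ ⋙ (evaluation _ _).obj (op W)).mapIso e).symm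
  exact ⟨fun s t => (ConcreteCategory.injective_of_mono_of_preservesPullback e'.hom)
    (Subsingleton.elim _ _)⟩

include hi hU in
/-- the essential image of `i_*` consists of the sheaves supported on `Z`. -/
lemma essImage_iff (F : CohTop.Ab X) : (CohTop.push i).essImage F ↔ SuppOn U F := by
  constructor
  · rintro ⟨G, ⟨e⟩⟩
    exact suppOn_of_iso U e (suppOn_push U hU G)
  · intro hF
    exact ⟨hatSheaf hi hU hF, ⟨pushHatIso hi hU hF⟩⟩

end Stalks

/-! ### The case of the complement of an open -/

section Compl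

variable {Y : TopCat.{u}} (U' : Opens Y)

lemma isClosedEmbedding_inclCompl : Topology.IsClosedEmbedding (CohCx.inclCompl U') :=
  U'.isOpen.isClosed_compl.isClosedEmbedding_subtypeVal

lemma range_inclCompl : (U' : Set Y) = (Set.range (CohCx.inclCompl U'))ᶜ := by
  have : Set.range (CohCx.inclCompl U') = (U' : Set Y)ᶜ := Subtype.range_coe
  rw [this, compl_compl]

/-- `i_* ⊣ i⁻¹ Γ_Z` for the closed complement of an open. -/
noncomputable def pushAdjCompl :
    CohTop.push (CohCx.inclCompl U') ⊣ LocCohZ.sectSuppF U' ⋙ CohTop.pull (CohCx.inclCompl U') :=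
  pushAdj (isClosedEmbedding_inclCompl U') U' (range_inclCompl U')

/-- `H_Z(I)` is injective for `I` injective. -/
lemma injective_HZ (I : CohTop.Ab Y) [Injective I] : Injective (CohCx.HZ U' I) := by
  have h1 : (CohTop.push (CohCx.inclCompl U')).IsRightAdjoint :=
    (adj (CohCx.inclCompl U')).isRightAdjoint
  have h2 : PreservesLimitsOfSize.{0, 0} (CohTop.push (CohCx.inclCompl U')) := inferInstance
  have h3 : (CohTop.push (CohCx.inclCompl U')).PreservesMonomorphisms := inferInstance
  exact Injective.injective_of_adjoint (pushAdjCompl U') I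

end Compl

section General

variable (i)

/-- the open complement of the image of a closed embedding -/
def complOpen : Opens X := ⟨(Set.range i)ᶜ, hi.isClosed_range.isOpen_compl⟩

include hi in
theorem closedEmbedding_summary :
    PreservesFiniteColimits (CohTop.push i) ∧ (CohTop.push i).Full ∧ (CohTop.push i).Faithful ∧
      (∀ F : CohTop.Ab X, (CohTop.push i).essImage F ↔
        ∀ x : X, x ∉ Set.range i → IsZero (CohTop.stalk F x)) ∧
      Nonempty (CohTop.push i ⋙ CohTop.pull i ≅ 𝟭 (CohTop.Ab Z)) := by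
  have hfull := (pushFullyFaithful hi).full
  have hfaith := (pushFullyFaithful hi).faithful
  refine ⟨ClosedPush.preservesFiniteColimits_push i hi, hfull, hfaith, ?_, ?_⟩
  · intro F
    rw [essImage_iff hi (complOpen i hi) rfl F, suppOn_iff_stalk]
    rfl
  · exact ⟨asIso (adj i).counit⟩

end General

end Groth.Agent.H30.ClosedAdj
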