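import Groth.Agent.H30.ConstPush
import Groth.Agent.H30.ExactDerived

/-!
# Direct image along a closed embedding is exact; `H^p(X, F) ≅ H^p(Y, i_* F)`
-/

set_option autoImplicit false
universe u
open CategoryTheory Limits TopologicalSpace Opposite

namespace Groth.Agent.H30.ClosedPush

variable {X Y : TopCat.{u}} (f : X ⟶ Y)

/-- Sections of an abelian sheaf over an empty open are trivial. -/
lemma subsingleton_of_eq_bot (H : CohTop.Ab X) {W : Opens X} (hW : W = ⊥) :
    Subsingleton (H.obj.obj (op W)) := by
  have h1 : IsTerminal (H.obj.obj (op W)) := TopCat.Sheaf.isTerminalOfEqEmpty H hW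
  have h2 : IsZero (H.obj.obj (op W)) := by
    rw [IsZero.iff_id_eq_zero]
    exact h1.hom_ext _ _
  exact AddCommGrpCat.subsingleton_of_isZero h2

/-- Direct image along a closed embedding preserves epimorphisms. -/
lemma epi_push_map (hf : Topology.IsClosedEmbedding f) {G H : CohTop.Ab X} (φ : G ⟶ H) [Epi φ] :
    Epi ((CohTop.push f).map φ) := by
  have hφ : TopCat.Presheaf.IsLocallySurjective φ.hom :=
    (Sheaf.isLocallySurjective_iff_epi' (A := AddCommGrpCat.{u}) φ).2 inferInstance
  rw [TopCat.Presheaf.isLocallySurjective_iff] at hφ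
  have : Sheaf.IsLocallySurjective ((CohTop.push f).map φ) := by
    change TopCat.Presheaf.IsLocallySurjective ((CohTop.push f).map φ).hom
    rw [TopCat.Presheaf.isLocallySurjective_iff]
    intro V s y hy
    let s₀ : H.obj.obj (op ((Opens.map f).obj V)) := s
    by_cases hyr : y ∈ Set.range f
    · obtain ⟨x, rfl⟩ := hyr
      obtain ⟨W, hWV, ⟨t, ht⟩, hxW⟩ := hφ ((Opens.map f).obj V) s₀ x hy
      obtain ⟨V₀, hV₀, hV₀W⟩ := hf.isInducing.isOpen_iff.1 W.2
      let V' : Opens Y := ⟨V₀, hV₀⟩ ⊓ V
      have hle : (Opens.map f).obj V' ≤ W := by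
        intro z hz
        have : z ∈ f ⁻¹' V₀ := hz.1
        rw [hV₀W] at this
        exact this
      have hxV' : f x ∈ V' := by
        refine ⟨?_, hy⟩
        have : x ∈ f ⁻¹' V₀ := by rw [hV₀W]; exact hxW
        exact this
      refine ⟨V', inf_le_right, ⟨(G.obj.map (homOfLE hle).op).hom t, ?_⟩, hxV'⟩
      have nat := ConcreteCategory.congr_hom (φ.hom.naturality (homOfLE hle).op) t
      refine nat.trans ?_
      change (H.obj.map (homOfLE hle).op).hom ((φ.hom.app (op W)).hom t) = _
      have ht' : (φ.hom.app (op W)).hom t = (H.obj.map (homOfLE hWV).op).hom s₀ := ht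
      rw [ht']
      change (H.obj.map (homOfLE hWV).op ≫ H.obj.map (homOfLE hle).op).hom s₀ = _
      rw [← H.obj.map_comp]
      rfl
    · let V' : Opens Y := ⟨(Set.range f)ᶜ, hf.isClosed_range.isOpen_compl⟩ ⊓ V
      have hbot : (Opens.map f).obj V' = ⊥ := by
        ext z
        simp only [Opens.coe_bot, Set.mem_empty_iff_false, iff_false]
        intro hz
        exact hz.1 ⟨z, rfl⟩
      have hss : Subsingleton (H.obj.obj (op ((Opens.map f).obj V'))) :=
        subsingleton_of_eq_bot H hbot
      exact ⟨V', inf_le_right, ⟨0, @Subsingleton.elim _ hss _ _⟩, ⟨hyr, hy⟩⟩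
  infer_instance

/-- Direct image along a closed embedding is right exact. -/
lemma preservesFiniteColimits_push (hf : Topology.IsClosedEmbedding f) :
    PreservesFiniteColimits (CohTop.push f) := by
  rw [Functor.preservesFiniteColimits_iff_forall_exact_map_and_epi]
  intro S hS
  have h0 : PreservesFiniteLimits (CohTop.push f) := inferInstance
  have h1 := (Functor.preservesFiniteLimits_iff_forall_exact_map_and_mono (CohTop.push f)).1 h0 S hS
  have := hS.epi_g
  exact ⟨h1.1, epi_push_map f hf S.g⟩

/-- `R^{q+1} i_* = 0` for a closed embedding `i`. -/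
lemma isZero_Rpush (hf : Topology.IsClosedEmbedding f) (F : CohTop.Ab X) (q : ℕ) :
    IsZero ((CohTop.Rpush f (q + 1)).obj F) := by
  have := preservesFiniteColimits_push f hf
  exact ExactDerived.isZero_rightDerived_succ (CohTop.push f) F q

/-- `H^p(X, F) ≃ H^p(Y, i_* F)` for a closed embedding `i`. -/
theorem H_equiv_push (hf : Topology.IsClosedEmbedding f) (F : CohTop.Ab X) (p : ℕ) :
    Nonempty (CohTop.H F p ≃+ CohTop.H ((CohTop.push f).obj F) p) :=
  ConstPush.H_push_of_isZero f F (isZero_Rpush f hf F) p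

end Groth.Agent.H30.ClosedPush
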