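import Mathlib
import Groth.Prelude.Def_QCohCat
import Groth.Prelude.Def_CohB1
import Groth.Agent.H8.QcqsPush
import Groth.Agent.H12.RestrictLim

/-!
# Restriction `QCoh(X) ⥤ QCoh(U)` is a localization (for `U ⟶ X` quasi-compact)
-/

set_option autoImplicit false
universe u
open CategoryTheory Limits TopologicalSpace Opposite AlgebraicGeometry

namespace Groth.Agent.H30.QCohLoc

open Scheme.Modules

section Supp

variable {X : Scheme.{u}} {U : Scheme.{u}} (j : U ⟶ X) [IsOpenImmersion j]

lemma eq_zero_of_isZero' {Y : Scheme.{u}} (N : Y.Modules) (hN : IsZero N) (W : Y.Opens)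
    (s : Γ(N, W)) : s = 0 := by
  have h : (𝟙 N : N ⟶ N) = 0 := (IsZero.iff_id_eq_zero N).1 hN
  have h2 : (𝟙 N : N ⟶ N).app W = (0 : N ⟶ N).app W := by rw [h]
  have h3 := congrArg (fun φ : Γ(N, W) ⟶ Γ(N, W) => φ s) h2
  simpa using h3

lemma subsingleton_stalk_of_isZero_restrict (M : X.Modules)
    (hM : IsZero ((restrictFunctor j).obj M)) (x : X)
    (hx : x ∈ j.opensRange) : Subsingleton (M.presheaf.stalk x) := by
  refine subsingleton_of_forall_eq 0 (fun t => ?_)
  obtain ⟨V, hxV, s, rfl⟩ := M.presheaf.exists_germ_eq t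
  have hle : j ''ᵁ (j ⁻¹ᵁ V) ≤ V := by
    rw [Scheme.Hom.image_preimage_eq_opensRange_inf]
    exact inf_le_right
  have hx' : x ∈ j ''ᵁ (j ⁻¹ᵁ V) := by
    rw [Scheme.Hom.image_preimage_eq_opensRange_inf]
    exact ⟨hx, hxV⟩
  have h1 := M.presheaf.germ_res_apply (homOfLE hle) x hx' s
  rw [← h1]
  set s' := M.presheaf.map (homOfLE hle).op s with hs'
  have h2 : (restrictAppIso j M (j ⁻¹ᵁ V)).inv s' = 0 := eq_zero_of_isZero' _ hM _ _
  have h3 : s' = 0 := by
    have h4 := congrArg (restrictAppIso j M (j ⁻¹ᵁ V)).hom h2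
    simpa using h4
  rw [h3, map_zero]

lemma isZero_of_sections_eq_zero {Y : Scheme.{u}} (N : Y.Modules)
    (h : ∀ (W : Y.Opens) (s : Γ(N, W)), s = 0) : IsZero N := by
  rw [IsZero.iff_id_eq_zero]
  ext W s
  rw [h W s]
  simp

lemma sections_eq_zero_of_subsingleton_stalk (M : X.Modules) (V : X.Opens)
    (h : ∀ x ∈ V, Subsingleton (M.presheaf.stalk x)) (s : Γ(M, V)) : s = 0 := by
  refine TopCat.Presheaf.section_ext ⟨M.presheaf, M.isSheaf⟩ V s 0 (fun x hx => ?_)
  haveI := h x hx
  exact Subsingleton.elim _ _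

lemma isZero_restrict_of_subsingleton_stalk (M : X.Modules)
    (h : ∀ x ∈ j.opensRange, Subsingleton (M.presheaf.stalk x)) :
    IsZero ((restrictFunctor j).obj M) := by
  refine isZero_of_sections_eq_zero _ (fun W s => ?_)
  have h1 : (restrictAppIso j M W).hom s = 0 :=
    sections_eq_zero_of_subsingleton_stalk M (j ''ᵁ W)
      (fun x hx => h x (Scheme.Hom.image_le_opensRange j W hx)) _
  have h2 := congrArg (restrictAppIso j M W).inv h1
  simpa using h2

lemma support_subset_compl_iff (M : X.Modules) :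
    CohB1.support M ⊆ (j.opensRange : Set X)ᶜ ↔ IsZero ((restrictFunctor j).obj M) := by
  constructor
  · intro h
    refine isZero_restrict_of_subsingleton_stalk j M (fun x hx => ?_)
    by_contra hn
    exact h hn hx
  · intro h x hx hxU
    exact hx (subsingleton_stalk_of_isZero_restrict j M h x hxU)

end Supp

section Iso

variable {X : Scheme.{u}} {U : Scheme.{u}} (j : U ⟶ X) [IsOpenImmersion j]

lemma isIso_restrict_map_iff {A B : X.Modules} (f : A ⟶ B) :
    IsIso ((restrictFunctor j).map f) ↔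
      (CohB1.support (kernel f) ⊆ (j.opensRange : Set X)ᶜ ∧
        CohB1.support (cokernel f) ⊆ (j.opensRange : Set X)ᶜ) := by
  rw [support_subset_compl_iff, support_subset_compl_iff]
  have ek : (restrictFunctor j).obj (kernel f) ≅ kernel ((restrictFunctor j).map f) :=
    PreservesKernel.iso (restrictFunctor j) f
  have ec : (restrictFunctor j).obj (cokernel f) ≅ cokernel ((restrictFunctor j).map f) :=
    PreservesCokernel.iso (restrictFunctor j) f
  constructor
  · intro h
    exact ⟨IsZero.of_iso (isZero_kernel_of_mono _) ek, IsZero.of_iso (isZero_cokernel_of_epi _) ec⟩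
  · rintro ⟨h1, h2⟩
    have hm : Mono ((restrictFunctor j).map f) :=
      Preadditive.mono_of_isZero_kernel _ (IsZero.of_iso h1 ek.symm)
    have he : Epi ((restrictFunctor j).map f) :=
      Preadditive.epi_of_isZero_cokernel _ (IsZero.of_iso h2 ec.symm)
    exact isIso_of_mono_of_epi _

end Iso

section Main

variable (X : Scheme.{u}) (U : X.Opens)

/-- restriction `QCoh(X) ⥤ QCoh(U)` -/
noncomputable abbrev G : QCohCat.QCoh X ⥤ QCohCat.QCoh (↑U : Scheme.{u}) :=
  ObjectProperty.lift (QCohCat.isQCoh (↑U : Scheme.{u}))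
    (ObjectProperty.ι (QCohCat.isQCoh X) ⋙ Scheme.Modules.restrictFunctor U.ι)
    (fun M => @Scheme.Modules.isQuasicoherent_restrictFunctor (↑U : Scheme.{u}) X U.ι
      inferInstance M.obj M.property)

variable [QuasiCompact U.ι]

/-- pushforward `QCoh(U) ⥤ QCoh(X)` -/
noncomputable abbrev F : QCohCat.QCoh (↑U : Scheme.{u}) ⥤ QCohCat.QCoh X :=
  ObjectProperty.lift (QCohCat.isQCoh X)
    (ObjectProperty.ι (QCohCat.isQCoh (↑U : Scheme.{u})) ⋙ Scheme.Modules.pushforward U.ι)
    (fun M => by
      haveI : M.obj.IsQuasicoherent := M.property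
      exact Groth.Agent.H8.isQuasicoherent_pushforward_of_qcqs U.ι M.obj)

noncomputable def adj : G X U ⊣ F X U :=
  (restrictAdjunction U.ι).restrictFullyFaithful
    (ObjectProperty.fullyFaithfulι _) (ObjectProperty.fullyFaithfulι _) (Iso.refl _) (Iso.refl _)

theorem isLocalization_G :
    (G X U).IsLocalization
      (fun (A B : QCohCat.QCoh X) (f : A ⟶ B) =>
        CohB1.support (kernel f.hom) ⊆ (↑U : Set X)ᶜ ∧
          CohB1.support (cokernel f.hom) ⊆ (↑U : Set X)ᶜ) := by
  haveI hfull0 : (Scheme.Modules.pushforward U.ι).Full := inferInstance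
  haveI hfaith0 : (Scheme.Modules.pushforward U.ι).Faithful := inferInstance
  haveI hfull1 : (ObjectProperty.ι (QCohCat.isQCoh (↑U : Scheme.{u})) ⋙
      Scheme.Modules.pushforward U.ι).Full := inferInstance
  haveI hfaith1 : (ObjectProperty.ι (QCohCat.isQCoh (↑U : Scheme.{u})) ⋙
      Scheme.Modules.pushforward U.ι).Faithful := inferInstance
  haveI hfaith : (F X U).Faithful :=
    Functor.Faithful.of_comp_iso (ObjectProperty.liftCompιIso (QCohCat.isQCoh X) _ _)
  haveI hfull : (F X U).Full :=
    Functor.Full.of_comp_faithful_iso (ObjectProperty.liftCompιIso (QCohCat.isQCoh X) _ _)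
  have h := (adj X U).isLocalization
  have hW : (fun (A B : QCohCat.QCoh X) (f : A ⟶ B) =>
        CohB1.support (kernel f.hom) ⊆ (↑U : Set X)ᶜ ∧
          CohB1.support (cokernel f.hom) ⊆ (↑U : Set X)ᶜ) =
      (MorphismProperty.isomorphisms (QCohCat.QCoh (↑U : Scheme.{u}))).inverseImage (G X U) := by
    ext A B f
    have h1 := isIso_restrict_map_iff U.ι f.hom
    rw [Scheme.Opens.opensRange_ι] at h1
    rw [← h1]
    change _ ↔ IsIso ((G X U).map f)
    constructor
    · intro hi
      haveI : IsIso ((ObjectProperty.ι _).map ((G X U).map f)) := hi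
      exact isIso_of_fully_faithful (ObjectProperty.ι (QCohCat.isQCoh (↑U : Scheme.{u}))) _
    · intro hi
      exact (inferInstance : IsIso ((ObjectProperty.ι _).map ((G X U).map f)))
  rw [hW]
  exact h

end Main

end Groth.Agent.H30.QCohLoc
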