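import Mathlib
import Groth.Prelude.Def_KZero
import Groth.Prelude.Def_SGA6

/-!
# `K₀` of an abelian full subcategory versus `K0sub` of the ambient category
-/

set_option autoImplicit false
set_option linter.style.haveILetI false
universe v v' u u'
open CategoryTheory CategoryTheory.Limits ZeroObject

namespace Groth.Agent.H30.K0Bridge

open KZero

section Sub

variable {A : Type u} [Category.{v} A] [Abelian A] (P : ObjectProperty A)

theorem clSub_of {X : A} (h : P X) :
    clSub P X = QuotientAddGroup.mk (FreeAbelianGroup.of (⟨X, h⟩ : Subtype P)) := by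
  unfold clSub; rw [dif_pos h]

theorem clSub_shortExact (S : ShortComplex A) (hS : S.ShortExact)
    (h₁ : P S.X₁) (h₂ : P S.X₂) (h₃ : P S.X₃) :
    clSub P S.X₂ = clSub P S.X₁ + clSub P S.X₃ := by
  have h : (FreeAbelianGroup.of (⟨S.X₂, h₂⟩ : Subtype P) - FreeAbelianGroup.of ⟨S.X₁, h₁⟩ -
      FreeAbelianGroup.of ⟨S.X₃, h₃⟩ : FreeAbelianGroup (Subtype P)) ∈ relSub P :=
    AddSubgroup.subset_closure ⟨S, h₁, h₂, h₃, hS, rfl⟩
  have h2 := (QuotientAddGroup.eq_zero_iff _).2 h
  simp only [QuotientAddGroup.mk_sub] at h2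
  rw [clSub_of P h₁, clSub_of P h₂, clSub_of P h₃]
  rw [sub_sub, sub_eq_zero] at h2
  exact h2

theorem K0sub_induction {motive : K0sub P → Prop} (x : K0sub P) (zero : motive 0)
    (cl : ∀ (X : A) (_ : P X), motive (clSub P X)) (neg : ∀ x, motive x → motive (-x))
    (add : ∀ x y, motive x → motive y → motive (x + y)) : motive x := by
  induction x using QuotientAddGroup.induction_on with
  | H z =>
    induction z using FreeAbelianGroup.induction_on with
    | zero => exact zero
    | of X => have := cl X.1 X.2; rwa [clSub_of P X.2] at this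
    | neg X h => exact neg _ h
    | add x y hx hy => exact add _ _ hx hy

variable [P.IsClosedUnderIsomorphisms] [P.ContainsZero]

theorem clSub_isZero {X : A} (hX : IsZero X) : clSub P X = 0 := by
  have hP : P X := P.prop_of_isZero hX
  have hS : (ShortComplex.mk (0 : X ⟶ X) (0 : X ⟶ X) zero_comp).ShortExact := by
    refine ShortComplex.ShortExact.mk' ?_ ?_ ?_
    · exact ShortComplex.exact_of_isZero_X₂ _ hX
    · exact ⟨fun _ _ _ => hX.eq_of_tgt _ _⟩
    · exact ⟨fun _ _ _ => hX.eq_of_src _ _⟩
  have := clSub_shortExact P _ hS hP hP hP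
  simpa using this

theorem clSub_iso {X Y : A} (e : X ≅ Y) (hX : P X) : clSub P X = clSub P Y := by
  have hY : P Y := P.prop_of_iso e hX
  have hS : (ShortComplex.mk e.hom (0 : Y ⟶ (0 : A)) comp_zero).ShortExact := by
    refine ShortComplex.ShortExact.mk' ?_ ?_ ?_
    · exact (ShortComplex.exact_iff_epi _ rfl).2 (by dsimp; infer_instance)
    · dsimp; infer_instance
    · exact ⟨fun _ _ _ => (isZero_zero A).eq_of_src _ _⟩
  have := clSub_shortExact P _ hS hX hY (P.prop_of_isZero (isZero_zero A))
  simp only [clSub_isZero P (isZero_zero A), add_zero] at this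
  exact this.symm

end Sub

section MapSub

variable {A : Type u} [Category.{v} A] [Abelian A] {B : Type u'} [Category.{v'} B] [Abelian B]
  (F : A ⥤ B) [F.Additive] [PreservesFiniteLimits F] [PreservesFiniteColimits F]
  (P : ObjectProperty A) (Q : ObjectProperty B) (h : ∀ X, P X → Q (F.obj X))

theorem mapSub_clSub {X : A} (hX : P X) :
    SGA6.mapSub F P Q h (clSub P X) = clSub Q (F.obj X) := by
  rw [clSub_of P hX, clSub_of Q (h X hX)]
  simp [SGA6.mapSub, SGA6.objMap]

end MapSub

section Bridge

variable {C : Type u} [Category.{v} C] [Abelian C] (P : ObjectProperty C)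
  [P.ContainsZero] [P.IsClosedUnderKernels] [P.IsClosedUnderCokernels]
  [P.IsClosedUnderFiniteProducts]

lemma preservesFiniteLimits_ι : PreservesFiniteLimits P.ι :=
  ((Functor.preservesFiniteLimits_tfae P.ι).out 2 3).1 (fun _ _ f => P.preservesKernels_ι f)

lemma preservesFiniteColimits_ι : PreservesFiniteColimits P.ι :=
  ((Functor.preservesFiniteColimits_tfae P.ι).out 2 3).1 (fun _ _ f => P.preservesCokernels_ι f)

/-- `K₀(P.FullSubcategory) → K0sub P` -/
noncomputable def beta : K0 P.FullSubcategory →+ K0sub P :=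
  QuotientAddGroup.map (relAb P.FullSubcategory) (relSub P)
    (FreeAbelianGroup.map (fun M : P.FullSubcategory => (⟨M.obj, M.property⟩ : Subtype P))) (by
    haveI := preservesFiniteLimits_ι P
    haveI := preservesFiniteColimits_ι P
    rw [relAb, AddSubgroup.closure_le]
    rintro x ⟨S, hS, rfl⟩
    simp only [AddSubgroup.coe_comap, Set.mem_preimage, map_sub, FreeAbelianGroup.map_of_apply,
      SetLike.mem_coe]
    exact AddSubgroup.subset_closure
      ⟨S.map P.ι, S.X₁.property, S.X₂.property, S.X₃.property, hS.map_of_exact P.ι, rfl⟩)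

theorem beta_cl (M : P.FullSubcategory) : beta P (cl M) = clSub P M.obj := by
  rw [clSub_of P M.property]
  simp [beta, cl]

/-- a short complex of the ambient category with terms in `P`, lifted to the subcategory -/
def liftSC (S : ShortComplex C) (h₁ : P S.X₁) (h₂ : P S.X₂) (h₃ : P S.X₃) :
    ShortComplex P.FullSubcategory :=
  ShortComplex.mk (X₁ := ⟨S.X₁, h₁⟩) (X₂ := ⟨S.X₂, h₂⟩) (X₃ := ⟨S.X₃, h₃⟩)
    (P.homMk S.f) (P.homMk S.g) (by ext; exact S.zero)

lemma liftSC_shortExact (S : ShortComplex C) (hS : S.ShortExact)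
    (h₁ : P S.X₁) (h₂ : P S.X₂) (h₃ : P S.X₃) : (liftSC P S h₁ h₂ h₃).ShortExact := by
  haveI := preservesFiniteLimits_ι P
  haveI := preservesFiniteColimits_ι P
  have hS' : ((liftSC P S h₁ h₂ h₃).map P.ι).ShortExact := hS
  haveI : Mono (P.ι.map (liftSC P S h₁ h₂ h₃).f) := hS'.mono_f
  haveI : Epi (P.ι.map (liftSC P S h₁ h₂ h₃).g) := hS'.epi_g
  exact
    { exact := ((liftSC P S h₁ h₂ h₃).exact_map_iff_of_faithful P.ι).1 hS'.exact
      mono_f := P.ι.mono_of_mono_map (inferInstance : Mono (P.ι.map (liftSC P S h₁ h₂ h₃).f))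
      epi_g := P.ι.epi_of_epi_map (inferInstance : Epi (P.ι.map (liftSC P S h₁ h₂ h₃).g)) }

/-- `K0sub P → K₀(P.FullSubcategory)` -/
noncomputable def alpha : K0sub P →+ K0 P.FullSubcategory :=
  QuotientAddGroup.map (relSub P) (relAb P.FullSubcategory)
    (FreeAbelianGroup.map (fun M : Subtype P => (⟨M.1, M.2⟩ : P.FullSubcategory))) (by
    rw [relSub, AddSubgroup.closure_le]
    rintro x ⟨S, h₁, h₂, h₃, hS, rfl⟩
    simp only [AddSubgroup.coe_comap, Set.mem_preimage, map_sub, FreeAbelianGroup.map_of_apply,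
      SetLike.mem_coe]
    exact AddSubgroup.subset_closure
      ⟨liftSC P S h₁ h₂ h₃, liftSC_shortExact P S hS h₁ h₂ h₃, rfl⟩)

theorem alpha_clSub {X : C} (h : P X) : alpha P (clSub P X) = cl (⟨X, h⟩ : P.FullSubcategory) := by
  rw [clSub_of P h]
  simp [alpha, cl]

theorem alpha_beta (x : K0 P.FullSubcategory) : alpha P (beta P x) = x := by
  induction x using QuotientAddGroup.induction_on with
  | H z =>
    induction z using FreeAbelianGroup.induction_on with
    | zero => simp
    | of M =>
      have h1 := beta_cl P M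
      have h2 := alpha_clSub P M.property
      unfold cl at h1 h2
      rw [h1, h2]
    | neg M h => simpa using h
    | add x y hx hy =>
      rw [QuotientAddGroup.mk_add, map_add, map_add, hx, hy]

theorem beta_injective : Function.Injective (beta P) :=
  Function.LeftInverse.injective (alpha_beta P)

theorem beta_surjective : Function.Surjective (beta P) := by
  intro y
  induction y using K0sub_induction P with
  | zero => exact ⟨0, map_zero _⟩
  | cl X hX => exact ⟨cl ⟨X, hX⟩, beta_cl P ⟨X, hX⟩⟩
  | neg x h => obtain ⟨a, rfl⟩ := h; exact ⟨-a, map_neg _ _⟩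
  | add x y hx hy =>
    obtain ⟨a, rfl⟩ := hx; obtain ⟨b, rfl⟩ := hy; exact ⟨a + b, map_add _ _ _⟩

end Bridge

end Groth.Agent.H30.K0Bridge
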