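import Mathlib
import Groth.Prelude.Def_QCohCat
import Groth.Agent.H8.QcqsPush
import Groth.Agent.H44.PullbackAffine

/-!
# The coherator commutes with pushforward along a qcqs morphism
-/

set_option autoImplicit false
universe u
open CategoryTheory Limits AlgebraicGeometry

namespace Groth.Agent.H30.CoheratorPush

open Scheme.Modules

variable {X Y : Scheme.{u}} (f : X ⟶ Y)

/-- pullback `QCoh(Y) ⥤ QCoh(X)` -/
noncomputable abbrev Lq : QCohCat.QCoh Y ⥤ QCohCat.QCoh X :=
  ObjectProperty.lift (QCohCat.isQCoh X)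
    (ObjectProperty.ι (QCohCat.isQCoh Y) ⋙ Scheme.Modules.pullback f)
    (fun M => by
      haveI : M.obj.IsQuasicoherent := M.property
      exact Groth.Agent.H44.isQuasicoherent_pullback f M.obj)

variable [QuasiCompact f] [QuasiSeparated f]

/-- pushforward `QCoh(X) ⥤ QCoh(Y)` -/
noncomputable abbrev Fq : QCohCat.QCoh X ⥤ QCohCat.QCoh Y :=
  ObjectProperty.lift (QCohCat.isQCoh Y)
    (ObjectProperty.ι (QCohCat.isQCoh X) ⋙ Scheme.Modules.pushforward f)
    (fun M => by
      haveI : M.obj.IsQuasicoherent := M.property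
      exact Groth.Agent.H8.isQuasicoherent_pushforward_of_qcqs f M.obj)

noncomputable def adjq : Lq f ⊣ Fq f :=
  (pullbackPushforwardAdjunction f).restrictFullyFaithful
    (ObjectProperty.fullyFaithfulι _) (ObjectProperty.fullyFaithfulι _) (Iso.refl _) (Iso.refl _)

theorem main
    (QX : X.Modules ⥤ QCohCat.QCoh X) (adjX : (QCohCat.isQCoh X).ι ⊣ QX)
    (QY : Y.Modules ⥤ QCohCat.QCoh Y) (adjY : (QCohCat.isQCoh Y).ι ⊣ QY) :
    Nonempty ((QX ⋙ (QCohCat.isQCoh X).ι ⋙ Scheme.Modules.pushforward f) ≅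
      (Scheme.Modules.pushforward f ⋙ QY ⋙ (QCohCat.isQCoh Y).ι)) := by
  let adj1 : (QCohCat.isQCoh Y).ι ⋙ Scheme.Modules.pullback f ⊣ Scheme.Modules.pushforward f ⋙ QY :=
    adjY.comp (pullbackPushforwardAdjunction f)
  let adj2 : Lq f ⋙ (QCohCat.isQCoh X).ι ⊣ QX ⋙ Fq f := (adjq f).comp adjX
  let e : Scheme.Modules.pushforward f ⋙ QY ≅ QX ⋙ Fq f := adj1.rightAdjointUniq adj2
  exact ⟨(Functor.isoWhiskerRight e (QCohCat.isQCoh Y).ι).symm⟩

end Groth.Agent.H30.CoheratorPush
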