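import Groth.Agent.H30.FlasqueAcyclic

set_option autoImplicit false
universe u
open CategoryTheory Limits TopologicalSpace Opposite Abelian

namespace Groth.Agent.H30.FlasquePush

open Groth.Agent.H30.Flasque Groth.Agent.H30.ExtShift Groth.Agent.H30.Leray Groth.Agent.H30.FlasqueAcyclic

variable {X Y : TopCat.{u}} (f : X ⟶ Y)

instance : (CohTop.push f).IsRightAdjoint :=
  (TopCat.Sheaf.pullbackPushforwardAdjunction AddCommGrpCat.{u} f).isRightAdjoint

instance : PreservesFiniteLimits (CohTop.push f) := inferInstance

lemma epi_push_map_g (S : ShortComplex (CohTop.Ab X)) (hS : S.ShortExact) (h₁ : flasque S.X₁) :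
    Epi ((CohTop.push f).map S.g) := by
  have : Sheaf.IsLocallySurjective ((CohTop.push f).map S.g) := by
    apply Presheaf.isLocallySurjective_of_surjective
    intro U
    exact surjective_g S hS h₁ ((Opens.map f).obj U.unop)
  infer_instance

theorem acyclic_push (F : CohTop.Ab X) [TopCat.Sheaf.IsFlasque F] :
    acyclic (CohTop.push f) F :=
  haveI : HasDerivedCategory.{u+1} (CohTop.Ab X) := HasDerivedCategory.standard _
  haveI : HasDerivedCategory.{u+1} (CohTop.Ab Y) := HasDerivedCategory.standard _
  Adapted.acyclic_of_adapted (CohTop.push f) flasque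
    (fun S hS h₁ h₂ => ⟨flasque_X₃ S hS h₁ h₂, epi_push_map_g f S hS h₁⟩) F ‹_›

end Groth.Agent.H30.FlasquePush
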