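import Groth.Agent.H30.Degenerate
import Groth.Agent.H30.GrothSSExt
import Groth.Agent.H30.FlasquePush
import Mathlib.CategoryTheory.Adjunction.Additive

/-!
# Cohomology of a space via direct images: the functor `f_* ⋙ Hom(ℤ_Y, -)`
-/

set_option autoImplicit false
set_option linter.unusedSectionVars false
universe v u u'
open CategoryTheory Limits Opposite TopologicalSpace

namespace Groth.Agent.H30.ConstPush

open Leray FlasqueAcyclic

section Adj

variable {C : Type u} {D : Type u'} [Category.{v} C] [Category.{v} D] [Preadditive C]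
  [Preadditive D] {L : C ⥤ D} {R : D ⥤ C} [L.Additive]

/-- For an adjunction `L ⊣ R` of additive functors, `R ⋙ Hom(M, -) ≅ Hom(L M, -)`. -/
noncomputable def adjHomIso (adj : L ⊣ R) (M : C) :
    R ⋙ preadditiveCoyoneda.obj (op M) ≅ preadditiveCoyoneda.obj (op (L.obj M)) :=
  NatIso.ofComponents (fun Y => (adj.homAddEquiv M Y).symm.toAddCommGrpIso) (by
    intro Y Z g
    ext φ
    exact adj.homEquiv_naturality_right_symm φ g)

end Adj

variable {X Y : TopCat.{u}} (f : X ⟶ Y)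

/-- The constant sheaf `ℤ` on `X` (the one used in `Sheaf.H`). -/
noncomputable abbrev cZ (X : TopCat.{u}) : CohTop.Ab X :=
  (constantSheaf (Opens.grothendieckTopology X) AddCommGrpCat.{u}).obj
    (AddCommGrpCat.of (ULift ℤ))

/-- Global sections. -/
noncomputable abbrev Γ (X : TopCat.{u}) : CohTop.Ab X ⥤ AddCommGrpCat.{u} :=
  (sheafSections (Opens.grothendieckTopology X) AddCommGrpCat.{u}).obj (op ⊤)

/-- `Γ(Y, f_* -) ≅ Γ(X, -)`. -/
noncomputable def pushΓIso : CohTop.push f ⋙ Γ Y ≅ Γ X :=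
  NatIso.ofComponents (fun F => Iso.refl _) (by intro F G g; rfl)

/-- `Hom(ℤ_X, -) ≅ Γ(X, -) ⋙ Hom(ℤ, -)`. -/
noncomputable def homConstIso (X : TopCat.{u}) :
    Γ X ⋙ preadditiveCoyoneda.obj (op (AddCommGrpCat.of (ULift ℤ))) ≅
      preadditiveCoyoneda.obj (op (cZ X)) :=
  adjHomIso (constantSheafAdj (Opens.grothendieckTopology X) AddCommGrpCat.{u}
    (isTerminalTop : IsTerminal (⊤ : Opens X))) _

/-- The natural isomorphism `f_* ⋙ Hom(ℤ_Y, -) ≅ Hom(ℤ_X, -)`. -/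
noncomputable def κ :
    CohTop.push f ⋙ preadditiveCoyoneda.obj (op (cZ Y)) ≅ preadditiveCoyoneda.obj (op (cZ X)) :=
  Functor.isoWhiskerLeft (CohTop.push f) (homConstIso Y).symm ≪≫
    (Functor.associator _ _ _).symm ≪≫
    Functor.isoWhiskerRight (pushΓIso f) _ ≪≫ homConstIso X

/-- Flasque sheaves are acyclic for `Hom(ℤ_X, -)`. -/
lemma acyclic_homConst (G : CohTop.Ab X) [TopCat.Sheaf.IsFlasque G]
    [HasDerivedCategory.{u + 1} (CohTop.Ab X)] [HasDerivedCategory.{u + 1} AddCommGrpCat.{u}] :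
    acyclic (preadditiveCoyoneda.obj (op (cZ X))) G := by
  intro q hq
  obtain ⟨e⟩ := ExtDerived.nonempty_iso_rightDerived (cZ X) q G
  refine IsZero.of_iso ?_ e.symm
  obtain ⟨j, rfl⟩ : ∃ j, q = j + 1 := ⟨q - 1, by lia⟩
  have := subsingleton_H G j
  exact AddCommGrpCat.isZero_of_subsingleton _

lemma hT [HasDerivedCategory.{u + 1} (CohTop.Ab Y)]
    [HasDerivedCategory.{u + 1} AddCommGrpCat.{u}] :
    ∀ Q : CohTop.Ab X, Injective Q → ∀ q : ℕ, 0 < q →
      IsZero (((preadditiveCoyoneda.obj (op (cZ Y))).rightDerived q).obj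
        ((CohTop.push f).obj Q)) := by
  intro Q hQ q hq
  have : TopCat.Sheaf.IsFlasque Q := Flasque.isFlasque_of_injective Q
  have : TopCat.Sheaf.IsFlasque ((CohTop.push f).obj Q) :=
    TopCat.Sheaf.IsFlasque.pushforward_isFlasque Q f
  exact acyclic_homConst ((CohTop.push f).obj Q) q hq

/-- `H^n(X, F) ≅ Rⁿ(f_* ⋙ Hom(ℤ_Y, -))(F)`. -/
lemma nonempty_H_iso [HasDerivedCategory.{u + 1} (CohTop.Ab X)]
    [HasDerivedCategory.{u + 1} AddCommGrpCat.{u}] (F : CohTop.Ab X) (n : ℕ) :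
    Nonempty (AddCommGrpCat.of (CohTop.H F n) ≅
      ((CohTop.push f ⋙ preadditiveCoyoneda.obj (op (cZ Y))).rightDerived n).obj F) := by
  obtain ⟨e⟩ := ExtDerived.nonempty_iso_rightDerived (cZ X) n F
  exact ⟨e ≪≫ ((GrothSSExt.rightDerivedIsoOfIso (κ f) n).app F).symm⟩

/-- If `R^q f_* F = 0` for `q > 0` then `H^p(X, F) ≅ H^p(Y, f_* F)`. -/
theorem H_push_of_isZero (F : CohTop.Ab X)
    (h : ∀ q : ℕ, IsZero ((CohTop.Rpush f (q + 1)).obj F)) (p : ℕ) :
    Nonempty (CohTop.H F p ≃+ CohTop.H ((CohTop.push f).obj F) p) := by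
  let _ : HasDerivedCategory.{u + 1} (CohTop.Ab X) := HasDerivedCategory.standard _
  let _ : HasDerivedCategory.{u + 1} (CohTop.Ab Y) := HasDerivedCategory.standard _
  let _ : HasDerivedCategory.{u + 1} AddCommGrpCat.{u} := HasDerivedCategory.standard _
  have h' : ∀ q : ℕ, 0 < q → IsZero (((CohTop.push f).rightDerived q).obj F) := fun q hq => by
    obtain ⟨j, rfl⟩ : ∃ j, q = j + 1 := ⟨q - 1, by lia⟩
    exact h j
  obtain ⟨e⟩ := Degenerate.iso_of_isZero_higher (CohTop.push f)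
    (preadditiveCoyoneda.obj (op (cZ Y))) (hT f) F h' p
  obtain ⟨e1⟩ := nonempty_H_iso f F p
  obtain ⟨e2⟩ := ExtDerived.nonempty_iso_rightDerived (cZ Y) p ((CohTop.push f).obj F)
  exact ⟨(e1 ≪≫ e ≪≫ ((preadditiveCoyoneda.obj (op (cZ Y))).rightDerived p).mapIso
    ((CohTop.push f).rightDerivedZeroIsoSelf.app F) ≪≫ e2.symm).addCommGroupIsoToAddEquiv⟩

/-- If `H^p(Y, R^q f_* F) = 0` for `p > 0` then `H^q(X, F) ≅ Γ(Y, R^q f_* F)`. -/
theorem H_iso_sections_Rpush (F : CohTop.Ab X)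
    (h : ∀ p q : ℕ, Subsingleton (CohTop.H ((CohTop.Rpush f q).obj F) (p + 1))) (q : ℕ) :
    Nonempty (CohTop.H F q ≃+ ((CohTop.Rpush f q).obj F).obj.obj (op ⊤)) := by
  let _ : HasDerivedCategory.{u + 1} (CohTop.Ab X) := HasDerivedCategory.standard _
  let _ : HasDerivedCategory.{u + 1} (CohTop.Ab Y) := HasDerivedCategory.standard _
  let _ : HasDerivedCategory.{u + 1} AddCommGrpCat.{u} := HasDerivedCategory.standard _
  have hac : ∀ q : ℕ, acyclic (preadditiveCoyoneda.obj (op (cZ Y)))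
      (((CohTop.push f).rightDerived q).obj F) := by
    intro q i hi
    obtain ⟨j, rfl⟩ : ∃ j, i = j + 1 := ⟨i - 1, by lia⟩
    obtain ⟨e⟩ := ExtDerived.nonempty_iso_rightDerived (cZ Y) (j + 1)
      (((CohTop.push f).rightDerived q).obj F)
    refine IsZero.of_iso ?_ e.symm
    have := h j q
    exact AddCommGrpCat.isZero_of_subsingleton _
  obtain ⟨e⟩ := Degenerate.iso_of_acyclic (CohTop.push f)
    (preadditiveCoyoneda.obj (op (cZ Y))) (hT f) F hac q
  obtain ⟨e1⟩ := nonempty_H_iso f F q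
  refine ⟨(e1 ≪≫ e).addCommGroupIsoToAddEquiv.trans ?_⟩
  exact AddEquiv.trans ((constantSheafAdj (Opens.grothendieckTopology Y) AddCommGrpCat.{u}
    (isTerminalTop : IsTerminal (⊤ : Opens Y))).homAddEquiv _ _) (AddCommGrpCat.uliftZMultiplesAddEquiv _)

end Groth.Agent.H30.ConstPush
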