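import Groth.Agent.H30.GrothSS

/-!
# Degenerate cases of the hypercohomology / Grothendieck spectral sequence

For `KK ∈ D⁺(A)` and an additive functor `F : A ⥤ B`, with `Φ_n = H^n ∘ RF`:
* if `H^i(KK) = 0` for `i < m` then `Φ_i(KK) = 0` for `i < m` and `Φ_m(KK) ≅ R⁰F(H^m KK)`;
* if `KK ∈ D^{≥ 0}` and every `H^q(KK)` is `F`-acyclic then `Φ_n(KK) ≅ R⁰F(H^n KK)`;
* if `KK ∈ D^{≥ 0}` and `H^i(KK) = 0` for `i > 0` then `Φ_n(KK) ≅ RⁿF(H^0 KK)`.
These are then specialised to `KK = T(I•)` for composite functors `T ⋙ S`.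
-/

set_option autoImplicit false
set_option linter.unusedSectionVars false
universe w w' v v' u u'
open CategoryTheory Limits Pretriangulated ZeroObject

namespace Groth.Agent.H30.Degenerate

open DerivedCategory Hyper Leray GrothSS

section Plus

variable {A : Type u} [Category.{v} A] [Abelian A] [HasDerivedCategory.{w} A]
  (KK : DerivedCategory.Plus A)

lemma isGE_of_isZero_homology (m : ℤ)
    (h : ∀ i : ℤ, i < m → IsZero ((Plus.homologyFunctor A i).obj KK)) : KK.IsGE m := by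
  rw [← Plus.isGE_ι_obj_iff, DerivedCategory.isGE_iff]
  exact fun i hi => h i hi

lemma isLE_of_isZero_homology (m : ℤ)
    (h : ∀ i : ℤ, m < i → IsZero ((Plus.homologyFunctor A i).obj KK)) : KK.IsLE m := by
  rw [← Plus.isLE_ι_obj_iff, DerivedCategory.isLE_iff]
  exact fun i hi => h i hi

/-- The truncation `τ_{< q} KK`. -/
noncomputable abbrev tLT (q : ℤ) : DerivedCategory.Plus A :=
  (Plus.TStructure.t.eTruncLT.obj ((q : ℤ) : EInt)).obj KK

/-- The triangle `τ_{< q} KK ⟶ KK ⟶ τ_{≥ q} KK`. -/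
noncomputable abbrev triA (q : ℤ) : Triangle (DerivedCategory.Plus A) :=
  (Plus.TStructure.t.spectralObject KK).triangle
    (homOfLE (bot_le : (⊥ : EInt) ≤ ((q : ℤ) : EInt)))
    (homOfLE (le_top : ((q : ℤ) : EInt) ≤ ⊤))

/-- The triangle `τ_{< q} KK ⟶ τ_{< q+1} KK ⟶ τ_{≥ q} τ_{< q+1} KK`. -/
noncomputable abbrev triB (q : ℤ) : Triangle (DerivedCategory.Plus A) :=
  (Plus.TStructure.t.spectralObject KK).triangle
    (homOfLE (bot_le : (⊥ : EInt) ≤ ((q : ℤ) : EInt)))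
    (homOfLE (SpSeqConv.coe_le_coe_succ q))

lemma triA_dist (q : ℤ) : triA KK q ∈ distTriang _ :=
  (Plus.TStructure.t.spectralObject KK).triangle_distinguished _ _

lemma triB_dist (q : ℤ) : triB KK q ∈ distTriang _ :=
  (Plus.TStructure.t.spectralObject KK).triangle_distinguished _ _

example (q : ℤ) : (triA KK q).obj₁ = tLT KK q := rfl
example (q : ℤ) : (triA KK q).obj₂ = KK := rfl
example (q : ℤ) : (triB KK q).obj₁ = tLT KK q := rfl
example (q : ℤ) : (triB KK q).obj₂ = tLT KK (q + 1) := rfl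
example (q : ℤ) : (triB KK q).obj₃ = N KK q := rfl

end Plus

section Core

variable {A : Type u} [Category.{v} A] [Abelian A] [HasDerivedCategory.{w} A] [EnoughInjectives A]
  {B : Type u'} [Category.{v'} B] [Abelian B] [HasDerivedCategory.{w'} B]
  (F : A ⥤ B) [F.Additive] (KK : DerivedCategory.Plus A)

lemma isIso_Φ_map_triA_mor₁ (q n : ℤ) (hn : n < q) :
    IsIso (((Φ F).shift n).map (triA KK q).mor₁) := by
  have hGE : Plus.TStructure.t.IsGE (triA KK q).obj₃ q :=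
    Plus.TStructure.t.isGE_eTruncGE_obj_obj q _ le_rfl _
  exact isIso_shift_map_mor₁ (Φ F) _ (triA_dist KK q) (n - 1) n (by lia)
    (isZero_Φ_of_isGE F _ q _ (by lia)) (isZero_Φ_of_isGE F _ q _ hn)

/-- The core lemma: if `Φ_n` and `Φ_{n+1}` vanish on `τ_{<n} KK`, then
`Φ_n(KK) ≅ R⁰F(H^n KK)`. -/
lemma nonempty_Φ_iso (n : ℤ) (h₀ : IsZero (((Φ F).shift n).obj (tLT KK n)))
    (h₁ : IsZero (((Φ F).shift (n + 1)).obj (tLT KK n))) :
    Nonempty (((Φ F).shift n).obj KK ≅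
      (F.rightDerived 0).obj ((Plus.homologyFunctor A n).obj KK)) := by
  have i₁ := isIso_Φ_map_triA_mor₁ F KK (n + 1) n (by lia)
  have i₂ : IsIso (((Φ F).shift n).map (triB KK n).mor₂) :=
    isIso_shift_map_mor₂ (Φ F) _ (triB_dist KK n) n (n + 1) rfl h₀ h₁
  obtain ⟨e₃⟩ := nonempty_Φ_iso_of_isGE_of_isLE F (N KK n) n 0 n (by simp)
  exact ⟨(@asIso _ _ _ _ _ i₁).symm ≪≫ @asIso _ _ _ _ _ i₂ ≪≫ e₃ ≪≫
    (F.rightDerived 0).mapIso (homologyNIso KK n)⟩

/-- If `H^i(KK) = 0` for `i < m` then `Φ_i(KK) = 0` for `i < m`. -/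
lemma isZero_Φ_of_isZero_homology (m : ℤ)
    (h : ∀ i : ℤ, i < m → IsZero ((Plus.homologyFunctor A i).obj KK)) (i : ℤ) (hi : i < m) :
    IsZero (((Φ F).shift i).obj KK) := by
  have := isGE_of_isZero_homology KK m h
  exact isZero_Φ_of_isGE F KK m i hi

/-- If `H^i(KK) = 0` for `i < m` then `Φ_m(KK) ≅ R⁰F(H^m KK)`. -/
lemma nonempty_Φ_iso_of_isZero_homology (m : ℤ)
    (h : ∀ i : ℤ, i < m → IsZero ((Plus.homologyFunctor A i).obj KK)) :
    Nonempty (((Φ F).shift m).obj KK ≅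
      (F.rightDerived 0).obj ((Plus.homologyFunctor A m).obj KK)) := by
  have := isGE_of_isZero_homology KK m h
  have hz : IsZero (tLT KK m) := Plus.TStructure.t.isZero_eTruncLT_obj_obj KK m _ le_rfl
  exact nonempty_Φ_iso F KK m (Functor.map_isZero _ hz) (Functor.map_isZero _ hz)

/-- If `KK ∈ D^{≥ 0}` and `H^i(KK) = 0` for `i > 0` then `Φ_n(KK) ≅ RⁿF(H^0 KK)`. -/
lemma nonempty_Φ_iso_of_isLE [KK.IsGE 0]
    (h : ∀ i : ℤ, 0 < i → IsZero ((Plus.homologyFunctor A i).obj KK)) (n : ℕ) :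
    Nonempty (((Φ F).shift (n : ℤ)).obj KK ≅
      (F.rightDerived n).obj ((Plus.homologyFunctor A 0).obj KK)) := by
  have := isLE_of_isZero_homology KK 0 h
  exact nonempty_Φ_iso_of_isGE_of_isLE F KK 0 n n (by simp)

/-- If `KK ∈ D^{≥ 0}` and all `H^q(KK)` are `F`-acyclic, then `Φ_n(τ_{<q} KK) = 0` for `n ≥ q`. -/
lemma isZero_Φ_tLT [KK.IsGE 0]
    (hac : ∀ q : ℕ, acyclic F ((Plus.homologyFunctor A (q : ℤ)).obj KK)) (q : ℕ) :
    ∀ n : ℤ, (q : ℤ) ≤ n → IsZero (((Φ F).shift n).obj (tLT KK (q : ℤ))) := by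
  induction q with
  | zero =>
    intro n _
    exact Functor.map_isZero _ (Plus.TStructure.t.isZero_eTruncLT_obj_obj KK 0 _ le_rfl)
  | succ q ih =>
    intro n hn
    have hex := (Φ F).homologySequence_exact₂ _ (triB_dist KK (q : ℤ)) n
    have h₁ : IsZero (((Φ F).shift n).obj (triB KK (q : ℤ)).obj₁) := ih n (by push_cast at hn; lia)
    have h₃ : IsZero (((Φ F).shift n).obj (triB KK (q : ℤ)).obj₃) := by
      obtain ⟨p, hp⟩ : ∃ p : ℕ, (q : ℤ) + ((p + 1 : ℕ) : ℤ) = n :=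
        ⟨(n - q - 1).toNat, by push_cast at hn ⊢; lia⟩
      obtain ⟨e⟩ := nonempty_Φ_iso_of_isGE_of_isLE F (N KK (q : ℤ)) q (p + 1) n hp
      refine IsZero.of_iso ?_ (e ≪≫ (F.rightDerived (p + 1)).mapIso (homologyNIso KK q))
      exact hac q (p + 1) (by lia)
    have : IsZero (((Φ F).shift n).obj (triB KK (q : ℤ)).obj₂) :=
      hex.isZero_of_both_zeros (h₁.eq_of_src _ _) (h₃.eq_of_tgt _ _)
    have hcast : ((q + 1 : ℕ) : ℤ) = (q : ℤ) + 1 := by push_cast; rfl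
    rw [hcast]
    exact this

/-- If `KK ∈ D^{≥ 0}` and all `H^q(KK)` are `F`-acyclic, then `Φ_n(KK) ≅ R⁰F(H^n KK)`. -/
lemma nonempty_Φ_iso_of_acyclic [KK.IsGE 0]
    (hac : ∀ q : ℕ, acyclic F ((Plus.homologyFunctor A (q : ℤ)).obj KK)) (n : ℕ) :
    Nonempty (((Φ F).shift (n : ℤ)).obj KK ≅
      (F.rightDerived 0).obj ((Plus.homologyFunctor A (n : ℤ)).obj KK)) :=
  nonempty_Φ_iso F KK n (isZero_Φ_tLT F KK hac n n le_rfl)
    (isZero_Φ_tLT F KK hac n (n + 1) (by lia))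

end Core

section Main

variable {C : Type*} [Category C] [Abelian C] [HasInjectiveResolutions C]
  {C' : Type u} [Category.{v} C'] [Abelian C'] [HasDerivedCategory.{w} C'] [EnoughInjectives C']
  {C'' : Type u'} [Category.{v'} C''] [Abelian C''] [HasDerivedCategory.{w'} C'']
  (T : C ⥤ C') [T.Additive] (S : C' ⥤ C'') [S.Additive] [PreservesFiniteLimits S]
  (hT : ∀ Q : C, Injective Q → ∀ q : ℕ, 0 < q → IsZero ((S.rightDerived q).obj (T.obj Q)))
  (X : C)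

/-- `H^q(T(I•)) ≅ R^qT(X)`. -/
noncomputable def homologyTIIso (I : InjectiveResolution X) (q : ℕ) :
    (Plus.homologyFunctor C' (q : ℤ)).obj (Plus.Q.obj (TI T X I)) ≅ (T.rightDerived q).obj X :=
  homologyQIso (TI T X I) q ≪≫ ExtendMap.rightDerivedIso T I q q rfl

lemma isZero_homologyTI (I : InjectiveResolution X) (m : ℕ)
    (h : ∀ q : ℕ, q < m → IsZero ((T.rightDerived q).obj X)) (i : ℤ) (hi : i < m) :
    IsZero ((Plus.homologyFunctor C' i).obj (Plus.Q.obj (TI T X I))) := by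
  by_cases h0 : i < 0
  · exact Plus.isZero_homology_of_isGE _ 0 i h0
  · obtain ⟨q, rfl⟩ : ∃ q : ℕ, i = (q : ℤ) := ⟨i.toNat, by lia⟩
    exact (h q (by exact_mod_cast hi)).of_iso (homologyTIIso T X I q)

include hT in
/-- Low degree terms: if `R^qT(X) = 0` for `q < m`, then `Rⁱ(T ⋙ S)(X) = 0` for `i < m` and
`R^m(T ⋙ S)(X) ≅ S(R^mT(X))`. -/
theorem lowDegree (m : ℕ) (h : ∀ q : ℕ, q < m → IsZero ((T.rightDerived q).obj X)) :
    (∀ i : ℕ, i < m → IsZero (((T ⋙ S).rightDerived i).obj X)) ∧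
    Nonempty (((T ⋙ S).rightDerived m).obj X ≅ S.obj ((T.rightDerived m).obj X)) := by
  let I := injectiveResolution X
  have hz := isZero_homologyTI T X I m h
  refine ⟨fun i hi => ?_, ?_⟩
  · obtain ⟨e⟩ := nonempty_abutIso T S hT X I i i rfl
    exact (isZero_Φ_of_isZero_homology S _ m hz i (by exact_mod_cast hi)).of_iso e.symm
  · obtain ⟨e⟩ := nonempty_abutIso T S hT X I m m rfl
    obtain ⟨e'⟩ := nonempty_Φ_iso_of_isZero_homology S _ (m : ℤ) hz
    exact ⟨e.symm ≪≫ e' ≪≫ (S.rightDerived 0).mapIso (homologyTIIso T X I m) ≪≫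
      S.rightDerivedZeroIsoSelf.app _⟩

include hT in
/-- If `R^qT(X) = 0` for `q > 0`, then `Rⁿ(T ⋙ S)(X) ≅ RⁿS(R⁰T(X))`. -/
theorem iso_of_isZero_higher (h : ∀ q : ℕ, 0 < q → IsZero ((T.rightDerived q).obj X)) (n : ℕ) :
    Nonempty (((T ⋙ S).rightDerived n).obj X ≅
      (S.rightDerived n).obj ((T.rightDerived 0).obj X)) := by
  let I := injectiveResolution X
  obtain ⟨e⟩ := nonempty_abutIso T S hT X I n n rfl
  have hz : ∀ i : ℤ, 0 < i →
      IsZero ((Plus.homologyFunctor C' i).obj (Plus.Q.obj (TI T X I))) := fun i hi => by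
    obtain ⟨q, rfl⟩ : ∃ q : ℕ, i = (q : ℤ) := ⟨i.toNat, by lia⟩
    exact (h q (by exact_mod_cast hi)).of_iso (homologyTIIso T X I q)
  obtain ⟨e'⟩ := nonempty_Φ_iso_of_isLE S (Plus.Q.obj (TI T X I)) hz n
  exact ⟨e.symm ≪≫ e' ≪≫ (S.rightDerived n).mapIso (homologyTIIso T X I 0)⟩

include hT in
/-- If all `R^qT(X)` are `S`-acyclic, then `Rⁿ(T ⋙ S)(X) ≅ S(RⁿT(X))`. -/
theorem iso_of_acyclic (h : ∀ q : ℕ, acyclic S ((T.rightDerived q).obj X)) (n : ℕ) :
    Nonempty (((T ⋙ S).rightDerived n).obj X ≅ S.obj ((T.rightDerived n).obj X)) := by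
  let I := injectiveResolution X
  obtain ⟨e⟩ := nonempty_abutIso T S hT X I n n rfl
  have hac : ∀ q : ℕ, acyclic S
      ((Plus.homologyFunctor C' (q : ℤ)).obj (Plus.Q.obj (TI T X I))) := fun q i hi =>
    (h q i hi).of_iso ((S.rightDerived i).mapIso (homologyTIIso T X I q))
  obtain ⟨e'⟩ := nonempty_Φ_iso_of_acyclic S (Plus.Q.obj (TI T X I)) hac n
  exact ⟨e.symm ≪≫ e' ≪≫ (S.rightDerived 0).mapIso (homologyTIIso T X I n) ≪≫
    S.rightDerivedZeroIsoSelf.app _⟩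

end Main

end Groth.Agent.H30.Degenerate
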