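import Groth.Agent.H4.ExtZero
import Groth.Agent.H30.RestrOpen

/-!
# Extension by zero along an open embedding of topological spaces is exact;
restriction to an open subspace preserves injective abelian sheaves
-/

set_option autoImplicit false
universe u
open CategoryTheory Limits TopologicalSpace Opposite

namespace Groth.Agent.H30.OpenShriek

open Groth.Agent.H4.ExtZero

variable {X : TopCat.{u}} (U : Opens X)

/-- The functor `W ↦ W` from opens of `U` to opens of `X`. -/
abbrev G : Opens (TopCat.of U) ⥤ Opens X := (SectSupp.hj U).isOpenMap.functor

variable (V : Opens X)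

/-- The indexing category of the pointwise left Kan extension at `V`. -/
abbrev JV : Type u := CostructuredArrow (G U).op (op V)

lemma G_le (W : Opens (TopCat.of U)) : (G U).obj W ≤ U := by
  rintro _ ⟨y, _, rfl⟩
  exact y.2

lemma le_of_JV (c : JV U V) : V ≤ U := le_trans c.hom.unop.le (G_le U _)

lemma le_G_map (h : V ≤ U) : V ≤ (G U).obj ((Opens.map (CohCx.incl U)).obj V) := by
  intro x hx
  exact ⟨⟨x, h hx⟩, hx, rfl⟩

/-- The "component" functor. -/
noncomputable def L : JV U V ⥤ Discrete (PLift (V ≤ U)) where
  obj c := ⟨⟨le_of_JV U V c⟩⟩
  map _ := Discrete.eqToHom (Subsingleton.elim _ _)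

/-- The terminal objects of the components. -/
noncomputable def R : Discrete (PLift (V ≤ U)) ⥤ JV U V :=
  Discrete.functor fun h => CostructuredArrow.mk (Y := op ((Opens.map (CohCx.incl U)).obj V))
    (homOfLE (le_G_map U V h.down)).op

instance subsingleton_hom_JV (c c' : JV U V) : Subsingleton (c ⟶ c') := by
  constructor
  intro m m'
  apply CostructuredArrow.hom_ext
  apply Quiver.Hom.unop_inj
  exact Subsingleton.elim _ _

/-- the unique map from `c` to the terminal object of its component. -/
noncomputable def toR (c : JV U V) (d : Discrete (PLift (V ≤ U))) : c ⟶ (R U V).obj d :=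
  CostructuredArrow.homMk
    (homOfLE (show (Opens.map (CohCx.incl U)).obj V ≤ c.left.unop by
      intro y hy
      obtain ⟨z, hz, hzy⟩ := c.hom.unop.le hy
      have : z = y := Subtype.ext hzy
      rw [← this]
      exact hz)).op
    (by apply Quiver.Hom.unop_inj; exact Subsingleton.elim _ _)

/-- The adjunction exhibiting `JV` as empty or with a terminal object. -/
noncomputable def adj : L U V ⊣ R U V :=
  Adjunction.mkOfHomEquiv
    { homEquiv := fun c d =>
        { toFun := fun _ => toR U V c d
          invFun := fun _ => Discrete.eqToHom (Subsingleton.elim _ _)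
          left_inv := fun _ => Subsingleton.elim _ _
          right_inv := fun _ => Subsingleton.elim _ _ }
      homEquiv_naturality_left_symm := fun _ _ => Subsingleton.elim _ _
      homEquiv_naturality_right := fun _ _ => Subsingleton.elim _ _ }

instance hasExactColimitsOfShape_JV (V : (Opens X)ᵒᵖ) :
    HasExactColimitsOfShape (CostructuredArrow (G U).op V) AddCommGrpCat.{u} := by
  have : AB4OfSize.{0} AddCommGrpCat.{u} := AB4OfSize_shrink.{0, u} _
  exact hasExactColimitsOfShape_of_discrete_adjoint AddCommGrpCat.{u} (adj U V.unop)

instance lan_preservesFiniteLimits :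
    PreservesFiniteLimits ((G U).op.lan :
      ((Opens (TopCat.of U))ᵒᵖ ⥤ AddCommGrpCat.{u}) ⥤ (Opens X)ᵒᵖ ⥤ AddCommGrpCat.{u}) :=
  lan_preservesFiniteLimits_of_exact AddCommGrpCat.{u} (G U).op

instance : (G U).IsContinuous (Opens.grothendieckTopology (TopCat.of U))
    (Opens.grothendieckTopology X) :=
  (SectSupp.hj U).functor_isContinuous

/-- Extension by zero `j_!` along the inclusion of an open subspace. -/
noncomputable abbrev shriek : CohTop.Ab (TopCat.of U) ⥤ CohTop.Ab X :=
  (G U).sheafPullback AddCommGrpCat.{u} (Opens.grothendieckTopology (TopCat.of U))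
    (Opens.grothendieckTopology X)

/-- `j_! ⊣ (-)|_U`. -/
noncomputable def shriekAdj : shriek U ⊣ CohTop.restrFunctor U :=
  (G U).sheafAdjunctionContinuous AddCommGrpCat.{u} (Opens.grothendieckTopology (TopCat.of U))
    (Opens.grothendieckTopology X)

/-- Extension by zero is left exact. -/
instance preservesFiniteLimits_shriek : PreservesFiniteLimits (shriek U) :=
  Functor.sheafPullbackConstruction.preservesFiniteLimits (G U) AddCommGrpCat.{u}
    (Opens.grothendieckTopology (TopCat.of U)) (Opens.grothendieckTopology X)

/-- Restriction to an open subspace preserves injective abelian sheaves. -/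
lemma injective_restr (Q : CohTop.Ab X) [Injective Q] :
    Injective ((CohTop.restrFunctor U).obj Q) := by
  have : (shriek U).PreservesMonomorphisms := inferInstance
  exact Injective.injective_of_adjoint (shriekAdj U) Q

/-- The inverse image along the inclusion of an open subspace preserves injectives. -/
lemma injective_pull (Q : CohTop.Ab X) [Injective Q] :
    Injective ((CohTop.pull (CohCx.incl U)).obj Q) := by
  have := injective_restr U Q
  exact Injective.of_iso ((RestrOpen.restrIso U).app Q) inferInstance

end Groth.Agent.H30.OpenShriek
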