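import Groth.Agent.H33.DerAdjExact
import Groth.Agent.H30.OpenShriek
import Groth.Agent.H30.RestrOpen

/-!
# `H^p(U, K) ≃ H^p(U, K|_U)` for `K` in the derived category of abelian sheaves
-/

set_option autoImplicit false
universe u
open CategoryTheory Limits TopologicalSpace Opposite

namespace Groth.Agent.H30.DerRestr

open Groth.Agent.H30.RestrOpen Groth.Agent.H30.OpenShriek Groth.Agent.H30.FlasqueAcyclic

variable {X : TopCat.{u}} (U : Opens X)

instance additive_shriek : (shriek U).Additive := (shriekAdj U).left_adjoint_additive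

instance : PreservesFiniteColimits (shriek U) :=
  have := (shriekAdj U).isLeftAdjoint
  inferInstance

/-- `ℤ_⊤` on the subspace `U`. -/
noncomputable abbrev zTop : CohTop.Ab (TopCat.of U) :=
  CohCx.freeSheaf (Opens.grothendieckTopology (TopCat.of U)) (⊤ : Opens (TopCat.of U))

/-- `ℤ_U` on `X`. -/
noncomputable abbrev zU : CohTop.Ab X := CohCx.freeSheaf (Opens.grothendieckTopology X) U

/-- `Hom(j_! ℤ, F) ≃ Hom(ℤ_U, F)`. -/
noncomputable def eEquiv (F : CohTop.Ab X) : ((shriek U).obj (zTop U) ⟶ F) ≃ (zU U ⟶ F) :=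
  (((shriekAdj U).homEquiv (zTop U) F).trans
    (evalGenEquiv (⊤ : Opens (TopCat.of U)) ((CohTop.restrFunctor U).obj F)).toEquiv).trans
    ((topEquiv U F).toEquiv.trans (evalGenEquiv U F).symm.toEquiv)

lemma eEquiv_naturality {F F' : CohTop.Ab X} (f : (shriek U).obj (zTop U) ⟶ F) (g : F ⟶ F') :
    eEquiv U F' (f ≫ g) = eEquiv U F f ≫ g := by
  apply (evalGenEquiv U F').injective
  change evalGenEquiv U F' ((evalGenEquiv U F').symm _) = CohFree.evalGen _ U F' (_ ≫ g)
  rw [AddEquiv.apply_symm_apply, evalGen_comp]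
  change _ = (g.hom.app (op U)).hom (evalGenEquiv U F ((evalGenEquiv U F).symm _))
  rw [AddEquiv.apply_symm_apply]
  change topEquiv U F' (CohFree.evalGen _ ⊤ _ ((shriekAdj U).homEquiv (zTop U) F' (f ≫ g))) =
    (g.hom.app (op U)).hom (topEquiv U F (CohFree.evalGen _ ⊤ _ ((shriekAdj U).homEquiv (zTop U) F f)))
  rw [Adjunction.homEquiv_naturality_right, evalGen_comp, topEquiv_naturality]

/-- `j_! ℤ ≅ ℤ_U`. -/
noncomputable def shriekFree : (shriek U).obj (zTop U) ≅ zU U :=
  Coyoneda.ext _ _ (fun f => eEquiv U _ f) (fun f => (eEquiv U _).symm f)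
    (fun f => (eEquiv U _).symm_apply_apply f) (fun f => (eEquiv U _).apply_symm_apply f)
    (fun f g => by
      apply (eEquiv U _).injective
      rw [Equiv.apply_symm_apply, eEquiv_naturality, Equiv.apply_symm_apply])

section Derived

variable {A : Type*} [Category A] [Preadditive A]

/-- precomposition with an isomorphism, as an additive equivalence -/
def addEquivLeft {P Q : A} (e : P ≅ Q) (T : A) : (P ⟶ T) ≃+ (Q ⟶ T) where
  toFun f := e.inv ≫ f
  invFun g := e.hom ≫ g
  left_inv f := by simp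
  right_inv g := by simp
  map_add' f f' := Preadditive.comp_add _ _ _ _ _ _

/-- postcomposition with an isomorphism, as an additive equivalence -/
def addEquivRight {P Q : A} (e : P ≅ Q) (T : A) : (T ⟶ P) ≃+ (T ⟶ Q) where
  toFun f := f ≫ e.hom
  invFun g := g ≫ e.inv
  left_inv f := by simp
  right_inv g := by simp
  map_add' f f' := Preadditive.add_comp _ _ _ _ _ _

variable [HasDerivedCategory.{u} (CohTop.Ab X)] [HasDerivedCategory.{u} (CohTop.Ab (TopCat.of U))]
  [PreservesFiniteLimits (CohTop.restrFunctor U)] [PreservesFiniteColimits (CohTop.restrFunctor U)]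

/-- the derived adjunction `j_! ⊣ j^*`. -/
noncomputable def dAdj :
    (shriek U).mapDerivedCategory ⊣ (CohTop.restrFunctor U).mapDerivedCategory :=
  Groth.Agent.H33.DerAdjExact.derivedAdj (shriekAdj U)

theorem nonempty_HDU_equiv (K : DerivedCategory (CohTop.Ab X)) (p : ℤ) :
    Nonempty (CohCx.HDU K p U ≃+
      CohCx.HDU ((CohTop.restrFunctor U).mapDerivedCategory.obj K) p ⊤) := by
  -- `single(ℤ_U) ≅ j_!(single ℤ_⊤)`
  let e1 : (DerivedCategory.singleFunctor (CohTop.Ab X) 0).obj (zU U) ≅
      (shriek U).mapDerivedCategory.obj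
        ((DerivedCategory.singleFunctor (CohTop.Ab (TopCat.of U)) 0).obj (zTop U)) :=
    (DerivedCategory.singleFunctor (CohTop.Ab X) 0).mapIso (shriekFree U).symm ≪≫
      (((shriek U).mapDerivedCategorySingleFunctor 0).app (zTop U)).symm
  -- `j^*(K[p]) ≅ (j^* K)[p]`
  let e2 := ((CohTop.restrFunctor U).mapDerivedCategory.commShiftIso p).app K
  exact ⟨((addEquivLeft e1 _).trans ((dAdj U).homAddEquiv _ _)).trans (addEquivRight e2 _)⟩

end Derived

end Groth.Agent.H30.DerRestr
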