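import Mathlib.CategoryTheory.Abelian.RightDerived
import Mathlib.Algebra.Homology.HomologySequenceLemmas
import Mathlib.Algebra.Homology.HomologicalComplexAbelian
import Mathlib.CategoryTheory.Abelian.FunctorCategory

/-!
# The long exact sequence of right derived functors attached to
`0 ⟶ Γ ⟶ E ⟶ P ⟶ 0`, exact on injective objects
-/

set_option autoImplicit false
universe v v' u u'
open CategoryTheory Limits

namespace Groth.Agent.H30.DerivedLES

variable {C : Type u} [Category.{v} C] [Abelian C] [HasInjectiveResolutions C]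
  {D : Type u'} [Category.{v'} D] [Abelian D]
  {Γ E P : C ⥤ D} [Γ.Additive] [E.Additive] [P.Additive]
  (κ : Γ ⟶ E) (η : E ⟶ P) (w : κ ≫ η = 0)

omit [Abelian C] [HasInjectiveResolutions C] [Γ.Additive] [E.Additive] [P.Additive] in
include w in
lemma w_app (Q : C) : κ.app Q ≫ η.app Q = 0 := by
  rw [← NatTrans.comp_app, w]; rfl

/-- The short complex of cochain complexes `Γ(K) ⟶ E(K) ⟶ P(K)`. -/
@[simps]
noncomputable def SC (K : CochainComplex C ℕ) : ShortComplex (CochainComplex D ℕ) :=
  ShortComplex.mk ((NatTrans.mapHomologicalComplex κ _).app K)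
    ((NatTrans.mapHomologicalComplex η _).app K) (by
      ext i
      exact w_app κ η w (K.X i))

/-- Functoriality of `SC`. -/
@[simps]
noncomputable def SCmap {K L : CochainComplex C ℕ} (φ : K ⟶ L) : SC κ η w K ⟶ SC κ η w L where
  τ₁ := (Γ.mapHomologicalComplex _).map φ
  τ₂ := (E.mapHomologicalComplex _).map φ
  τ₃ := (P.mapHomologicalComplex _).map φ
  comm₁₂ := (NatTrans.mapHomologicalComplex κ _).naturality φ
  comm₂₃ := (NatTrans.mapHomologicalComplex η _).naturality φ

variable (h : ∀ Q : C, Injective Q →
  (ShortComplex.mk (κ.app Q) (η.app Q) (w_app κ η w Q)).ShortExact)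

include h in
lemma shortExact_SC {X : C} (I : InjectiveResolution X) : (SC κ η w I.cocomplex).ShortExact := by
  apply HomologicalComplex.shortExact_of_degreewise_shortExact
  intro i
  exact h (I.cocomplex.X i) inferInstance

section isoH

variable (F : C ⥤ D) [F.Additive]

/-- `InjectiveResolution.isoRightDerivedObj`, with target written with `.homology`. -/
noncomputable def isoH {X : C} (I : InjectiveResolution X) (n : ℕ) :
    (F.rightDerived n).obj X ≅ ((F.mapHomologicalComplex _).obj I.cocomplex).homology n :=
  I.isoRightDerivedObj F n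

lemma isoH_hom_naturality {X Y : C} (f : X ⟶ Y) (I : InjectiveResolution X)
    (J : InjectiveResolution Y) (φ : I.cocomplex ⟶ J.cocomplex)
    (comm : I.ι.f 0 ≫ φ.f 0 = f ≫ J.ι.f 0) (n : ℕ) :
    (F.rightDerived n).map f ≫ (isoH F J n).hom =
      (isoH F I n).hom ≫ HomologicalComplex.homologyMap ((F.mapHomologicalComplex _).map φ) n :=
  InjectiveResolution.isoRightDerivedObj_hom_naturality f I J φ comm F n

lemma isoH_inv_naturality {X Y : C} (f : X ⟶ Y) (I : InjectiveResolution X)
    (J : InjectiveResolution Y) (φ : I.cocomplex ⟶ J.cocomplex)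
    (comm : I.ι.f 0 ≫ φ.f 0 = f ≫ J.ι.f 0) (n : ℕ) :
    (isoH F I n).inv ≫ (F.rightDerived n).map f =
      HomologicalComplex.homologyMap ((F.mapHomologicalComplex _).map φ) n ≫ (isoH F J n).inv :=
  InjectiveResolution.isoRightDerivedObj_inv_naturality f I J φ comm F n

end isoH

/-- The connecting morphism on the level of a resolution. -/
noncomputable def δI {X : C} (I : InjectiveResolution X) (i : ℕ) :
    ((P.mapHomologicalComplex _).obj I.cocomplex).homology i ⟶
      ((Γ.mapHomologicalComplex _).obj I.cocomplex).homology (i + 1) :=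
  (shortExact_SC κ η w h I).δ i (i + 1) rfl

lemma δI_naturality {X Y : C} (I : InjectiveResolution X)
    (J : InjectiveResolution Y) (φ : I.cocomplex ⟶ J.cocomplex) (i : ℕ) :
    δI κ η w h I i ≫ HomologicalComplex.homologyMap ((Γ.mapHomologicalComplex _).map φ) (i + 1) =
      HomologicalComplex.homologyMap ((P.mapHomologicalComplex _).map φ) i ≫ δI κ η w h J i :=
  HomologicalComplex.HomologySequence.δ_naturality (SCmap κ η w φ)
    (shortExact_SC κ η w h I) (shortExact_SC κ η w h J) i (i + 1) rfl

/-- `δ` computed on a resolution. -/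
noncomputable def δapp {X : C} (I : InjectiveResolution X) (i : ℕ) :
    (P.rightDerived i).obj X ⟶ (Γ.rightDerived (i + 1)).obj X :=
  (isoH P I i).hom ≫ δI κ η w h I i ≫ (isoH Γ I (i + 1)).inv

lemma δapp_naturality {X Y : C} (f : X ⟶ Y) (I : InjectiveResolution X)
    (J : InjectiveResolution Y) (i : ℕ) :
    (P.rightDerived i).map f ≫ δapp κ η w h J i =
      δapp κ η w h I i ≫ (Γ.rightDerived (i + 1)).map f := by
  let φ : I.cocomplex ⟶ J.cocomplex := InjectiveResolution.desc f J I
  have comm : I.ι.f 0 ≫ φ.f 0 = f ≫ J.ι.f 0 := InjectiveResolution.desc_commutes_zero f J I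
  have h1 := isoH_hom_naturality P f I J φ comm i
  have h2 := isoH_inv_naturality Γ f I J φ comm (i + 1)
  have h3 := δI_naturality κ η w h I J φ i
  dsimp only [δapp]
  rw [reassoc_of% h1, Category.assoc, Category.assoc, h2, reassoc_of% h3]

/-- The connecting natural transformation `R^i P ⟶ R^{i+1} Γ`. -/
noncomputable def δ (i : ℕ) : P.rightDerived i ⟶ Γ.rightDerived (i + 1) where
  app X := δapp κ η w h (injectiveResolution X) i
  naturality _ _ f := δapp_naturality κ η w h f _ _ i

/-- Computation of `δ` with an arbitrary injective resolution. -/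
lemma δ_app_eq {X : C} (I : InjectiveResolution X) (i : ℕ) :
    (δ κ η w h i).app X = δapp κ η w h I i := by
  have := δapp_naturality κ η w h (𝟙 X) (injectiveResolution X) I i
  rw [CategoryTheory.Functor.map_id, CategoryTheory.Functor.map_id, Category.id_comp,
    Category.comp_id] at this
  exact this.symm

include h in
/-- `δ i` is an isomorphism when the derived functors of `E` vanish in degrees `i` and `i+1`. -/
lemma isIso_δ (i : ℕ) (hi : ∀ X, IsZero ((E.rightDerived i).obj X))
    (hj : ∀ X, IsZero ((E.rightDerived (i + 1)).obj X)) : IsIso (δ κ η w h i) := by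
  have : ∀ X, IsIso ((δ κ η w h i).app X) := fun X => by
    let I := injectiveResolution X
    have : IsIso (δI κ η w h I i) :=
      (shortExact_SC κ η w h I).isIso_δ i (i + 1) rfl
        (IsZero.of_iso (hi X) (isoH E I i).symm) (IsZero.of_iso (hj X) (isoH E I (i + 1)).symm)
    change IsIso (δapp κ η w h I i)
    dsimp only [δapp]
    infer_instance
  exact NatIso.isIso_of_isIso_app _

/-- `R^i P ≅ R^{i+1} Γ` when the derived functors of `E` vanish in degrees `i` and `i+1`. -/
noncomputable def δIso (i : ℕ) (hi : ∀ X, IsZero ((E.rightDerived i).obj X))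
    (hj : ∀ X, IsZero ((E.rightDerived (i + 1)).obj X)) :
    P.rightDerived i ≅ Γ.rightDerived (i + 1) :=
  haveI := isIso_δ κ η w h i hi hj
  asIso (δ κ η w h i)

/-- `(R^i η)_X` computed on a resolution. -/
lemma rightDerived_app_eq {X : C} (I : InjectiveResolution X) (i : ℕ) :
    (NatTrans.rightDerived η i).app X = (isoH E I i).hom ≫
      HomologicalComplex.homologyMap ((NatTrans.mapHomologicalComplex η _).app I.cocomplex) i ≫
        (isoH P I i).inv :=
  InjectiveResolution.rightDerived_app_eq η I i

lemma homologyMap_comp_δI {X : C} (I : InjectiveResolution X) (i : ℕ) :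
    HomologicalComplex.homologyMap ((NatTrans.mapHomologicalComplex η _).app I.cocomplex) i ≫
      δI κ η w h I i = 0 :=
  (shortExact_SC κ η w h I).comp_δ i (i + 1) rfl

lemma rightDerived_comp_δ (i : ℕ) : NatTrans.rightDerived η i ≫ δ κ η w h i = 0 := by
  ext X
  let I := injectiveResolution X
  have h0 := homologyMap_comp_δI κ η w h I i
  rw [NatTrans.comp_app, rightDerived_app_eq η I i, δ_app_eq κ η w h I i]
  dsimp only [δapp]
  simp only [Category.assoc, Iso.inv_hom_id_assoc]
  rw [reassoc_of% h0, zero_comp, comp_zero, NatTrans.app_zero]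

lemma exact₃_I {X : C} (I : InjectiveResolution X) (i : ℕ) :
    (ShortComplex.mk _ _ (homologyMap_comp_δI κ η w h I i)).Exact :=
  (shortExact_SC κ η w h I).homology_exact₃ i (i + 1) rfl

/-- Exactness of `R^i E X ⟶ R^i P X ⟶ R^{i+1} Γ X`. -/
lemma exact₃ (i : ℕ) (X : C) :
    (ShortComplex.mk ((NatTrans.rightDerived η i).app X) ((δ κ η w h i).app X) (by
      rw [← NatTrans.comp_app, rightDerived_comp_δ]; rfl)).Exact := by
  let I := injectiveResolution X
  refine ShortComplex.exact_of_iso (ShortComplex.isoMk (isoH E I i).symm (isoH P I i).symm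
    (isoH Γ I (i + 1)).symm ?_ ?_) (exact₃_I κ η w h I i)
  · dsimp only [Iso.symm_hom]
    rw [rightDerived_app_eq η I i]
    simp only [Category.assoc, Iso.inv_hom_id_assoc]
  · dsimp only [Iso.symm_hom]
    rw [δ_app_eq κ η w h I i]
    dsimp only [δapp]
    simp only [Iso.inv_hom_id_assoc]

include h in
/-- `δ i` is an epimorphism when `R^{i+1} E = 0`. -/
lemma epi_δ_app (i : ℕ) (X : C) (hj : IsZero ((E.rightDerived (i + 1)).obj X)) :
    Epi ((δ κ η w h i).app X) := by
  let I := injectiveResolution X
  have : Epi (δI κ η w h I i) :=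
    (shortExact_SC κ η w h I).epi_δ i (i + 1) rfl (IsZero.of_iso hj (isoH E I (i + 1)).symm)
  change Epi (δapp κ η w h I i)
  dsimp only [δapp]
  infer_instance

section Coker

omit [HasInjectiveResolutions C] in
lemma toRightDerivedZero'_comp_cyclesMap {X : C} (I : InjectiveResolution X) :
    I.toRightDerivedZero' E ≫ HomologicalComplex.cyclesMap
      ((NatTrans.mapHomologicalComplex η _).app I.cocomplex) 0 =
      η.app X ≫ I.toRightDerivedZero' P := by
  rw [← cancel_mono (HomologicalComplex.iCycles _ _), Category.assoc, Category.assoc,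
    HomologicalComplex.cyclesMap_i, InjectiveResolution.toRightDerivedZero'_comp_iCycles,
    InjectiveResolution.toRightDerivedZero'_comp_iCycles_assoc]
  exact η.naturality (I.ι.f 0)

lemma toRightDerivedZero_app_eq (F : C ⥤ D) [F.Additive] {X : C} (I : InjectiveResolution X) :
    F.toRightDerivedZero.app X = I.toRightDerivedZero' F ≫
      HomologicalComplex.homologyπ ((F.mapHomologicalComplex _).obj I.cocomplex) 0 ≫
        (isoH F I 0).inv :=
  I.toRightDerivedZero_eq F

/-- Naturality of `toRightDerivedZero` in the functor. -/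
lemma toRightDerivedZero_naturality :
    E.toRightDerivedZero ≫ NatTrans.rightDerived η 0 = η ≫ P.toRightDerivedZero := by
  ext X
  let I := injectiveResolution X
  rw [NatTrans.comp_app, NatTrans.comp_app, toRightDerivedZero_app_eq E I,
    toRightDerivedZero_app_eq P I, rightDerived_app_eq η I 0]
  simp only [Category.assoc, Iso.inv_hom_id_assoc]
  have h1 := HomologicalComplex.homologyπ_naturality
    ((NatTrans.mapHomologicalComplex η (ComplexShape.up ℕ)).app I.cocomplex) 0
  have h2 := toRightDerivedZero'_comp_cyclesMap η I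
  rw [reassoc_of% h1, reassoc_of% h2]

/-- The map `P ⟶ R¹Γ`. -/
noncomputable def π : P ⟶ Γ.rightDerived 1 := P.toRightDerivedZero ≫ δ κ η w h 0

lemma η_π : η ≫ π κ η w h = 0 := by
  dsimp only [π]
  rw [← Category.assoc, ← toRightDerivedZero_naturality, Category.assoc, rightDerived_comp_δ,
    comp_zero]

lemma η_π_app (X : C) : η.app X ≫ (π κ η w h).app X = 0 := by
  rw [← NatTrans.comp_app, η_π]; rfl

variable [PreservesFiniteLimits E] [PreservesFiniteLimits P]

lemma exact_π (X : C) : (ShortComplex.mk (η.app X) ((π κ η w h).app X) (η_π_app κ η w h X)).Exact := by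
  have h0 := exact₃ κ η w h 0 X
  let e : ShortComplex.mk (η.app X) ((π κ η w h).app X) (η_π_app κ η w h X) ≅
      ShortComplex.mk ((NatTrans.rightDerived η 0).app X) ((δ κ η w h 0).app X) (by
        rw [← NatTrans.comp_app, rightDerived_comp_δ]; rfl) :=
    ShortComplex.isoMk (asIso (E.toRightDerivedZero.app X))
      (asIso (P.toRightDerivedZero.app X)) (Iso.refl _)
      (congrArg (fun z => z.app X) (toRightDerivedZero_naturality η))
      (by
        dsimp only [asIso_hom, Iso.refl_hom, π, NatTrans.comp_app]
        rw [Category.comp_id])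
  exact ShortComplex.exact_of_iso e.symm h0

include h in
lemma epi_π (X : C) (hE : IsZero ((E.rightDerived 1).obj X)) : Epi ((π κ η w h).app X) := by
  have := epi_δ_app κ η w h 0 X hE
  dsimp only [π, NatTrans.comp_app]
  infer_instance

/-- `R¹Γ` is the cokernel of `η : E ⟶ P` when `E`, `P` are left exact and `R¹E = 0`. -/
noncomputable def cokernelIso (hE : ∀ X, IsZero ((E.rightDerived 1).obj X)) :
    cokernel η ≅ Γ.rightDerived 1 := by
  let c : cokernel η ⟶ Γ.rightDerived 1 := cokernel.desc η (π κ η w h) (η_π κ η w h)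
  have : ∀ X, IsIso (c.app X) := fun X => by
    have h1 : IsColimit (CokernelCofork.ofπ ((cokernel.π η).app X) (by
        rw [← NatTrans.comp_app, cokernel.condition]; rfl : η.app X ≫ (cokernel.π η).app X = 0)) :=
      isColimitCoforkMapOfIsColimit' ((evaluation C D).obj X) (cokernel.condition η)
        (cokernelIsCokernel η)
    have := epi_π κ η w h X (hE X)
    have h2 : IsColimit (CokernelCofork.ofπ ((π κ η w h).app X) (η_π_app κ η w h X)) :=
      (exact_π κ η w h X).gIsCokernel
    have : c.app X = (IsColimit.coconePointUniqueUpToIso h1 h2).hom := by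
      apply Cofork.IsColimit.hom_ext h1
      refine Eq.trans ?_
        (IsColimit.comp_coconePointUniqueUpToIso_hom h1 h2 WalkingParallelPair.one).symm
      change (cokernel.π η).app X ≫ c.app X = (π κ η w h).app X
      rw [← NatTrans.comp_app, cokernel.π_desc]
    rw [this]
    infer_instance
  have : IsIso c := NatIso.isIso_of_isIso_app _
  exact asIso c

end Coker

end Groth.Agent.H30.DerivedLES
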