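import Groth.Agent.H30.DerivedLES

/-!
# The beginning of the long exact sequence of right derived functors:
`0 ⟶ R⁰Γ ⟶ R⁰E ⟶ R⁰P`
-/

set_option autoImplicit false
universe v v' u u'
open CategoryTheory Limits

namespace Groth.Agent.H30.DerivedLES

variable {C : Type u} [Category.{v} C] [Abelian C] [HasInjectiveResolutions C]
  {D : Type u'} [Category.{v'} D] [Abelian D]
  {Γ E P : C ⥤ D} [Γ.Additive] [E.Additive] [P.Additive]
  (κ : Γ ⟶ E) (η : E ⟶ P) (w : κ ≫ η = 0)
  (h : ∀ Q : C, Injective Q →
    (ShortComplex.mk (κ.app Q) (η.app Q) (w_app κ η w Q)).ShortExact)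

omit [HasInjectiveResolutions C] in
include w in
lemma zero₀_I {X : C} (I : InjectiveResolution X) (i : ℕ) :
    HomologicalComplex.homologyMap ((NatTrans.mapHomologicalComplex κ _).app I.cocomplex) i ≫
      HomologicalComplex.homologyMap ((NatTrans.mapHomologicalComplex η _).app I.cocomplex) i = 0 := by
  rw [← HomologicalComplex.homologyMap_comp]
  have : (NatTrans.mapHomologicalComplex κ (ComplexShape.up ℕ)).app I.cocomplex ≫
      (NatTrans.mapHomologicalComplex η (ComplexShape.up ℕ)).app I.cocomplex = 0 :=
    (SC κ η w I.cocomplex).zero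
  rw [this, HomologicalComplex.homologyMap_zero]

include h in
lemma mono₀_I {X : C} (I : InjectiveResolution X) :
    Mono (HomologicalComplex.homologyMap
      ((NatTrans.mapHomologicalComplex κ _).app I.cocomplex) 0) := by
  have hS := shortExact_SC κ η w h I
  have := hS.mono_f
  have hm : Mono (HomologicalComplex.cyclesMap (SC κ η w I.cocomplex).f 0) := inferInstance
  have e : HomologicalComplex.homologyMap (SC κ η w I.cocomplex).f 0 =
      (CochainComplex.isoHomologyπ₀ _).inv ≫
        HomologicalComplex.cyclesMap (SC κ η w I.cocomplex).f 0 ≫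
          (CochainComplex.isoHomologyπ₀ _).hom := by
    rw [← cancel_epi (CochainComplex.isoHomologyπ₀ _).hom, Iso.hom_inv_id_assoc]
    exact HomologicalComplex.homologyπ_naturality _ 0
  change Mono (HomologicalComplex.homologyMap (SC κ η w I.cocomplex).f 0)
  rw [e]
  infer_instance

include h in
lemma exact₀_I {X : C} (I : InjectiveResolution X) :
    (ShortComplex.mk _ _ (zero₀_I κ η w I 0)).Exact := by
  have hS := shortExact_SC κ η w h I
  have := hS.mono_f
  have hc := HomologicalComplex.cycles_left_exact (SC κ η w I.cocomplex) hS.exact 0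
  refine ShortComplex.exact_of_iso (ShortComplex.isoMk (CochainComplex.isoHomologyπ₀ _)
    (CochainComplex.isoHomologyπ₀ _) (CochainComplex.isoHomologyπ₀ _) ?_ ?_) hc
  · exact (HomologicalComplex.homologyπ_naturality (SC κ η w I.cocomplex).f 0)
  · exact (HomologicalComplex.homologyπ_naturality (SC κ η w I.cocomplex).g 0)

include w in
lemma rightDerived_κ_η (i : ℕ) (X : C) :
    (NatTrans.rightDerived κ i).app X ≫ (NatTrans.rightDerived η i).app X = 0 := by
  let I := injectiveResolution X
  rw [rightDerived_app_eq κ I i, rightDerived_app_eq η I i]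
  simp only [Category.assoc, Iso.inv_hom_id_assoc]
  rw [reassoc_of% (zero₀_I κ η w I i), zero_comp, comp_zero]

include h in
lemma mono₀ (X : C) : Mono ((NatTrans.rightDerived κ 0).app X) := by
  let I := injectiveResolution X
  rw [rightDerived_app_eq κ I 0]
  have := mono₀_I κ η w h I
  infer_instance

include h in
lemma exact₀ (X : C) :
    (ShortComplex.mk _ _ (rightDerived_κ_η κ η w 0 X)).Exact := by
  let I := injectiveResolution X
  refine ShortComplex.exact_of_iso (ShortComplex.isoMk (isoH Γ I 0).symm (isoH E I 0).symm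
    (isoH P I 0).symm ?_ ?_) (exact₀_I κ η w h I)
  · dsimp only [Iso.symm_hom]
    rw [rightDerived_app_eq κ I 0]
    simp only [Category.assoc, Iso.inv_hom_id_assoc]
  · dsimp only [Iso.symm_hom]
    rw [rightDerived_app_eq η I 0]
    simp only [Category.assoc, Iso.inv_hom_id_assoc]

variable [PreservesFiniteLimits E] [PreservesFiniteLimits P]

include h in
/-- `R⁰Γ X` is the kernel of `η_X : E X ⟶ P X` when `E`, `P` are left exact. -/
theorem nonempty_iso_kernel (X : C) : Nonempty ((Γ.rightDerived 0).obj X ≅ kernel (η.app X)) := by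
  have hm := mono₀ κ η w h X
  have hex := exact₀ κ η w h X
  let a : (Γ.rightDerived 0).obj X ⟶ E.obj X :=
    (NatTrans.rightDerived κ 0).app X ≫ inv (E.toRightDerivedZero.app X)
  have hnat : E.toRightDerivedZero.app X ≫ (NatTrans.rightDerived η 0).app X =
      η.app X ≫ P.toRightDerivedZero.app X :=
    congrArg (fun z => z.app X) (toRightDerivedZero_naturality η)
  have ha : a ≫ η.app X = 0 := by
    rw [← cancel_mono (P.toRightDerivedZero.app X), Category.assoc, zero_comp, ← hnat]
    dsimp only [a]
    rw [Category.assoc, IsIso.inv_hom_id_assoc]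
    exact rightDerived_κ_η κ η w 0 X
  have hex2 : (ShortComplex.mk a (η.app X) ha).Exact := by
    have e : ShortComplex.mk _ _ (rightDerived_κ_η κ η w 0 X) ≅ ShortComplex.mk a (η.app X) ha := by
      refine ShortComplex.isoMk (Iso.refl _)
        (asIso (E.toRightDerivedZero.app X)).symm (asIso (P.toRightDerivedZero.app X)).symm ?_ ?_
      · dsimp only [Iso.refl_hom, Iso.symm_hom, asIso_inv, a]
        rw [Category.id_comp]
      · dsimp only [Iso.symm_hom, asIso_inv]
        rw [← cancel_mono (P.toRightDerivedZero.app X), Category.assoc, Category.assoc,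
          IsIso.inv_hom_id, Category.comp_id, ← hnat, IsIso.inv_hom_id_assoc]
    exact ShortComplex.exact_of_iso e hex
  have hma : Mono a := by dsimp only [a]; infer_instance
  have hk : IsLimit (KernelFork.ofι a ha) := hex2.fIsKernel
  exact ⟨IsLimit.conePointUniqueUpToIso hk (limit.isLimit _)⟩

end Groth.Agent.H30.DerivedLES
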