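import Groth.Agent.H30.DerivedLES

/-!
# The remaining exactness statements of the long exact sequence of right derived functors attached
to `0 ⟶ Γ ⟶ E ⟶ P ⟶ 0` exact on injective objects
-/

set_option autoImplicit false
universe v v' u u'
open CategoryTheory Limits

namespace Groth.Agent.H30.DerivedLES

variable {C : Type u} [Category.{v} C] [Abelian C] [HasInjectiveResolutions C]
  {D : Type u'} [Category.{v'} D] [Abelian D]
  {Γ E P : C ⥤ D} [Γ.Additive] [E.Additive] [P.Additive]
  (κ : Γ ⟶ E) (η : E ⟶ P) (w : κ ≫ η = 0)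
  (h : ∀ Q : C, Injective Q →
    (ShortComplex.mk (κ.app Q) (η.app Q) (w_app κ η w Q)).ShortExact)

lemma δI_comp_homologyMap {X : C} (I : InjectiveResolution X) (i : ℕ) :
    δI κ η w h I i ≫
      HomologicalComplex.homologyMap ((NatTrans.mapHomologicalComplex κ _).app I.cocomplex) (i + 1)
        = 0 :=
  (shortExact_SC κ η w h I).δ_comp i (i + 1) rfl

lemma δ_comp_rightDerived_app (i : ℕ) (X : C) :
    (δ κ η w h i).app X ≫ (NatTrans.rightDerived κ (i + 1)).app X = 0 := by
  let I := injectiveResolution X
  have h0 := δI_comp_homologyMap κ η w h I i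
  rw [rightDerived_app_eq κ I (i + 1), δ_app_eq κ η w h I i]
  dsimp only [δapp]
  simp only [Category.assoc, Iso.inv_hom_id_assoc]
  rw [reassoc_of% h0, zero_comp, comp_zero]

lemma exact₁_I {X : C} (I : InjectiveResolution X) (i : ℕ) :
    (ShortComplex.mk _ _ (δI_comp_homologyMap κ η w h I i)).Exact :=
  (shortExact_SC κ η w h I).homology_exact₁ i (i + 1) rfl

/-- Exactness of `R^i P X ⟶ R^{i+1} Γ X ⟶ R^{i+1} E X`. -/
lemma exact₁ (i : ℕ) (X : C) :
    (ShortComplex.mk ((δ κ η w h i).app X) ((NatTrans.rightDerived κ (i + 1)).app X)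
      (δ_comp_rightDerived_app κ η w h i X)).Exact := by
  let I := injectiveResolution X
  refine ShortComplex.exact_of_iso (ShortComplex.isoMk (isoH P I i).symm (isoH Γ I (i + 1)).symm
    (isoH E I (i + 1)).symm ?_ ?_) (exact₁_I κ η w h I i)
  · dsimp only [Iso.symm_hom]
    rw [δ_app_eq κ η w h I i]
    dsimp only [δapp]
    simp only [Iso.inv_hom_id_assoc]
  · dsimp only [Iso.symm_hom]
    rw [rightDerived_app_eq κ I (i + 1)]
    simp only [Category.assoc, Iso.inv_hom_id_assoc]

include w in
omit [HasInjectiveResolutions C] in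
lemma homologyMap_comp_homologyMap {X : C} (I : InjectiveResolution X) (i : ℕ) :
    HomologicalComplex.homologyMap ((NatTrans.mapHomologicalComplex κ _).app I.cocomplex) i ≫
      HomologicalComplex.homologyMap ((NatTrans.mapHomologicalComplex η _).app I.cocomplex) i
        = 0 := by
  rw [← HomologicalComplex.homologyMap_comp]
  have : (NatTrans.mapHomologicalComplex κ (ComplexShape.up ℕ)).app I.cocomplex ≫
      (NatTrans.mapHomologicalComplex η (ComplexShape.up ℕ)).app I.cocomplex = 0 :=
    (SC κ η w I.cocomplex).zero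
  rw [this, HomologicalComplex.homologyMap_zero]

include w in
lemma rightDerived_comp_rightDerived_app (i : ℕ) (X : C) :
    (NatTrans.rightDerived κ i).app X ≫ (NatTrans.rightDerived η i).app X = 0 := by
  let I := injectiveResolution X
  have h0 := homologyMap_comp_homologyMap κ η w I i
  rw [rightDerived_app_eq κ I i, rightDerived_app_eq η I i]
  simp only [Category.assoc, Iso.inv_hom_id_assoc]
  rw [reassoc_of% h0, zero_comp, comp_zero]

include h in
lemma exact₂_I {X : C} (I : InjectiveResolution X) (i : ℕ) :
    (ShortComplex.mk _ _ (homologyMap_comp_homologyMap κ η w I i)).Exact :=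
  (shortExact_SC κ η w h I).homology_exact₂ i

include h in
/-- Exactness of `R^i Γ X ⟶ R^i E X ⟶ R^i P X`. -/
lemma exact₂ (i : ℕ) (X : C) :
    (ShortComplex.mk ((NatTrans.rightDerived κ i).app X) ((NatTrans.rightDerived η i).app X)
      (rightDerived_comp_rightDerived_app κ η w i X)).Exact := by
  let I := injectiveResolution X
  refine ShortComplex.exact_of_iso (ShortComplex.isoMk (isoH Γ I i).symm (isoH E I i).symm
    (isoH P I i).symm ?_ ?_) (exact₂_I κ η w h I i)
  · dsimp only [Iso.symm_hom]
    rw [rightDerived_app_eq κ I i]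
    simp only [Category.assoc, Iso.inv_hom_id_assoc]
  · dsimp only [Iso.symm_hom]
    rw [rightDerived_app_eq η I i]
    simp only [Category.assoc, Iso.inv_hom_id_assoc]

end Groth.Agent.H30.DerivedLES
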