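import Groth.Agent.H30.GrothSSExt
import Groth.Agent.H30.FlasquePush

set_option autoImplicit false
universe u
open CategoryTheory Limits TopologicalSpace Opposite Abelian

namespace Groth.Agent.H30.SuppPush

open Groth.Agent.H30.FlasqueAcyclic

section

variable {X : TopCat.{u}}

/-- `Hom(ℤ_V/ℤ_W, F)` is the group of sections of `F` over `V` vanishing on `W`. -/
noncomputable def homZqEquiv (F : CohTop.Ab X) {W V : Opens X} (h : W ≤ V) :
    (LocCohZ.zq h ⟶ F) ≃+ LocCohZ.sectZ F h :=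
  (Ext.addEquiv₀ (X := LocCohZ.zq h) (Y := F)).symm.trans (LocCohZ.sect0Equiv F h)

lemma homZqEquiv_apply_coe (F : CohTop.Ab X) {W V : Opens X} (h : W ≤ V) (φ : LocCohZ.zq h ⟶ F) :
    (homZqEquiv F h φ).1 =
      CohFree.evalGen (Opens.grothendieckTopology X) V F
        (cokernel.π (CohCx.freeSheafMap (Opens.grothendieckTopology X) (homOfLE h)) ≫ φ) := by
  change CohFree.evalGen (Opens.grothendieckTopology X) V F
    (cokernel.π _ ≫ Ext.addEquiv₀ (Ext.addEquiv₀.symm φ)) = _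
  rw [AddEquiv.apply_symm_apply]

lemma homZqEquiv_comp {F G : CohTop.Ab X} {W V : Opens X} (h : W ≤ V) (φ : LocCohZ.zq h ⟶ F)
    (g : F ⟶ G) :
    (homZqEquiv G h (φ ≫ g)).1 = (g.hom.app (op V)).hom (homZqEquiv F h φ).1 := by
  rw [homZqEquiv_apply_coe, homZqEquiv_apply_coe, ← Category.assoc, evalGen_comp]

end

variable {X Y : TopCat.{u}} (f : X ⟶ Y) (V : Opens Y)

/-- sections of `f_* F` supported off `V` are sections of `F` supported off `f⁻¹ V`. -/
noncomputable def sectZPushEquiv (F : CohTop.Ab X) :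
    LocCohZ.sectZ ((CohTop.push f).obj F) (le_top : V ≤ ⊤) ≃+
      LocCohZ.sectZ F (le_top : (Opens.map f).obj V ≤ ⊤) :=
  AddEquiv.refl _


/-- `Hom_Y(ℤ_Y/ℤ_V, f_* F) ≃ Hom_X(ℤ_X/ℤ_{f⁻¹V}, F)`. -/
noncomputable def τEquiv (F : CohTop.Ab X) :
    (LocCohZ.zq (le_top : V ≤ ⊤) ⟶ (CohTop.push f).obj F) ≃+
      (LocCohZ.zq (le_top : (Opens.map f).obj V ≤ ⊤) ⟶ F) :=
  ((homZqEquiv ((CohTop.push f).obj F) (le_top : V ≤ ⊤)).trans (sectZPushEquiv f V F)).trans
    (homZqEquiv F (le_top : (Opens.map f).obj V ≤ ⊤)).symm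

lemma homZqEquiv_τEquiv (F : CohTop.Ab X)
    (φ : LocCohZ.zq (le_top : V ≤ ⊤) ⟶ (CohTop.push f).obj F) :
    @Eq (F.obj.obj (op ⊤)) (homZqEquiv F (le_top : (Opens.map f).obj V ≤ ⊤) (τEquiv f V F φ)).1
      (homZqEquiv ((CohTop.push f).obj F) (le_top : V ≤ ⊤) φ).1 := by
  dsimp only [τEquiv, AddEquiv.trans_apply]
  rw [AddEquiv.apply_symm_apply]
  rfl

/-- The natural isomorphism `f_* ⋙ Hom(ℤ_Y/ℤ_V, -) ≅ Hom(ℤ_X/ℤ_{f⁻¹V}, -)`. -/
noncomputable def τ :
    CohTop.push f ⋙ preadditiveCoyoneda.obj (op (LocCohZ.zq (le_top : V ≤ ⊤))) ≅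
      preadditiveCoyoneda.obj (op (LocCohZ.zq (le_top : (Opens.map f).obj V ≤ ⊤))) :=
  NatIso.ofComponents (fun F => (τEquiv f V F).toAddCommGrpIso) (by
    intro F G g
    ext φ
    apply (homZqEquiv G (le_top : (Opens.map f).obj V ≤ ⊤)).injective
    apply Subtype.ext
    have h1 := homZqEquiv_τEquiv f V G (φ ≫ (CohTop.push f).map g)
    have h2 := homZqEquiv_comp (le_top : V ≤ ⊤) φ ((CohTop.push f).map g)
    have h3 := homZqEquiv_comp (le_top : (Opens.map f).obj V ≤ ⊤) (τEquiv f V F φ) g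
    have h4 := homZqEquiv_τEquiv f V F φ
    refine h1.trans (Eq.trans ?_ h3.symm)
    refine Eq.trans h2 ?_
    exact (congrArg (fun s => (g.hom.app (op ⊤)).hom s) h4).symm)


/-- The spectral sequence `H^p_{Y'}(Y, R^q f_* F) ⟹ H^{p+q}_{f⁻¹Y'}(X, F)`. -/
theorem spectralSequence (F : CohTop.Ab X) :
    ∃ (E : E₂CohomologicalSpectralSequence AddCommGrpCat.{u})
      (a : SpSeq.Abutment E (fun n : ℤ =>
        if 0 ≤ n then AddCommGrpCat.of (LocCohZ.HZc F n.toNat ((Opens.map f).obj V))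
          else AddCommGrpCat.of PUnit.{u + 1})),
      (∀ n : ℤ, a.IsFinite n) ∧ SpSeq.IsBounded E ∧
      ∀ p q : ℤ, Nonempty ((E.page 2 le_rfl).X (p, q) ≅
        (if 0 ≤ p ∧ 0 ≤ q then
          AddCommGrpCat.of (LocCohZ.HZc ((CohTop.Rpush f q.toNat).obj F) p.toNat V)
          else AddCommGrpCat.of PUnit.{u + 1})) := by
  let _ : HasDerivedCategory.{u + 1} (CohTop.Ab X) := HasDerivedCategory.standard _
  let _ : HasDerivedCategory.{u + 1} (CohTop.Ab Y) := HasDerivedCategory.standard _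
  let _ : HasDerivedCategory.{u + 1} AddCommGrpCat.{u} := HasDerivedCategory.standard _
  have hT : ∀ Q : CohTop.Ab X, Injective Q → ∀ q : ℕ, 0 < q →
      IsZero (((preadditiveCoyoneda.obj (op (LocCohZ.zq (le_top : V ≤ ⊤)))).rightDerived q).obj
        ((CohTop.push f).obj Q)) := by
    intro Q hQ q hq
    obtain ⟨e⟩ := ExtDerived.nonempty_iso_rightDerived (LocCohZ.zq (le_top : V ≤ ⊤)) q
      ((CohTop.push f).obj Q)
    refine IsZero.of_iso ?_ e.symm
    have : TopCat.Sheaf.IsFlasque Q := Flasque.isFlasque_of_injective Q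
    have : TopCat.Sheaf.IsFlasque ((CohTop.push f).obj Q) :=
      TopCat.Sheaf.IsFlasque.pushforward_isFlasque Q f
    have := subsingleton_HZ ((CohTop.push f).obj Q) (le_top : V ≤ ⊤) q hq
    exact AddCommGrpCat.isZero_of_subsingleton _
  exact GrothSSExt.grothendieck_spectralSequence' (CohTop.push f)
    (preadditiveCoyoneda.obj (op (LocCohZ.zq (le_top : V ≤ ⊤)))) hT F
    (fun n => AddCommGrpCat.of (LocCohZ.HZc F n ((Opens.map f).obj V)))
    (fun p q => AddCommGrpCat.of (LocCohZ.HZc ((CohTop.Rpush f q).obj F) p V))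
    (AddCommGrpCat.of PUnit.{u + 1}) (AddCommGrpCat.isZero_of_subsingleton _)
    (fun n => ⟨(GrothSSExt.rightDerivedIsoOfIso (τ f V) n).app F ≪≫
      (ExtDerived.nonempty_iso_rightDerived _ n F).some.symm⟩)
    (fun p q => ⟨(ExtDerived.nonempty_iso_rightDerived _ p _).some.symm⟩)

end Groth.Agent.H30.SuppPush
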