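import Groth.Agent.H30.ExtRD
import Groth.Agent.H30.SuppPush
import Groth.Agent.H30.RestrOpen
import Groth.Agent.H30.OpenShriek
import Groth.Agent.H30.DerivedComp

/-!
# `H^i_Z(X, F) ≅ H^i_Z(V, F|_V)` naturally in `F`, for `Z = V ∖ W`
-/

set_option autoImplicit false
universe u
open CategoryTheory Limits TopologicalSpace Opposite Abelian

namespace Groth.Agent.H30.ExcisionV

open Groth.Agent.H30.RestrOpen Groth.Agent.H30.SuppPush

variable {X : TopCat.{u}} {W V : Opens X} (h : W ≤ V)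

/-- `W` as an open of the subspace `V`. -/
abbrev W' (W V : Opens X) : Opens (TopCat.of V) := (Opens.map (CohCx.incl V)).obj W

lemma hmap (F : CohTop.Ab X) {A B : Opens X} (i i' : A ⟶ B) (x : F.obj.obj (op B)) :
    (F.obj.map i.op).hom x = (F.obj.map i'.op).hom x := by
  rw [Subsingleton.elim i i']

lemma map_map (F : CohTop.Ab X) {A B D : Opens X} (i : A ⟶ B) (i' : B ⟶ D) (i'' : A ⟶ D)
    (x : F.obj.obj (op D)) :
    (F.obj.map i.op).hom ((F.obj.map i'.op).hom x) = (F.obj.map i''.op).hom x := by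
  rw [← ConcreteCategory.comp_apply, ← F.obj.map_comp, ← op_comp]
  exact hmap F _ _ x

lemma functor_W'_le : (SectSupp.hj V).isOpenMap.functor.obj (W' W V) ≤ W := by
  rintro _ ⟨y, hy, rfl⟩
  exact hy

include h in
lemma le_functor_W' : W ≤ (SectSupp.hj V).isOpenMap.functor.obj (W' W V) := by
  intro x hx
  exact ⟨⟨x, h hx⟩, hx, rfl⟩

lemma topEquiv_symm_apply (F : CohTop.Ab X) (s : F.obj.obj (op V)) :
    (topEquiv V F).symm s = (F.obj.map (eqToHom (functor_top V)).op).hom s := rfl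

lemma topEquiv_apply (F : CohTop.Ab X) (t : ((CohTop.restrFunctor V).obj F).obj.obj (op ⊤)) :
    topEquiv V F t = (F.obj.map (eqToHom (functor_top V).symm).op).hom t := rfl

/-- the restriction maps of `F|_V` are those of `F`. -/
lemma restr_map (F : CohTop.Ab X) {A B : Opens (TopCat.of V)} (i : A ⟶ B)
    (x : ((CohTop.restrFunctor V).obj F).obj.obj (op B)) :
    (((CohTop.restrFunctor V).obj F).obj.map i.op).hom x =
      (F.obj.map ((SectSupp.hj V).isOpenMap.functor.map i).op).hom x := rfl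

/-- Sections of `F` over `V` vanishing on `W` are the global sections of `F|_V` vanishing on `W`. -/
noncomputable def sectZRestrEquiv (F : CohTop.Ab X) :
    LocCohZ.sectZ F h ≃+
      LocCohZ.sectZ ((CohTop.restrFunctor V).obj F) (le_top : W' W V ≤ ⊤) where
  toFun s := ⟨(topEquiv V F).symm s.1, by
    have hs : (F.obj.map (homOfLE h).op).hom s.1 = 0 := s.2
    rw [AddMonoidHom.mem_ker, topEquiv_symm_apply]
    refine (restr_map F _ _).trans ?_
    refine (map_map F _ _ (homOfLE ((functor_W'_le (W := W) (V := V)).trans h)) s.1).trans ?_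
    refine (map_map F (homOfLE (functor_W'_le (W := W) (V := V))) (homOfLE h) _ s.1).symm.trans ?_
    rw [hs]
    exact map_zero _⟩
  invFun t := ⟨topEquiv V F t.1, by
    have ht : (((CohTop.restrFunctor V).obj F).obj.map
      (homOfLE (le_top : W' W V ≤ ⊤)).op).hom t.1 = 0 := t.2
    let t' : F.obj.obj (op ((SectSupp.hj V).isOpenMap.functor.obj ⊤)) := t.1
    have ht' : (F.obj.map ((SectSupp.hj V).isOpenMap.functor.map
        (homOfLE (le_top : W' W V ≤ ⊤))).op).hom t' = 0 := ht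
    rw [AddMonoidHom.mem_ker, topEquiv_apply]
    change (F.obj.map (homOfLE h).op).hom ((F.obj.map (eqToHom (functor_top V).symm).op).hom t') = 0
    refine (map_map F _ _ (homOfLE (h.trans (functor_top V).ge)) t').trans ?_
    refine (map_map F (homOfLE (le_functor_W' h))
        ((SectSupp.hj V).isOpenMap.functor.map (homOfLE (le_top : W' W V ≤ ⊤))) _ t').symm.trans ?_
    rw [ht']
    exact map_zero _⟩
  left_inv s := Subtype.ext ((topEquiv V F).apply_symm_apply s.1)
  right_inv t := Subtype.ext ((topEquiv V F).symm_apply_apply t.1)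
  map_add' s s' := Subtype.ext (map_add (topEquiv V F).symm s.1 s'.1)

lemma sectZRestrEquiv_apply_coe (F : CohTop.Ab X) (s : LocCohZ.sectZ F h) :
    topEquiv V F (sectZRestrEquiv h F s).1 = s.1 := (topEquiv V F).apply_symm_apply s.1

/-- `Hom(ℤ_V/ℤ_W, F) ≃ Hom(ℤ_V/ℤ_W, F|_V)` (the latter on the subspace `V`). -/
noncomputable def σEquiv (F : CohTop.Ab X) :
    (LocCohZ.zq h ⟶ F) ≃+
      (LocCohZ.zq (le_top : W' W V ≤ ⊤) ⟶ (CohTop.restrFunctor V).obj F) :=
  ((homZqEquiv F h).trans (sectZRestrEquiv h F)).trans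
    (homZqEquiv ((CohTop.restrFunctor V).obj F) (le_top : W' W V ≤ ⊤)).symm

lemma homZqEquiv_σEquiv (F : CohTop.Ab X) (φ : LocCohZ.zq h ⟶ F) :
    topEquiv V F (homZqEquiv ((CohTop.restrFunctor V).obj F) (le_top : W' W V ≤ ⊤)
      (σEquiv h F φ)).1 = (homZqEquiv F h φ).1 := by
  dsimp only [σEquiv, AddEquiv.trans_apply]
  rw [AddEquiv.apply_symm_apply]
  exact sectZRestrEquiv_apply_coe h F _

/-- The natural isomorphism `Hom(ℤ_V/ℤ_W, -) ≅ (-)|_V ⋙ Hom(ℤ_V/ℤ_W, -)`. -/
noncomputable def σ :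
    preadditiveCoyoneda.obj (op (LocCohZ.zq h)) ≅
      CohTop.restrFunctor V ⋙
        preadditiveCoyoneda.obj (op (LocCohZ.zq (le_top : W' W V ≤ ⊤))) :=
  NatIso.ofComponents (fun F => (σEquiv h F).toAddCommGrpIso) (by
    intro F F' g
    ext φ₀
    let φ : LocCohZ.zq h ⟶ F := φ₀
    apply (homZqEquiv ((CohTop.restrFunctor V).obj F') (le_top : W' W V ≤ ⊤)).injective
    apply Subtype.ext
    apply (topEquiv V F').injective
    change topEquiv V F' (homZqEquiv _ _ (σEquiv h F' (φ ≫ g))).1 =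
      topEquiv V F' (homZqEquiv _ _ (σEquiv h F φ ≫ (CohTop.restrFunctor V).map g)).1
    rw [homZqEquiv_σEquiv, homZqEquiv_comp, homZqEquiv_comp, topEquiv_naturality,
      homZqEquiv_σEquiv])

lemma hT : ∀ Q : CohTop.Ab X, Injective Q → Injective ((CohTop.restrFunctor V).obj Q) :=
  fun Q _ => OpenShriek.injective_restr V Q

/-- `Ext^i(ℤ_V/ℤ_W, -) ≅ (-)|_V ⋙ Ext^i(ℤ_V/ℤ_W, -)` as functors. -/
noncomputable def extIso (i : ℕ) :
    (extFunctor.{u} i).obj (op (LocCohZ.zq h)) ≅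
      CohTop.restrFunctor V ⋙
        (extFunctor.{u} i).obj (op (LocCohZ.zq (le_top : W' W V ≤ ⊤))) :=
  (ExtRD.rightDerivedIsoExt (LocCohZ.zq h) i).symm ≪≫
    GrothSSExt.rightDerivedIsoOfIso (σ h) i ≪≫
    DerivedComp.rightDerivedCompIso (CohTop.restrFunctor V) hT
      (ExtRD.hM (LocCohZ.zq (le_top : W' W V ≤ ⊤))) i ≪≫
    Functor.isoWhiskerLeft (CohTop.restrFunctor V)
      (ExtRD.rightDerivedIsoExt (LocCohZ.zq (le_top : W' W V ≤ ⊤)) i)

section
variable (i : ℕ) (α : (extFunctor.{u} i).obj (op (LocCohZ.zq h)) ≅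
      CohTop.restrFunctor V ⋙
        (extFunctor.{u} i).obj (op (LocCohZ.zq (le_top : W' W V ≤ ⊤))))

/-- components of a natural iso as additive equivalences -/
noncomputable def eF (F : CohTop.Ab X) :
    Ext.{u} (LocCohZ.zq h) F i ≃+
      Ext.{u} (LocCohZ.zq (le_top : W' W V ≤ ⊤)) ((CohTop.restrFunctor V).obj F) i :=
  (α.app F).addCommGroupIsoToAddEquiv

lemma eF_naturality {F G : CohTop.Ab X} (φ : F ⟶ G) (x : Ext.{u} (LocCohZ.zq h) F i) :
    eF h i α G (x.comp (Ext.mk₀ φ) (add_zero i)) =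
      (eF h i α F x).comp (Ext.mk₀ ((CohTop.restrFunctor V).map φ)) (add_zero i) := by
  have h1 := ConcreteCategory.congr_hom (α.hom.naturality φ) x
  exact h1

include α in
theorem exists_of_iso :
    ∃ e : ∀ F : CohTop.Ab X,
        LocCohZ.HZ F i h ≃+ LocCohZ.HZc (CohTop.restr F V) i ((Opens.map (CohCx.incl V)).obj W),
      ∀ (F G : CohTop.Ab X) (φ : F ⟶ G) (x : LocCohZ.HZ F i h),
        e G (LocCohZ.map φ i h x) =
          LocCohZ.map ((CohTop.restrFunctor V).map φ) i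
            (le_top : (Opens.map (CohCx.incl V)).obj W ≤ ⊤) (e F x) :=
  ⟨fun F => eF h i α F, fun _ _ φ x => eF_naturality h i α φ x⟩

end

theorem exists_natural_equiv (i : ℕ) :
    ∃ e : ∀ F : CohTop.Ab X,
        LocCohZ.HZ F i h ≃+ LocCohZ.HZc (CohTop.restr F V) i ((Opens.map (CohCx.incl V)).obj W),
      ∀ (F G : CohTop.Ab X) (φ : F ⟶ G) (x : LocCohZ.HZ F i h),
        e G (LocCohZ.map φ i h x) =
          LocCohZ.map ((CohTop.restrFunctor V).map φ) i
            (le_top : (Opens.map (CohCx.incl V)).obj W ≤ ⊤) (e F x) :=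
  exists_of_iso h i (extIso h i)

end Groth.Agent.H30.ExcisionV
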