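import Mathlib.Algebra.Homology.DerivedCategory.Ext.ExactSequences

/-!
# Vanishing of `Ext(X₃, Y)` in low degrees in terms of `Ext(X₂, Y) → Ext(X₁, Y)`
-/

set_option autoImplicit false
universe w v u
open CategoryTheory Abelian

namespace Groth.Agent.H30.ExtLES

variable {C : Type u} [Category.{v} C] [Abelian C] [HasExt.{w} C]
  {S : ShortComplex C} (hS : S.ShortExact) (Y : C)

include hS in
/-- For a short exact sequence `0 → X₁ → X₂ → X₃ → 0`: `Extⁱ(X₃, Y) = 0` for `i ≤ N` iff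
`Extⁱ(X₂, Y) → Extⁱ(X₁, Y)` is bijective for `i < N` and injective for `i = N`. -/
theorem subsingleton_iff (N : ℕ) :
    (∀ i : ℕ, i ≤ N → Subsingleton (Ext.{w} S.X₃ Y i)) ↔
      (∀ i : ℕ, i < N → Function.Bijective ((Ext.mk₀ S.f).precomp Y (zero_add i))) ∧
        Function.Injective ((Ext.mk₀ S.f).precomp Y (zero_add N)) := by
  constructor
  · intro h
    have hinj : ∀ i : ℕ, i ≤ N → Function.Injective ((Ext.mk₀ S.f).precomp Y (zero_add i)) := by
      intro i hi
      rw [injective_iff_map_eq_zero]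
      intro x₂ hx₂
      obtain ⟨x₃, rfl⟩ := Ext.contravariant_sequence_exact₂ hS Y x₂ hx₂
      have := h i hi
      rw [Subsingleton.elim x₃ 0, Ext.comp_zero]
    refine ⟨fun i hi => ⟨hinj i hi.le, fun x₁ => ?_⟩, hinj N le_rfl⟩
    have := h (i + 1) (by lia)
    exact Ext.contravariant_sequence_exact₁ hS Y x₁ (by lia : 1 + i = i + 1)
      (Subsingleton.elim _ _)
  · rintro ⟨hbij, hinjN⟩ i hi
    have hinj : Function.Injective ((Ext.mk₀ S.f).precomp Y (zero_add i)) := by
      rcases hi.lt_or_eq with h | rfl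
      · exact (hbij i h).1
      · exact hinjN
    refine subsingleton_of_forall_eq 0 fun x₃ => ?_
    have h2 : (Ext.mk₀ S.g).comp x₃ (zero_add i) = 0 := by
      apply hinj
      change (Ext.mk₀ S.f).comp ((Ext.mk₀ S.g).comp x₃ (zero_add i)) (zero_add i) =
        (Ext.mk₀ S.f).comp 0 (zero_add i)
      rw [Ext.comp_zero, ← Ext.comp_assoc (a₁₂ := 0) _ _ _ (by lia) (by lia) (by lia),
        Ext.mk₀_comp_mk₀, S.zero, Ext.mk₀_zero, Ext.zero_comp]
    rcases i with _ | j
    · have := hS.epi_g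
      apply Ext.precomp_mk₀_injective_of_epi Y S.g
      change (Ext.mk₀ S.g).comp x₃ (zero_add 0) = (Ext.mk₀ S.g).comp 0 (zero_add 0)
      rw [h2, Ext.comp_zero]
    · obtain ⟨x₁, rfl⟩ := Ext.contravariant_sequence_exact₃ hS Y x₃ h2 (by lia : 1 + j = j + 1)
      obtain ⟨x₂, rfl⟩ := (hbij j (by lia)).2 x₁
      exact hS.extClass_comp_assoc x₂

end Groth.Agent.H30.ExtLES
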