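import Mathlib.CategoryTheory.Abelian.Injective.Ext
import Mathlib.CategoryTheory.Abelian.RightDerived
import Mathlib.Algebra.Homology.ShortComplex.Ab
import Mathlib.CategoryTheory.Preadditive.Yoneda.Basic
import Groth.Agent.H30.ExtMkZero

/-!
# `R^n Hom(M, -) ≅ Ext^n(M, -)` as functors
-/

set_option autoImplicit false
universe v u
open CategoryTheory Limits Opposite Abelian

namespace Groth.Agent.H30.ExtRD

variable {C : Type u} [Category.{v} C] [Abelian C] [HasExt.{v} C] (M : C)

/-- `Hom(M, -)`. -/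
abbrev hM : C ⥤ AddCommGrpCat.{v} := preadditiveCoyoneda.obj (op M)

variable {M} {Y : C} (R : InjectiveResolution Y)

/-- The complex `Hom(M, R•)`. -/
noncomputable abbrev L : CochainComplex AddCommGrpCat.{v} ℕ :=
  ((hM M).mapHomologicalComplex _).obj R.cocomplex

lemma extMk_eq_zero_iff_zero' (f : M ⟶ R.cocomplex.X 0) (m : ℕ) (hm : 0 + 1 = m)
    (hf : f ≫ R.cocomplex.d 0 m = 0) : R.extMk f m hm hf = 0 ↔ f = 0 := by
  subst hm
  exact ExtMkZero.extMk_eq_zero_iff_zero R f hf

lemma next_eq (n : ℕ) : n + 1 = (ComplexShape.up ℕ).next n := (CochainComplex.next ℕ n).symm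

/-- the class of a cocycle -/
noncomputable def clsHom (n : ℕ) :
    AddMonoidHom.ker ((L (M := M) R).sc n).g.hom →+ Ext M Y n where
  toFun x := R.extMk (X := M) x.1 _ (next_eq n) x.2
  map_zero' := R.extMk_zero _ _
  map_add' x y := (R.add_extMk _ _ _ _ _ _).symm

lemma clsHom_apply (n : ℕ) (x : AddMonoidHom.ker ((L (M := M) R).sc n).g.hom) :
    clsHom R n x = R.extMk (X := M) x.1 _ (next_eq n) x.2 := rfl

lemma clsHom_surjective (n : ℕ) : Function.Surjective (clsHom (M := M) R n) := by
  intro α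
  obtain ⟨f, hf, rfl⟩ := R.extMk_surjective α _ (next_eq n)
  exact ⟨⟨f, hf⟩, rfl⟩

lemma clsHom_abToCycles (n : ℕ) (ψ : ((L (M := M) R).sc n).X₁) :
    clsHom R n (((L (M := M) R).sc n).abToCycles ψ) = 0 := by
  rw [clsHom_apply]
  cases n with
  | zero =>
    have h0 : ((L (M := M) R).sc 0).f = 0 := (L (M := M) R).shape _ _ (by simp)
    have h1 : (((L (M := M) R).sc 0).abToCycles ψ).1 = 0 := by
      change ((L (M := M) R).sc 0).f.hom ψ = 0
      rw [h0]
      rfl
    exact (extMk_eq_zero_iff_zero' R _ _ _ _).2 h1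
  | succ k =>
    have hp : (ComplexShape.up ℕ).prev (k + 1) + 1 = k + 1 := by simp
    exact (R.extMk_eq_zero_iff _ _ _ _ _ hp).2 ⟨ψ, rfl⟩

lemma exists_of_clsHom_eq_zero (n : ℕ) (x : AddMonoidHom.ker ((L (M := M) R).sc n).g.hom)
    (hx : clsHom R n x = 0) : ∃ ψ, ((L (M := M) R).sc n).abToCycles ψ = x := by
  rw [clsHom_apply] at hx
  cases n with
  | zero =>
    have h1 : x.1 = 0 := (extMk_eq_zero_iff_zero' R _ _ _ _).1 hx
    exact ⟨0, Subtype.ext ((map_zero _).trans h1.symm)⟩
  | succ k =>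
    have hp : (ComplexShape.up ℕ).prev (k + 1) + 1 = k + 1 := by simp
    obtain ⟨ψ, hψ⟩ := (R.extMk_eq_zero_iff _ _ _ _ _ hp).1 hx
    exact ⟨ψ, Subtype.ext hψ⟩

/-- The left homology data of `Hom(M, R•)` in degree `n` with `H = Ext^n(M, Y)`. -/
noncomputable def lhd (n : ℕ) : ((L (M := M) R).sc n).LeftHomologyData where
  K := ((L (M := M) R).sc n).abLeftHomologyData.K
  H := AddCommGrpCat.of (Ext M Y n)
  i := ((L (M := M) R).sc n).abLeftHomologyData.i
  π := AddCommGrpCat.ofHom (clsHom R n)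
  wi := ((L (M := M) R).sc n).abLeftHomologyData.wi
  hi := ((L (M := M) R).sc n).abLeftHomologyData.hi
  wπ := by
    ext ψ
    exact clsHom_abToCycles R n ψ
  hπ := by
    let T : ShortComplex AddCommGrpCat.{v} :=
      ShortComplex.mk (((L (M := M) R).sc n).abLeftHomologyData.f')
        (AddCommGrpCat.ofHom (clsHom R n)) (by
          ext ψ
          exact clsHom_abToCycles R n ψ)
    have hT : T.Exact := by
      rw [ShortComplex.ab_exact_iff]
      intro x hx
      exact exists_of_clsHom_eq_zero R n x hx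
    have : Epi T.g := (AddCommGrpCat.epi_iff_surjective _).2 (clsHom_surjective R n)
    exact hT.gIsCokernel

/-- `H^n(Hom(M, R•)) ≅ Ext^n(M, Y)`. -/
noncomputable def homologyIso (n : ℕ) :
    (L (M := M) R).homology n ≅ AddCommGrpCat.of (Ext M Y n) :=
  (lhd R n).homologyIso

variable {R} {Y' : C} {R' : InjectiveResolution Y'} {g : Y ⟶ Y'}
  (φ : InjectiveResolution.Hom R R' g)

/-- the morphism of complexes `Hom(M, R•) ⟶ Hom(M, R'•)` -/
noncomputable abbrev Lmap : L (M := M) R ⟶ L (M := M) R' :=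
  ((hM M).mapHomologicalComplex _).map φ.hom

/-- the morphism of short complexes in degree `n` -/
noncomputable abbrev scMap (n : ℕ) : (L (M := M) R).sc n ⟶ (L (M := M) R').sc n :=
  (HomologicalComplex.shortComplexFunctor _ _ n).map (Lmap (M := M) φ)

/-- induced map on cocycles -/
noncomputable def kerMap (n : ℕ) :
    AddMonoidHom.ker ((L (M := M) R).sc n).g.hom →+
      AddMonoidHom.ker ((L (M := M) R').sc n).g.hom where
  toFun x := ⟨(scMap (M := M) φ n).τ₂.hom x.1, by
    have h := congrArg (fun k => k.hom x.1) (scMap (M := M) φ n).comm₂₃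
    have hx : ((L (M := M) R).sc n).g.hom x.1 = 0 := x.2
    refine Eq.trans h ?_
    change (scMap (M := M) φ n).τ₃.hom (((L (M := M) R).sc n).g.hom x.1) = 0
    rw [hx, map_zero]⟩
  map_zero' := Subtype.ext (map_zero _)
  map_add' x y := Subtype.ext (map_add _ _ _)

lemma kerMap_coe (n : ℕ) (x : AddMonoidHom.ker ((L (M := M) R).sc n).g.hom) :
    (kerMap φ n x).1 = (show M ⟶ R.cocomplex.X n from x.1) ≫ φ.hom.f n := rfl

lemma clsHom_kerMap (n : ℕ) (x : AddMonoidHom.ker ((L (M := M) R).sc n).g.hom) :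
    clsHom R' n (kerMap φ n x) = (clsHom R n x).comp (Ext.mk₀ g) (add_zero n) := by
  rw [clsHom_apply, clsHom_apply]
  exact (InjectiveResolution.extMk_comp_mk₀ _ _ (next_eq n) x.2 φ).symm

/-- The left homology map data. -/
noncomputable def lhmd (n : ℕ) :
    ShortComplex.LeftHomologyMapData (scMap (M := M) φ n) (lhd R n) (lhd R' n) where
  φK := AddCommGrpCat.ofHom (kerMap φ n)
  φH := AddCommGrpCat.ofHom ((Ext.mk₀ g).postcomp M (add_zero n))
  commi := rfl
  commf' := by
    ext ψ
    apply Subtype.ext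
    have h := congrArg (fun k => k.hom ψ) (scMap (M := M) φ n).comm₁₂
    exact h.symm
  commπ := by
    ext x
    exact (clsHom_kerMap φ n x).symm

lemma homologyMap_homologyIso (n : ℕ) :
    HomologicalComplex.homologyMap (Lmap (M := M) φ) n ≫ (homologyIso R' n).hom =
      (homologyIso R n).hom ≫ AddCommGrpCat.ofHom ((Ext.mk₀ g).postcomp M (add_zero n)) :=
  (lhmd φ n).homologyMap_comm

section Functorial

variable [HasInjectiveResolutions C] (M)

/-- objectwise iso `R^n Hom(M,-)(Y) ≅ Ext^n(M, Y)` -/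
noncomputable def objIso (n : ℕ) (Y : C) :
    ((hM M).rightDerived n).obj Y ≅ ((extFunctor n).obj (op M)).obj Y :=
  (injectiveResolution Y).isoRightDerivedObj (hM M) n ≪≫ homologyIso (injectiveResolution Y) n

/-- `R^n Hom(M, -) ≅ Ext^n(M, -)` as functors. -/
noncomputable def rightDerivedIsoExt (n : ℕ) :
    (hM M).rightDerived n ≅ (extFunctor n).obj (op M) :=
  NatIso.ofComponents (objIso M n) (by
    intro Y Y' g
    let φ : InjectiveResolution.Hom (injectiveResolution Y) (injectiveResolution Y') g :=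
      ⟨InjectiveResolution.desc g _ _, by
        rw [CochainComplex.single₀_map_f_zero]
        exact InjectiveResolution.desc_commutes_zero g _ _⟩
    have h1 := InjectiveResolution.isoRightDerivedObj_hom_naturality g
      (injectiveResolution Y) (injectiveResolution Y') φ.hom
      (InjectiveResolution.desc_commutes_zero g _ _) (hM M) n
    have h2 := homologyMap_homologyIso (M := M) φ n
    change ((hM M).rightDerived n).map g ≫ (_ ≫ _) = (_ ≫ _) ≫ _
    rw [reassoc_of% h1, Category.assoc]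
    congr 1)

end Functorial

end Groth.Agent.H30.ExtRD
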