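import Groth.Prelude.Def_FibClv

set_option autoImplicit false
set_option backward.isDefEq.respectTransparency false
set_option backward.isDefEq.respectTransparency.types false
open CategoryTheory CategoryTheory.Functor
universe v₁ v₂ u₁ u₂

namespace Groth.Agent.H30

variable {𝒮 : Type u₁} {𝒳 : Type u₂} [Category.{v₁} 𝒮] [Category.{v₂} 𝒳]
variable {p : 𝒳 ⥤ 𝒮} (K : FibCat.Cleavage p)

theorem congr_hom_app_lift {R S : 𝒮} {f f' : R ⟶ S} (h : f = f') (a : p.Fiber S) :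
    Fiber.fiberInclusion.map ((K.inverseImageCongr h).hom.app a) ≫ K.lift a.2 f' = K.lift a.2 f := by
  subst h
  simp [FibCat.Cleavage.inverseImageCongr]

theorem congr_inv_app_lift {R S : 𝒮} {f f' : R ⟶ S} (h : f = f') (a : p.Fiber S) :
    Fiber.fiberInclusion.map ((K.inverseImageCongr h).inv.app a) ≫ K.lift a.2 f = K.lift a.2 f' := by
  subst h
  simp [FibCat.Cleavage.inverseImageCongr]

@[reassoc]
theorem comp_app_lift {R S T : 𝒮} (f : T ⟶ S) (g : R ⟶ T) (a : p.Fiber S) :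
    Fiber.fiberInclusion.map ((K.comp f g).app a) ≫ K.lift a.2 (g ≫ f) =
      K.lift (K.obj_proj a.2 f) g ≫ K.lift a.2 f := by
  rw [FibCat.Cleavage.comp_app]
  exact IsCartesian.fac p (g ≫ f) (K.lift a.2 (g ≫ f)) _

@[reassoc]
theorem inverseImage_map_lift {R S : 𝒮} (f : R ⟶ S) {a b : p.Fiber S} (φ : a ⟶ b) :
    Fiber.fiberInclusion.map ((K.inverseImage f).map φ) ≫ K.lift b.2 f =
      K.lift a.2 f ≫ Fiber.fiberInclusion.map φ := by
  rw [FibCat.Cleavage.inverseImage_map]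
  exact IsCartesian.fac p f (K.lift b.2 f) _

theorem isCartesian_id (a : 𝒳) {S : 𝒮} (ha : p.obj a = S) : p.IsCartesian (𝟙 S) (𝟙 a) := by
  have : p.IsHomLift (𝟙 S) (𝟙 a) := IsHomLift.id (p := p) ha
  refine ⟨?_⟩
  intro a' φ' hφ'
  refine ⟨φ', ⟨hφ', by simp⟩, ?_⟩
  rintro y ⟨_, hy⟩
  simpa using hy

theorem isIso_lift_id {S : 𝒮} (a : p.Fiber S) : IsIso (K.lift a.2 (𝟙 S)) := by
  have h1 : p.IsCartesian (𝟙 S) (𝟙 a.1) := by
    have : p.IsHomLift (𝟙 S) (𝟙 a.1) := by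
      have := IsHomLift.id (p := p) a.2
      exact this
    refine ⟨?_⟩
    intro a' φ' hφ'
    refine ⟨φ', ⟨hφ', by simp⟩, ?_⟩
    rintro y ⟨_, hy⟩
    simpa using hy
  have := (IsCartesian.domainUniqueUpToIso p (𝟙 S) (𝟙 a.1) (K.lift a.2 (𝟙 S))).isIso_hom
  have e : (IsCartesian.domainUniqueUpToIso p (𝟙 S) (𝟙 a.1) (K.lift a.2 (𝟙 S))).hom =
      K.lift a.2 (𝟙 S) := by
    have := IsCartesian.fac p (𝟙 S) (𝟙 a.1) (K.lift a.2 (𝟙 S))
    simpa using this
  rwa [e] at this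

noncomputable def idIso (S : 𝒮) : K.inverseImage (𝟙 S) ≅ 𝟭 (p.Fiber S) :=
  haveI : ∀ a : p.Fiber S, IsIso (Fiber.homMk p S (K.lift a.2 (𝟙 S)) :
      (K.inverseImage (𝟙 S)).obj a ⟶ a) := by
    intro a
    have := isIso_lift_id K a
    refine ⟨Fiber.homMk p S (inv (K.lift a.2 (𝟙 S))), ?_, ?_⟩
    · apply Fiber.hom_ext
      simp
    · apply Fiber.hom_ext
      simp
  NatIso.ofComponents (fun a => asIso (Fiber.homMk p S (K.lift a.2 (𝟙 S)) :
      (K.inverseImage (𝟙 S)).obj a ⟶ a)) (by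
    intro a b φ
    apply Fiber.hom_ext
    simp only [Functor.map_comp, asIso_hom, Fiber.fiberInclusion_homMk, Functor.id_map]
    exact inverseImage_map_lift K (𝟙 S) φ)

end Groth.Agent.H30
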