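import Groth.Prelude.Def_LocCohZ

/-!
# Flasque abelian sheaves on a topological space
-/

set_option autoImplicit false
universe u
open CategoryTheory Limits TopologicalSpace Opposite

namespace Groth.Agent.H30.Flasque

variable {X : TopCat.{u}}

/-- The map of free sheaves `ℤ_V ⟶ ℤ_U` for `V ≤ U` is a monomorphism. -/
instance mono_freeSheafMap {U V : Opens X} (h : V ≤ U) :
    Mono (CohCx.freeSheafMap (Opens.grothendieckTopology X) (homOfLE h)) :=
  (LocCohZ.zqSeq_shortExact h).mono_f

/-- Sections of an injective sheaf extend. -/
lemma exists_extension_of_injective (F : CohTop.Ab X) [Injective F] {U V : Opens X} (h : V ≤ U)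
    (s : F.obj.obj (op V)) : ∃ t : F.obj.obj (op U), (F.obj.map (homOfLE h).op).hom t = s := by
  let J := Opens.grothendieckTopology X
  let φ := CohFree.ofSect J V F s
  refine ⟨CohFree.evalGen J U F (Injective.factorThru φ (CohCx.freeSheafMap J (homOfLE h))), ?_⟩
  rw [← CohFree.evalGen_freeSheafMap_comp, Injective.comp_factorThru, CohFree.evalGen_ofSect]

/-- An injective abelian sheaf is flasque. -/
theorem isFlasque_of_injective (F : CohTop.Ab X) [Injective F] : TopCat.Sheaf.IsFlasque F where
  epi {U V} i := by
    rw [AddCommGrpCat.epi_iff_surjective]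
    intro s
    obtain ⟨t, ht⟩ := exists_extension_of_injective F (leOfHom i.unop) s
    exact ⟨t, ht⟩

end Groth.Agent.H30.Flasque
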