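import Mathlib.CategoryTheory.Sites.PrecoverageToGrothendieck
import Mathlib.CategoryTheory.Sites.IsSheafFor
import Mathlib.CategoryTheory.Sites.Sheaf

set_option autoImplicit false
open CategoryTheory Limits
universe w v₁ u₁

namespace Groth.Agent.H30

variable {C : Type u₁} [Category.{v₁} C]
  (C' : C → Prop) (P P' : Precoverage C)
  [P.HasPullbacks] [P.IsStableUnderBaseChange]
  (ha : ∀ ⦃X : C⦄ ⦃R : Presieve X⦄, R ∈ P' X → ∀ ⦃T : C⦄ (g : T ⟶ X), C' T →
      ∃ _ : R.HasPullbacks g, Presieve.pullbackArrows g R ∈ P' T)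
  (hb : ∀ X : C, ∃ R ∈ P X, ∀ ⦃Y : C⦄ ⦃f : Y ⟶ X⦄, R f → C' Y)
  (F : Cᵒᵖ ⥤ Type w)
  (hP : ∀ ⦃X : C⦄ ⦃R : Presieve X⦄, R ∈ P X → Presieve.IsSheafFor F R)
  (hP' : ∀ ⦃X : C⦄ ⦃R : Presieve X⦄, R ∈ P' X → Presieve.IsSheafFor F R)

omit [P.HasPullbacks] [P.IsStableUnderBaseChange] in
include ha hb hP hP' in
theorem gen_separated {X : C} {R : Presieve X} (hR : R ∈ P' X) {Z : C} (h : Z ⟶ X) :
    Presieve.IsSeparatedFor F ((Sieve.generate R).pullback h).arrows := by
  intro x t₁ t₂ h₁ h₂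
  obtain ⟨U, hU, hUC⟩ := hb Z
  refine (hP hU).isSeparatedFor.ext ?_
  intro Zl z hz
  obtain ⟨hpb, hmem⟩ := ha hR (z ≫ h) (hUC hz)
  refine (hP' hmem).isSeparatedFor.ext ?_
  rintro W q ⟨V, r, hr⟩
  have := R.hasPullback (z ≫ h) hr
  have hq : ((Sieve.generate R).pullback h).arrows (pullback.snd r (z ≫ h) ≫ z) := by
    rw [Sieve.pullback_apply, Category.assoc, ← pullback.condition]
    exact Sieve.downward_closed _ (Sieve.le_generate R _ _ hr) _
  have e1 := h₁ _ hq
  have e2 := h₂ _ hq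
  simp only [op_comp, Functor.map_comp] at e1 e2
  exact e1.trans e2.symm

include ha hb hP hP' in
theorem gen_sheaf_aux {X : C} {R : Presieve X} (hR : R ∈ P' X) {Y : C} (h : Y ⟶ X)
    (S : Sieve Y) (hS : S = (Sieve.generate R).pullback h) :
    Presieve.IsSheafFor F S.arrows := by
  rw [← Presieve.isSeparatedFor_and_exists_isAmalgamation_iff_isSheafFor]
  refine ⟨hS ▸ gen_separated C' P P' ha hb F hP hP' hR h, ?_⟩
  intro x hx
  obtain ⟨U, hU, hUC⟩ := hb Y
  have hsh : ∀ ⦃Yk : C⦄ ⦃y : Yk ⟶ Y⦄, U y → Presieve.IsSheafFor F (S.pullback y).arrows := by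
    intro Yk y hy
    obtain ⟨hpb, hmem⟩ := ha hR (y ≫ h) (hUC hy)
    have := (Presieve.isSheafFor_iff_generate (P := F) _).1 (hP' hmem)
    rw [Sieve.pullbackArrows_comm] at this
    rw [hS, ← Sieve.pullback_comp]
    exact this
  let t : Presieve.FamilyOfElements F U := fun Yk y hy =>
    (hsh hy).amalgamate (x.pullback y) (hx.pullback y)
  have ht : t.Compatible := by
    intro Y₁ Y₂ Z g₁ g₂ y₁ y₂ hy₁ hy₂ e
    have hsep : Presieve.IsSeparatedFor F ((Sieve.generate R).pullback ((g₁ ≫ y₁) ≫ h)).arrows :=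
      gen_separated C' P P' ha hb F hP hP' hR _
    refine hsep.ext ?_
    intro W c hc
    have hc1 : (S.pullback y₁).arrows (c ≫ g₁) := by
      simpa [hS, Sieve.pullback_apply] using hc
    have hc2 : (S.pullback y₂).arrows (c ≫ g₂) := by
      have : c ≫ g₂ ≫ y₂ ≫ h = c ≫ g₁ ≫ y₁ ≫ h := by rw [reassoc_of% e]
      simpa [hS, Sieve.pullback_apply, this] using hc
    have e1 := (hsh hy₁).valid_glue (hx.pullback y₁) (c ≫ g₁) hc1
    have e2 := (hsh hy₂).valid_glue (hx.pullback y₂) (c ≫ g₂) hc2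
    simp only [op_comp, Functor.map_comp, types_comp_apply] at e1 e2
    change F.map c.op (F.map g₁.op (t y₁ hy₁)) = F.map c.op (F.map g₂.op (t y₂ hy₂))
    erw [e1, e2]
    unfold Presieve.FamilyOfElements.pullback
    congr 1
    simp only [Category.assoc, e]
  let tt := (hP hU).amalgamate t ht
  refine ⟨tt, ?_⟩
  intro Z g hg
  have hpbZ : U.HasPullbacks g := P.hasPullbacks_of_mem g hU
  have hmemZ : U.pullbackArrows g ∈ P Z := P.pullbackArrows_mem g hU
  refine (hP hmemZ).isSeparatedFor.ext ?_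
  rintro W q ⟨Yk, y, hy⟩
  have := U.hasPullback g hy
  have hfst : (S.pullback y).arrows (pullback.fst y g) := by
    rw [Sieve.pullback_apply, pullback.condition]
    exact S.downward_closed hg _
  have e1 := (hsh hy).valid_glue (hx.pullback y) (pullback.fst y g) hfst
  have e2 : F.map y.op tt = t y hy := (hP hU).valid_glue ht y hy
  have e3 := (Presieve.compatible_iff_sieveCompatible x).1 hx g (pullback.snd y g) hg
  rw [← e3]
  have e4 : F.map (pullback.snd y g).op (F.map g.op tt) =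
      F.map (pullback.fst y g).op (F.map y.op tt) := by
    simp only [← Functor.map_comp_apply, ← op_comp, pullback.condition]
  rw [e4, e2]
  change F.map (pullback.fst y g).op ((hsh hy).amalgamate (x.pullback y) (hx.pullback y)) = _
  rw [e1]
  unfold Presieve.FamilyOfElements.pullback
  congr 1
  exact pullback.condition

include ha hb hP hP' in
theorem gen_sheaf {X : C} {R : Presieve X} (hR : R ∈ P' X) {Y : C} (h : Y ⟶ X) :
    Presieve.IsSheafFor F ((Sieve.generate R).pullback h).arrows :=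
  gen_sheaf_aux C' P P' ha hb F hP hP' hR h _ rfl

end Groth.Agent.H30
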