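import Mathlib.CategoryTheory.Sites.PrecoverageToGrothendieck
import Mathlib.CategoryTheory.Sites.IsSheafFor
import Mathlib.CategoryTheory.Sites.Sheaf

set_option autoImplicit false
open CategoryTheory Limits
universe w v₁ u₁

namespace Groth.Agent.H30

variable {C : Type u₁} [Category.{v₁} C]
  (C' : C → Prop) (P P' : Precoverage C)

/-- composite covers `P' ∘ P` with middle sources in `C'` contained in a sieve -/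
def CompCov (X : C) (S' : Sieve X) : Prop :=
  ∃ (R : Presieve X) (_ : R ∈ P X) (_ : ∀ ⦃Y : C⦄ ⦃f : Y ⟶ X⦄, R f → C' Y)
    (R' : ∀ ⦃Y : C⦄ ⦃f : Y ⟶ X⦄, R f → Presieve Y),
    (∀ ⦃Y : C⦄ ⦃f : Y ⟶ X⦄ (hf : R f), R' hf ∈ P' Y) ∧
    ∀ ⦃Y : C⦄ ⦃f : Y ⟶ X⦄ (hf : R f) ⦃Z : C⦄ ⦃g : Z ⟶ Y⦄, R' hf g → S' (g ≫ f)

variable [P.HasPullbacks] [P.IsStableUnderBaseChange] [P.IsStableUnderComposition]
  (hP'C : ∀ ⦃X : C⦄ ⦃R : Presieve X⦄, R ∈ P' X → C' X ∧ ∀ ⦃Y : C⦄ ⦃f : Y ⟶ X⦄, R f → C' Y)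
  (hP'id : ∀ ⦃X : C⦄, C' X → Presieve.singleton (𝟙 X) ∈ P' X)
  (ha : ∀ ⦃X : C⦄ ⦃R : Presieve X⦄, R ∈ P' X → ∀ ⦃T : C⦄ (g : T ⟶ X), C' T →
      ∃ _ : R.HasPullbacks g, Presieve.pullbackArrows g R ∈ P' T)
  (hb : ∀ X : C, ∃ R ∈ P X, ∀ ⦃Y : C⦄ ⦃f : Y ⟶ X⦄, R f → C' Y)
  (hc : ∀ ⦃S : C⦄ ⦃R₁ : Presieve S⦄, R₁ ∈ P' S →
      ∀ (R₂ : ∀ ⦃Y : C⦄ ⦃f : Y ⟶ S⦄, R₁ f → Presieve Y),
        (∀ ⦃Y : C⦄ ⦃f : Y ⟶ S⦄ (hf : R₁ f), R₂ hf ∈ P Y ∧ ∀ ⦃Z : C⦄ ⦃g : Z ⟶ Y⦄, R₂ hf g → C' Z) →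
      ∀ (R₃ : ∀ ⦃Y : C⦄ ⦃f : Y ⟶ S⦄ (hf : R₁ f) ⦃Z : C⦄ ⦃g : Z ⟶ Y⦄, R₂ hf g → Presieve Z),
        (∀ ⦃Y : C⦄ ⦃f : Y ⟶ S⦄ (hf : R₁ f) ⦃Z : C⦄ ⦃g : Z ⟶ Y⦄ (hg : R₂ hf g), R₃ hf hg ∈ P' Z) →
      ∃ T ∈ P' S, ∀ ⦃W : C⦄ ⦃q : W ⟶ S⦄, T q →
        ∃ (Y Z V : C) (f : Y ⟶ S) (hf : R₁ f) (g : Z ⟶ Y) (hg : R₂ hf g) (h : V ⟶ Z) (_ : R₃ hf hg h)
          (r : W ⟶ V), r ≫ h ≫ g ≫ f = q)

omit [P.HasPullbacks] [P.IsStableUnderBaseChange] in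
include hb in
theorem exists_refine {X : C} {R : Presieve X} (hR : R ∈ P X) :
    ∃ R₀ ∈ P X, (∀ ⦃Y : C⦄ ⦃f : Y ⟶ X⦄, R₀ f → C' Y) ∧
      ∀ ⦃Y : C⦄ ⦃f : Y ⟶ X⦄, R₀ f → ∃ (Z : C) (r : Z ⟶ X) (k : Y ⟶ Z), R r ∧ k ≫ r = f := by
  obtain ⟨ι, Z, g, rfl⟩ := R.exists_eq_ofArrows
  choose U hU hUC using fun i => hb (Z i)
  choose σ Y k hk using fun i => (U i).exists_eq_ofArrows
  refine ⟨Presieve.ofArrows (fun p : Σ i, σ i => Y p.1 p.2) (fun p => k p.1 p.2 ≫ g p.1),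
    ?_, ?_, ?_⟩
  · exact P.comp_mem_coverings g hR k (fun i => (hk i) ▸ hU i)
  · rintro _ _ ⟨p⟩
    apply hUC p.1
    rw [hk p.1]
    exact ⟨p.2⟩
  · rintro _ _ ⟨p⟩
    exact ⟨Z p.1, g p.1, k p.1 p.2, ⟨p.1⟩, rfl⟩

omit [P.HasPullbacks] [P.IsStableUnderBaseChange] [P.IsStableUnderComposition] in
include hb hP'id in
theorem compCov_top (X : C) : CompCov C' P P' X ⊤ := by
  obtain ⟨U, hU, hUC⟩ := hb X
  exact ⟨U, hU, hUC, fun Y f _ => Presieve.singleton (𝟙 Y), fun Y f hf => hP'id (hUC hf),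
    fun _ _ _ _ _ _ => trivial⟩

omit [P.HasPullbacks] [P.IsStableUnderBaseChange] in
include hb hP'id in
theorem compCov_of_P {X : C} {R : Presieve X} (hR : R ∈ P X) :
    CompCov C' P P' X (Sieve.generate R) := by
  obtain ⟨R₀, hR₀, hC, hfac⟩ := exists_refine C' P hb hR
  refine ⟨R₀, hR₀, hC, fun Y f _ => Presieve.singleton (𝟙 Y), fun Y f hf => hP'id (hC hf), ?_⟩
  rintro Y f hf Z g ⟨⟩
  obtain ⟨Z, r, k, hr, rfl⟩ := hfac hf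
  rw [Category.id_comp]
  exact ⟨Z, k, r, hr, rfl⟩

omit [P.HasPullbacks] [P.IsStableUnderBaseChange] [P.IsStableUnderComposition] in
include hb ha in
theorem compCov_of_P' {X : C} {R : Presieve X} (hR : R ∈ P' X) :
    CompCov C' P P' X (Sieve.generate R) := by
  obtain ⟨U, hU, hUC⟩ := hb X
  refine ⟨U, hU, hUC, fun Y f hf =>
    haveI := (ha hR f (hUC hf)).1
    Presieve.pullbackArrows f R, fun Y f hf => (ha hR f (hUC hf)).2, ?_⟩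
  rintro Y f hf Z g hg
  have := (ha hR f (hUC hf)).1
  obtain ⟨V, r, hr⟩ := hg
  have := R.hasPullback f hr
  rw [← pullback.condition]
  exact Sieve.downward_closed _ (Sieve.le_generate R _ _ hr) _

include hb ha in
theorem compCov_pullback {X : C} {S : Sieve X}
    (hS : CompCov C' P P' X S) {Y : C} (h : Y ⟶ X) : CompCov C' P P' Y (S.pullback h) := by
  obtain ⟨R, hR, hC, R', hR', hcomp⟩ := hS
  have hpb : R.HasPullbacks h := P.hasPullbacks_of_mem h hR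
  have hmem : R.pullbackArrows h ∈ P Y := P.pullbackArrows_mem h hR
  obtain ⟨R₀, hR₀, hC₀, hfac⟩ := exists_refine C' P hb hmem
  have key : ∀ ⦃Y' : C⦄ ⦃w : Y' ⟶ Y⦄ (_ : R₀ w),
      ∃ (V : C) (r : V ⟶ X) (m : Y' ⟶ V), R r ∧ m ≫ r = w ≫ h := by
    intro Y' w hw
    obtain ⟨Z, q, k, hq, rfl⟩ := hfac hw
    obtain ⟨V, r, hr⟩ := hq
    have := R.hasPullback h hr
    exact ⟨V, r, k ≫ pullback.fst r h, hr, by rw [Category.assoc, Category.assoc, pullback.condition]⟩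
  choose V r m hr hm using key
  refine ⟨R₀, hR₀, hC₀, fun Y' w hw =>
    haveI := (ha (hR' (hr hw)) (m hw) (hC₀ hw)).1
    Presieve.pullbackArrows (m hw) (R' (hr hw)),
    fun Y' w hw => (ha (hR' (hr hw)) (m hw) (hC₀ hw)).2, ?_⟩
  rintro Y' w hw Z g hg
  have := (ha (hR' (hr hw)) (m hw) (hC₀ hw)).1
  obtain ⟨V', r', hr'⟩ := hg
  have := (R' (hr hw)).hasPullback (m hw) hr'
  rw [Sieve.pullback_apply, Category.assoc, ← hm hw, ← pullback.condition_assoc]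
  exact S.downward_closed (hcomp (hr hw) hr') _

omit [P.HasPullbacks] [P.IsStableUnderBaseChange] [P.IsStableUnderComposition] in
include hc in
theorem compCov_trans {X : C} {S R : Sieve X} (hS : CompCov C' P P' X S)
    (H : ∀ ⦃Y : C⦄ ⦃f : Y ⟶ X⦄, S f → CompCov C' P P' Y (R.pullback f)) :
    CompCov C' P P' X R := by
  obtain ⟨R₀, hR₀, hC, R', hR', hcomp⟩ := hS
  have key : ∀ ⦃Y : C⦄ ⦃f : Y ⟶ X⦄ (hf : R₀ f) ⦃Z : C⦄ ⦃g : Z ⟶ Y⦄ (hg : R' hf g),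
      CompCov C' P P' Z (R.pullback (g ≫ f)) := fun Y f hf Z g hg => H (hcomp hf hg)
  unfold CompCov at key
  choose R₂ hR₂ hC₂ R₃ hR₃ hcomp₃ using key
  have key2 : ∀ ⦃Y : C⦄ ⦃f : Y ⟶ X⦄ (hf : R₀ f), ∃ T ∈ P' Y, ∀ ⦃W : C⦄ ⦃q : W ⟶ Y⦄, T q →
        ∃ (Y' Z V : C) (f' : Y' ⟶ Y) (hf' : R' hf f') (g : Z ⟶ Y') (hg : R₂ hf hf' g) (h : V ⟶ Z)
          (_ : R₃ hf hf' hg h) (r : W ⟶ V), r ≫ h ≫ g ≫ f' = q := by
    intro Y f hf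
    exact hc (hR' hf) (fun Z g hg => R₂ hf hg) (fun Z g hg => ⟨hR₂ hf hg, hC₂ hf hg⟩)
      (fun Z g hg Y' k hk => R₃ hf hg hk) (fun Z g hg Y' k hk => hR₃ hf hg hk)
  choose T hT hTfac using key2
  refine ⟨R₀, hR₀, hC, T, hT, ?_⟩
  intro Y f hf W q hq
  obtain ⟨Y', Z, V, f', hf', g, hg, h, hh, r, rfl⟩ := hTfac hf hq
  have := hcomp₃ hf hf' hg hh
  rw [Sieve.pullback_apply] at this
  have := R.downward_closed this r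
  simpa only [Category.assoc] using this

end Groth.Agent.H30
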