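import Mathlib.Algebra.Homology.SpectralObject.Basic
import Mathlib.CategoryTheory.Triangulated.SpectralObject
import Mathlib.CategoryTheory.Triangulated.HomologicalFunctor

/-!
# The abelian spectral object obtained from a triangulated spectral object and a homological functor
-/

set_option autoImplicit false

universe v v' u u' w

open CategoryTheory Limits ComposableArrows Pretriangulated

namespace Groth.Agent.H30.SpSeqMap

variable {T : Type u} [Category.{v} T] [HasZeroObject T] [HasShift T ℤ] [Preadditive T]
  [∀ (n : ℤ), (shiftFunctor T n).Additive] [Pretriangulated T]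
  {ι : Type w} [Category ι]
  {A : Type u'} [Category.{v'} A] [Abelian A]

/-- The spectral object in the abelian category `A` obtained by applying a homological functor
`F : T ⥤ A` to a spectral object in the triangulated category `T`. -/
@[simps H]
noncomputable def mapHomologicalFunctor (X : Triangulated.SpectralObject T ι)
    (F : T ⥤ A) [F.IsHomological] [F.ShiftSequence ℤ] : Abelian.SpectralObject A ι where
  H n := X.ω₁ ⋙ F.shift n
  δ' n₀ n₁ h :=
    { app := fun D => F.homologySequenceδ (X.ω₂.obj D) n₀ n₁ h
      naturality := fun _ _ φ => F.homologySequenceδ_naturality _ _ (X.ω₂.map φ) n₀ n₁ h }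
  exact₁' n₀ n₁ h D :=
    (F.homologySequence_exact₁ _ (X.ω₂_obj_distinguished D) n₀ n₁ h).exact_toComposableArrows
  exact₂' n D :=
    (F.homologySequence_exact₂ _ (X.ω₂_obj_distinguished D) n).exact_toComposableArrows
  exact₃' n₀ n₁ h D :=
    (F.homologySequence_exact₃ _ (X.ω₂_obj_distinguished D) n₀ n₁ h).exact_toComposableArrows

end Groth.Agent.H30.SpSeqMap
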