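import Groth.Prelude.Def_SpSeq
import Mathlib.CategoryTheory.Subobject.Lattice
import Mathlib.CategoryTheory.Abelian.Basic

/-!
# Transport of an abutment along isomorphisms of the abutment objects
-/

set_option autoImplicit false
universe v u
open CategoryTheory Limits

namespace Groth.Agent.H30.SpSeqTransport

section

variable {C : Type u} [Category.{v} C]

variable {X X' : C} (e : X ≅ X')

/-- Transport of a subobject along an isomorphism of the ambient object. -/
noncomputable def tr (Z : Subobject X) : Subobject X' := Subobject.mk (Z.arrow ≫ e.hom)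

lemma tr_mono : Monotone (tr e) := fun B Z h =>
  Subobject.mk_le_mk_of_comm (B.ofLE Z h) (by simp)

lemma tr_top : tr e ⊤ = ⊤ := by
  have : IsIso ((⊤ : Subobject X).arrow ≫ e.hom) := inferInstance
  exact Subobject.mk_eq_top_of_isIso _

lemma tr_bot [HasZeroMorphisms C] [HasZeroObject C] : tr e ⊥ = ⊥ := by
  rw [tr, Subobject.mk_eq_bot_iff_zero, Subobject.bot_arrow, zero_comp]

end

variable {C : Type u} [Category.{v} C] [Abelian C]

section

variable {X X' : C} (e : X ≅ X')

/-- Subquotients are invariant under transport. -/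
noncomputable def subquotTrIso (Z B : Subobject X) (h : B ≤ Z) :
    SpSeq.subquot Z B h ≅ SpSeq.subquot (tr e Z) (tr e B) (tr_mono e h) :=
  cokernel.mapIso _ _ (Subobject.underlyingIso (B.arrow ≫ e.hom)).symm
    (Subobject.underlyingIso (Z.arrow ≫ e.hom)).symm (by
      rw [← cancel_mono (tr e Z).arrow, Category.assoc, Category.assoc, Subobject.ofLE_arrow]
      dsimp only [tr, Iso.symm_hom]
      rw [Subobject.underlyingIso_arrow, Subobject.underlyingIso_arrow,
        Subobject.ofLE_arrow_assoc])

end

variable {r₀ : ℤ} {E : CohomologicalSpectralSequence C r₀} {H H' : ℤ → C}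

/-- Transport of an abutment along isomorphisms `H n ≅ H' n`. -/
noncomputable def transport (a : SpSeq.Abutment E H) (e : ∀ n, H n ≅ H' n) :
    SpSeq.Abutment E H' where
  fil n p := tr (e n) (a.fil n p)
  anti n := fun _ _ h => tr_mono (e n) (a.anti n h)
  rk := a.rk
  stat := a.stat
  β pq := a.β pq ≪≫ subquotTrIso (e _) _ _ _

lemma transport_isFinite (a : SpSeq.Abutment E H) (e : ∀ n, H n ≅ H' n) (n : ℤ)
    (h : a.IsFinite n) : (transport a e).IsFinite n := by
  obtain ⟨⟨p, hp⟩, ⟨q, hq⟩⟩ := h
  refine ⟨⟨p, ?_⟩, ⟨q, ?_⟩⟩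
  · change tr (e n) (a.fil n p) = ⊤
    have : a.fil n p = ⊤ := hp
    rw [this, tr_top]
  · change tr (e n) (a.fil n q) = ⊥
    have : a.fil n q = ⊥ := hq
    rw [this, tr_bot]

end Groth.Agent.H30.SpSeqTransport
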