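import Groth.Agent.H30.SpSeqConv
import Groth.Agent.H30.SpSeqMap
import Groth.Agent.H30.LerayB
import Groth.Agent.H30.SpSeqTransport
import Mathlib.CategoryTheory.Triangulated.TStructure.SpectralObject

/-!
# The hypercohomology spectral sequence and the Grothendieck spectral sequence
-/

set_option autoImplicit false
universe w w' v v' u u'
open CategoryTheory Limits Pretriangulated ZeroObject ComposableArrows

namespace Groth.Agent.H30.GrothSS

open DerivedCategory Hyper Leray

variable {A : Type u} [Category.{v} A] [Abelian A] [HasDerivedCategory.{w} A] [EnoughInjectives A]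
  {B : Type u'} [Category.{v'} B] [Abelian B] [HasDerivedCategory.{w'} B]
  (F : A ⥤ B) [F.Additive]

/-- `RF` preserves `D^{≥ a}` (this is the argument of `Groth.Agent.S6620`). -/
lemma RF_isGE (K : DerivedCategory.Plus A) (a : ℤ) [K.IsGE a] :
    (F.rightDerivedFunctorPlus.obj K).IsGE a := by
  obtain ⟨L, hL, ⟨e⟩⟩ := DerivedCategory.Plus.exists_injective_nonempty_iso K a
  let KL := (HomotopyCategory.Plus.quotient A).obj
    ((InjectiveObject.ι A).mapCochainComplexPlus.obj L)
  have hiso : IsIso (F.rightDerivedFunctorPlusUnit.app KL) := inferInstance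
  have e' : F.rightDerivedFunctorPlus.obj K ≅
      DerivedCategory.Plus.Qh.obj (F.mapHomotopyCategoryPlus.obj KL) :=
    (F.rightDerivedFunctorPlus.mapIso e.symm) ≪≫
      (asIso (F.rightDerivedFunctorPlusUnit.app KL)).symm
  have key : (DerivedCategory.Plus.Qh.obj (F.mapHomotopyCategoryPlus.obj KL)).IsGE a := by
    rw [← DerivedCategory.Plus.isGE_ι_obj_iff]
    let M : CochainComplex B ℤ := (F.mapHomologicalComplex _).obj
      (((InjectiveObject.ι A).mapHomologicalComplex _).obj L.obj)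
    have hM : M.IsStrictlyGE a := inferInstance
    have : M.IsGE a := inferInstance
    have h2 : (DerivedCategory.Q.obj M).IsGE a := by
      rw [DerivedCategory.isGE_Q_obj_iff]
      infer_instance
    exact DerivedCategory.TStructure.t.isGE_of_iso
      ((DerivedCategory.quotientCompQhIso B).symm.app M) a
  exact DerivedCategory.Plus.TStructure.t.isGE_of_iso e'.symm a

lemma isZero_Φ_of_isGE (K : DerivedCategory.Plus A) (a : ℤ) [K.IsGE a] (n : ℤ) (hn : n < a) :
    IsZero (((Φ F).shift n).obj K) := by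
  have := RF_isGE F K a
  exact Plus.isZero_homology_of_isGE (F.rightDerivedFunctorPlus.obj K) a n hn

lemma succ_le_of_lt (n : ℤ) (i : EInt) (hi : (n : EInt) < i) : ((n + 1 : ℤ) : EInt) ≤ i := by
  induction i using WithBotTop.rec with
  | bot => simp at hi
  | coe m =>
    simp only [WithBotTop.coe_lt_coe] at hi
    simp only [WithBotTop.coe_le_coe]
    lia
  | top => exact le_top

/-- The hypercohomology spectral object. -/
noncomputable def specObj (KK : DerivedCategory.Plus A) : Abelian.SpectralObject B EInt :=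
  SpSeqMap.mapHomologicalFunctor (Plus.TStructure.t.spectralObject KK) (Φ F)

lemma specObj_H_obj (KK : DerivedCategory.Plus A) (n : ℤ) (i j : EInt) (hij : i ≤ j) :
    ((specObj F KK).H n).obj (mk₁ (homOfLE hij)) =
      ((Φ F).shift n).obj ((Plus.TStructure.t.eTruncGE.obj i).obj
        ((Plus.TStructure.t.eTruncLT.obj j).obj KK)) := rfl

instance (KK : DerivedCategory.Plus A) [KK.IsGE 0] : (specObj F KK).IsFirstQuadrant where
  isZero₁ i j hij hj n := by
    rw [specObj_H_obj]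
    apply Functor.map_isZero
    apply Functor.map_isZero
    exact Plus.TStructure.t.isZero_eTruncLT_obj_obj KK 0 j hj
  isZero₂ i j hij n hi := by
    rw [specObj_H_obj]
    have : Plus.TStructure.t.IsGE ((Plus.TStructure.t.eTruncGE.obj i).obj
        ((Plus.TStructure.t.eTruncLT.obj j).obj KK)) (n + 1) :=
      Plus.TStructure.t.isGE_eTruncGE_obj_obj (n + 1) i (succ_le_of_lt n i hi) _
    exact isZero_Φ_of_isGE F _ (n + 1) n (by lia)

section Homological

variable {T : Type*} [Category T] [HasZeroObject T] [HasShift T ℤ] [Preadditive T]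
  [∀ (n : ℤ), (shiftFunctor T n).Additive] [Pretriangulated T]
  {D : Type*} [Category D] [Abelian D]
  (G : T ⥤ D) [G.IsHomological] [G.ShiftSequence ℤ]

lemma isIso_shift_map_mor₁ (X : Triangle T) (hX : X ∈ distTriang T) (n₀ n₁ : ℤ) (h : n₀ + 1 = n₁)
    (h₀ : IsZero ((G.shift n₀).obj X.obj₃)) (h₁ : IsZero ((G.shift n₁).obj X.obj₃)) :
    IsIso ((G.shift n₁).map X.mor₁) := by
  have : Mono ((G.shift n₁).map X.mor₁) :=
    (G.homologySequence_mono_shift_map_mor₁_iff X hX n₀ n₁ h).2 (h₀.eq_of_src _ _)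
  have : Epi ((G.shift n₁).map X.mor₁) :=
    (G.homologySequence_epi_shift_map_mor₁_iff X hX n₁).2 (h₁.eq_of_tgt _ _)
  exact isIso_of_mono_of_epi _

lemma isIso_shift_map_mor₂ (X : Triangle T) (hX : X ∈ distTriang T) (n₀ n₁ : ℤ) (h : n₀ + 1 = n₁)
    (h₀ : IsZero ((G.shift n₀).obj X.obj₁)) (h₁ : IsZero ((G.shift n₁).obj X.obj₁)) :
    IsIso ((G.shift n₀).map X.mor₂) := by
  have : Mono ((G.shift n₀).map X.mor₂) :=
    (G.homologySequence_mono_shift_map_mor₂_iff X hX n₀).2 (h₀.eq_of_src _ _)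
  have : Epi ((G.shift n₀).map X.mor₂) :=
    (G.homologySequence_epi_shift_map_mor₂_iff X hX n₀ n₁ h).2 (h₁.eq_of_tgt _ _)
  exact isIso_of_mono_of_epi _

end Homological

section Trunc

variable {A : Type u} [Category.{v} A] [Abelian A] [HasDerivedCategory.{w} A]
  (KK : DerivedCategory.Plus A)

/-- The truncation `τ_{≥ q} τ_{< q+1} KK`. -/
noncomputable def N (q : ℤ) : DerivedCategory.Plus A :=
  (Plus.TStructure.t.eTruncGE.obj (q : EInt)).obj
    ((Plus.TStructure.t.eTruncLT.obj ((q + 1 : ℤ) : EInt)).obj KK)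

instance (q : ℤ) : (N KK q).IsGE q :=
  Plus.TStructure.t.isGE_eTruncGE_obj_obj q q le_rfl _

instance (q : ℤ) : (N KK q).IsLE q := by
  have : Plus.TStructure.t.IsLE
      ((Plus.TStructure.t.eTruncLT.obj ((q + 1 : ℤ) : EInt)).obj KK) q :=
    Plus.TStructure.t.isLE_eTruncLT_obj_obj q _ le_rfl KK
  dsimp only [N]
  infer_instance

lemma isIso_homology_map_mor₁ (q : ℤ) :
    IsIso ((Plus.homologyFunctor A q).map
      ((Plus.TStructure.t.spectralObject KK).triangle
        (homOfLE (bot_le : (⊥ : EInt) ≤ ((q + 1 : ℤ) : EInt)))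
        (homOfLE (le_top : ((q + 1 : ℤ) : EInt) ≤ ⊤))).mor₁) := by
  have hGE : Plus.TStructure.t.IsGE ((Plus.TStructure.t.spectralObject KK).triangle
        (homOfLE (bot_le : (⊥ : EInt) ≤ ((q + 1 : ℤ) : EInt)))
        (homOfLE (le_top : ((q + 1 : ℤ) : EInt) ≤ ⊤))).obj₃ (q + 1) :=
    Plus.TStructure.t.isGE_eTruncGE_obj_obj (q + 1) _ le_rfl _
  exact isIso_shift_map_mor₁ (Plus.homologyFunctor A 0) _
    ((Plus.TStructure.t.spectralObject KK).triangle_distinguished _ _) (q - 1) q (by lia)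
    (Plus.isZero_homology_of_isGE _ (q + 1) _ (by lia))
    (Plus.isZero_homology_of_isGE _ (q + 1) _ (by lia))

lemma isIso_homology_map_mor₂ (q : ℤ) :
    IsIso ((Plus.homologyFunctor A q).map
      ((Plus.TStructure.t.spectralObject KK).triangle
        (homOfLE (bot_le : (⊥ : EInt) ≤ ((q : ℤ) : EInt)))
        (homOfLE (SpSeqConv.coe_le_coe_succ q))).mor₂) := by
  have hLE : Plus.TStructure.t.IsLE ((Plus.TStructure.t.spectralObject KK).triangle
        (homOfLE (bot_le : (⊥ : EInt) ≤ ((q : ℤ) : EInt)))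
        (homOfLE (SpSeqConv.coe_le_coe_succ q))).obj₁ (q - 1) := by
    have : Plus.TStructure.t.IsLE
        ((Plus.TStructure.t.eTruncLT.obj ((q : ℤ) : EInt)).obj KK) (q - 1) :=
      Plus.TStructure.t.isLE_eTruncLT_obj_obj (q - 1) _ (by simp) KK
    exact this
  exact isIso_shift_map_mor₂ (Plus.homologyFunctor A 0) _
    ((Plus.TStructure.t.spectralObject KK).triangle_distinguished _ _) q (q + 1) rfl
    (Plus.isZero_homology_of_isLE _ (q - 1) _ (by lia))
    (Plus.isZero_homology_of_isLE _ (q - 1) _ (by lia))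

/-- `H^q(τ_{≥ q} τ_{< q+1} KK) ≅ H^q(KK)`. -/
noncomputable def homologyNIso (q : ℤ) :
    (Plus.homologyFunctor A q).obj (N KK q) ≅ (Plus.homologyFunctor A q).obj KK :=
  (@asIso _ _ _ _ _ (isIso_homology_map_mor₂ KK q)).symm ≪≫
    @asIso _ _ _ _ _ (isIso_homology_map_mor₁ KK q)

end Trunc

section Heart

variable {A : Type u} [Category.{v} A] [Abelian A] [HasDerivedCategory.{w} A]

lemma exists_iso_Q_sgl (N : DerivedCategory.Plus A) [N.IsGE 0] [N.IsLE 0] :
    ∃ (M : A), Nonempty (N ≅ Plus.Q.obj (sgl M)) ∧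
      Nonempty (M ≅ (Plus.homologyFunctor A 0).obj N) := by
  obtain ⟨M, ⟨e⟩⟩ :=
    DerivedCategory.exists_iso_singleFunctor_obj_of_isGE_of_isLE (Plus.ι.obj N) 0
  refine ⟨M, ⟨Plus.ι.preimageIso (e ≪≫ (singleFunctorIsoCompQ A 0).app M ≪≫
    (PlusTri.ιQIso (sgl M)).symm)⟩, ⟨?_⟩⟩
  exact ((singleFunctorCompHomologyFunctorIso A 0).app M).symm ≪≫
    (homologyFunctor A 0).mapIso e.symm

end Heart

section E2

variable {A : Type u} [Category.{v} A] [Abelian A] [HasDerivedCategory.{w} A] [EnoughInjectives A]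
  {B : Type u'} [Category.{v'} B] [Abelian B] [HasDerivedCategory.{w'} B]
  (F : A ⥤ B) [F.Additive]

/-- For `N` concentrated in degree `q`, `Φ_{p+q}(N) ≅ RᵖF(H^q N)`. -/
lemma nonempty_Φ_iso_of_isGE_of_isLE (N : DerivedCategory.Plus A) (q : ℤ) [N.IsGE q] [N.IsLE q]
    (p : ℕ) (n : ℤ) (hn : q + (p : ℤ) = n) :
    Nonempty (((Φ F).shift n).obj N ≅
      (F.rightDerived p).obj ((Plus.homologyFunctor A q).obj N)) := by
  have : (N⟦q⟧).IsGE 0 := Plus.TStructure.t.isGE_shift N q q 0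
  have : (N⟦q⟧).IsLE 0 := Plus.TStructure.t.isLE_shift N q q 0
  obtain ⟨M, ⟨e⟩, ⟨eM⟩⟩ := exists_iso_Q_sgl (N⟦q⟧)
  exact ⟨(((Φ F).shiftIso q p n hn).app N).symm ≪≫ ((Φ F).shift (p : ℤ)).mapIso e ≪≫
    ΦsglIsoRightDerived F M p p rfl ≪≫ (F.rightDerived p).mapIso (eM ≪≫
      ((Plus.homologyFunctor A 0).shiftIso q 0 q (by simp)).app N)⟩

end E2

section Main

variable {C : Type*} [Category C] [Abelian C] [HasInjectiveResolutions C]
  {C' : Type u} [Category.{v} C'] [Abelian C'] [HasDerivedCategory.{w} C'] [EnoughInjectives C']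
  {C'' : Type u'} [Category.{v'} C''] [Abelian C''] [HasDerivedCategory.{w'} C'']
  (T : C ⥤ C') [T.Additive] (S : C' ⥤ C'') [S.Additive] [PreservesFiniteLimits S]
  (hT : ∀ Q : C, Injective Q → ∀ q : ℕ, 0 < q → IsZero ((S.rightDerived q).obj (T.obj Q)))
  (X : C)

/-- The complex `T(I•)` as a bounded below complex. -/
noncomputable def TI (I : InjectiveResolution X) : CochainComplex.Plus C' :=
  ⟨(T.mapHomologicalComplex (ComplexShape.up ℤ)).obj I.cochainComplex, 0, inferInstance⟩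

instance (I : InjectiveResolution X) : (Plus.Q.obj (TI T X I)).IsGE 0 := by
  rw [← Plus.isGE_ι_obj_iff]
  change (DerivedCategory.Q.obj (TI T X I).obj).IsGE 0
  have : (TI T X I).obj.IsStrictlyGE 0 := by dsimp only [TI]; infer_instance
  infer_instance

omit [HasInjectiveResolutions C] [HasDerivedCategory C'] [HasDerivedCategory C'']
  [PreservesFiniteLimits S] in
include hT in
lemma TI_acyclic (I : InjectiveResolution X) (n : ℤ) : acyclic S ((TI T X I).obj.X n) :=
  fun q hq => hT (I.cochainComplex.X n) inferInstance q hq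

/-- `S(T(I•)) ≅ (T ⋙ S)(I•)`. -/
noncomputable def mapCompIso (I : InjectiveResolution X) :
    (S.mapHomologicalComplex (ComplexShape.up ℤ)).obj (TI T X I).obj ≅
      ((T ⋙ S).mapHomologicalComplex (ComplexShape.up ℤ)).obj I.cochainComplex :=
  Iso.refl _

include hT in
lemma nonempty_abutIso (I : InjectiveResolution X) (n : ℕ) (m : ℤ) (h : (n : ℤ) = m) :
    Nonempty (((Φ S).shift m).obj (Plus.Q.obj (TI T X I)) ≅ ((T ⋙ S).rightDerived n).obj X) :=
  ⟨ΦQIsoOfAcyclic S (TI T X I) (TI_acyclic T S hT X I) m ≪≫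
    (HomologicalComplex.homologyFunctor C'' _ m).mapIso (mapCompIso T S X I) ≪≫
    ExtendMap.rightDerivedIso (T ⋙ S) I n m h⟩

omit [HasInjectiveResolutions C] [PreservesFiniteLimits S] in
lemma isZero_abut_of_neg (I : InjectiveResolution X) (m : ℤ) (h : m < 0) :
    IsZero (((Φ S).shift m).obj (Plus.Q.obj (TI T X I))) :=
  isZero_Φ_of_isGE S _ 0 m h

omit [PreservesFiniteLimits S] in
lemma nonempty_E₂Iso (I : InjectiveResolution X) (p q : ℕ) (n : ℤ) (h : (q : ℤ) + (p : ℤ) = n) :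
    Nonempty (((Φ S).shift n).obj (N (Plus.Q.obj (TI T X I)) q) ≅
      (S.rightDerived p).obj ((T.rightDerived q).obj X)) := by
  obtain ⟨e⟩ := nonempty_Φ_iso_of_isGE_of_isLE S (N (Plus.Q.obj (TI T X I)) q) q p n h
  exact ⟨e ≪≫ (S.rightDerived p).mapIso (homologyNIso _ q ≪≫ homologyQIso (TI T X I) q ≪≫
    ExtendMap.rightDerivedIso T I q q rfl)⟩

include hT in
/-- **The Grothendieck spectral sequence** `E₂^{p,q} = RᵖS(R^qT(X)) ⟹ R^{p+q}(T ⋙ S)(X)`. -/
theorem grothendieck_spectralSequence :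
    ∃ (E : E₂CohomologicalSpectralSequence C'')
      (a : SpSeq.Abutment E
        (fun n : ℤ => if 0 ≤ n then ((T ⋙ S).rightDerived n.toNat).obj X else 0)),
      (∀ n, a.IsFinite n) ∧ SpSeq.IsBounded E ∧
      ∀ p q : ℤ, Nonempty ((E.page 2 le_rfl).X (p, q) ≅
        (if 0 ≤ p ∧ 0 ≤ q then (S.rightDerived p.toNat).obj ((T.rightDerived q.toNat).obj X)
          else 0)) := by
  let I := injectiveResolution X
  let KK := Plus.Q.obj (TI T X I)
  let Y := specObj S KK
  have e : ∀ n : ℤ, SpSeqConv.abut Y n ≅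
      (if 0 ≤ n then ((T ⋙ S).rightDerived n.toNat).obj X else 0) := fun n =>
    if h : 0 ≤ n then
      (nonempty_abutIso T S hT X I n.toNat n (Int.toNat_of_nonneg h)).some ≪≫
        eqToIso (if_pos h).symm
    else
      (isZero_abut_of_neg T S X I n (by lia)).iso (isZero_zero _) ≪≫ eqToIso (if_neg h).symm
  refine ⟨Y.E₂SpectralSequence, SpSeqTransport.transport (SpSeqConv.abutment Y) e,
    fun n => SpSeqTransport.transport_isFinite _ _ n (SpSeqConv.abutment_isFinite Y n),
    SpSeqConv.isBounded Y, fun p q => ?_⟩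
  by_cases h : 0 ≤ p ∧ 0 ≤ q
  · rw [if_pos h]
    obtain ⟨hp, hq⟩ := h
    obtain ⟨e₂⟩ := nonempty_E₂Iso T S X I p.toNat q.toNat (p + q) (by lia)
    refine ⟨SpSeqConv.pageTwoIso Y p q ≪≫ ?_ ≪≫ e₂⟩
    have hq' : ((q.toNat : ℕ) : ℤ) = q := Int.toNat_of_nonneg hq
    rw [hq']
    exact Iso.refl _
  · rw [if_neg h]
    rw [not_and_or, not_le, not_le] at h
    rcases h with h | h
    · exact ⟨(SpSeqConv.isZero_page_of_fst_neg Y 2 le_rfl (p, q) h).iso (isZero_zero _)⟩
    · exact ⟨(SpSeqConv.isZero_page_of_snd_neg Y 2 le_rfl (p, q) h).iso (isZero_zero _)⟩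

end Main

end Groth.Agent.H30.GrothSS
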