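import Mathlib
import Groth.Agent.H16.CohPush

/-!
# Homology of a short complex of presheaves of abelian groups via a class map
-/

set_option autoImplicit false
universe u w
open CategoryTheory CategoryTheory.Limits Opposite

namespace Groth.Agent.H30.PreHomology

variable {D : Type u} [Category.{w} D] (T : ShortComplex (D ⥤ AddCommGrpCat.{w}))

lemma exists_cycle (X : D) (x : T.X₂.obj X) (hx : (T.g.app X).hom x = 0) :
    ∃ z : T.cycles.obj X, (T.iCycles.app X).hom z = x := by
  let S' : ShortComplex (D ⥤ AddCommGrpCat.{w}) :=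
    ShortComplex.mk T.iCycles T.g T.iCycles_g
  have hS' : S'.Exact := ShortComplex.exact_of_f_is_kernel _ T.cyclesIsKernel
  have h2 : (S'.map ((evaluation D AddCommGrpCat.{w}).obj X)).Exact :=
    hS'.map_of_mono_of_preservesKernel _ (inferInstanceAs (Mono T.iCycles)) inferInstance
  exact (ShortComplex.ab_exact_iff _).1 h2 x hx

lemma iCycles_app_injective (X : D) : Function.Injective (T.iCycles.app X).hom := by
  have : Mono (T.iCycles.app X) := inferInstance
  exact (AddCommGrpCat.mono_iff_injective _).1 inferInstance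

lemma g_iCycles_app (X : D) (z : T.cycles.obj X) :
    (T.g.app X).hom ((T.iCycles.app X).hom z) = 0 := by
  have h := congrArg (fun φ => (φ.app X).hom z) T.iCycles_g
  exact h

lemma iCycles_toCycles_app (X : D) (y : T.X₁.obj X) :
    (T.iCycles.app X).hom ((T.toCycles.app X).hom y) = (T.f.app X).hom y := by
  have h := congrArg (fun φ => (φ.app X).hom y) T.toCycles_i
  exact h

lemma g_map (X Y : D) (f : X ⟶ Y) (x : T.X₂.obj X) (hx : (T.g.app X).hom x = 0) :
    (T.g.app Y).hom ((T.X₂.map f).hom x) = 0 := by
  have h := ConcreteCategory.congr_hom (T.g.naturality f) x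
  refine h.trans ?_
  change (T.X₃.map f).hom ((T.g.app X).hom x) = 0
  rw [hx, map_zero]

variable (P : D ⥤ AddCommGrpCat.{w})
  (c : ∀ X : D, (T.g.app X).hom.ker →+ P.obj X)
  (hsurj : ∀ X, Function.Surjective (c X))
  (hker : ∀ X (x : (T.g.app X).hom.ker), c X x = 0 ↔ ∃ y, (T.f.app X).hom y = x.1)
  (hnat : ∀ {X Y : D} (f : X ⟶ Y) (x : (T.g.app X).hom.ker),
    (P.map f).hom (c X x) = c Y ⟨(T.X₂.map f).hom x.1, g_map T X Y f x.1 x.2⟩)

/-- cycles as elements of the kernel. -/
noncomputable def toKer (X : D) : T.cycles.obj X →+ (T.g.app X).hom.ker where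
  toFun z := ⟨(T.iCycles.app X).hom z, g_iCycles_app T X z⟩
  map_zero' := Subtype.ext (map_zero _)
  map_add' z z' := Subtype.ext (map_add _ z z')

lemma toKer_surjective (X : D) : Function.Surjective (toKer T X) := by
  rintro ⟨x, hx⟩
  obtain ⟨z, hz⟩ := exists_cycle T X x hx
  exact ⟨z, Subtype.ext hz⟩

include hnat in
/-- the class map. -/
noncomputable def pi : T.cycles ⟶ P where
  app X := AddCommGrpCat.ofHom ((c X).comp (toKer T X))
  naturality X Y f := by
    ext z
    change c Y (toKer T Y ((T.cycles.map f).hom z)) = (P.map f).hom (c X (toKer T X z))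
    rw [hnat f]
    congr 1
    apply Subtype.ext
    have h := congrArg (fun φ => φ.hom z) (T.iCycles.naturality f)
    exact h

include hker in
lemma toCycles_pi : T.toCycles ≫ pi T P c hnat = 0 := by
  ext X y
  change c X (toKer T X ((T.toCycles.app X).hom y)) = 0
  rw [hker]
  exact ⟨y, (iCycles_toCycles_app T X y).symm⟩

include hsurj in
lemma epi_pi : Epi (pi T P c hnat) := by
  rw [NatTrans.epi_iff_epi_app]
  intro X
  rw [AddCommGrpCat.epi_iff_surjective]
  exact (hsurj X).comp (toKer_surjective T X)

lemma exact_pi : (ShortComplex.mk _ _ (toCycles_pi T P c hker hnat)).Exact := by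
  apply H16.CohPresheaf.exact_of_app_exact
  intro X
  rw [ShortComplex.ab_exact_iff]
  intro z hz
  have hz' : c X (toKer T X z) = 0 := hz
  obtain ⟨y, hy⟩ := (hker X _).1 hz'
  refine ⟨y, ?_⟩
  apply iCycles_app_injective T X
  exact (iCycles_toCycles_app T X y).trans hy

/-- left homology data with `H = P`. -/
noncomputable def lhd : T.LeftHomologyData where
  K := T.cycles
  H := P
  i := T.iCycles
  π := pi T P c hnat
  wi := T.iCycles_g
  hi := T.cyclesIsKernel
  wπ := toCycles_pi T P c hker hnat
  hπ := by
    have := epi_pi T P c hsurj hnat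
    exact (exact_pi T P c hker hnat).gIsCokernel

/-- the homology is `P`. -/
noncomputable def homologyIso : T.homology ≅ P := (lhd T P c hsurj hker hnat).homologyIso

end Groth.Agent.H30.PreHomology
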