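import Groth.Prelude.Def_CohCx
import Groth.Prelude.Def_FreeSh
import Groth.Agent.H33.KInj.Main
import Groth.Agent.H30.KInjCls
import Groth.Agent.H30.PreHomology
import Groth.Agent.H16.CohPush

/-!
# The cohomology sheaf `ℋ^q(K)` is the sheafification of `U ↦ H^q(U, K)`
-/

set_option autoImplicit false
universe u
open CategoryTheory CategoryTheory.Limits Opposite DerivedCategory

namespace Groth.Agent.H30.HDSheafify

variable {C : Type u} [SmallCategory C] {J : GrothendieckTopology C}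
  [HasDerivedCategory.{u} (Sheaf J AddCommGrpCat.{u})]

section
variable (I : CochainComplex (Sheaf J AddCommGrpCat.{u}) ℤ) (q : ℤ)

/-- the short complex of presheaves -/
noncomputable abbrev T : ShortComplex (Cᵒᵖ ⥤ AddCommGrpCat.{u}) :=
  (I.sc q).map (sheafToPresheaf J AddCommGrpCat.{u})

lemma evalGen_comp {F G : Sheaf J AddCommGrpCat.{u}} (U : C) (φ : CohCx.freeSheaf J U ⟶ F)
    (g : F ⟶ G) :
    CohFree.evalGen J U G (φ ≫ g) = (g.hom.app (op U)).hom (CohFree.evalGen J U F φ) := rfl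

lemma ofSect_zero (F : Sheaf J AddCommGrpCat.{u}) (U : C) : CohFree.ofSect J U F 0 = 0 :=
  map_zero (CohFree.homEquivSect J U F).symm

lemma ofSect_add (F : Sheaf J AddCommGrpCat.{u}) (U : C) (s t : F.obj.obj (op U)) :
    CohFree.ofSect J U F (s + t) = CohFree.ofSect J U F s + CohFree.ofSect J U F t :=
  map_add (CohFree.homEquivSect J U F).symm s t

lemma ofSect_comp {F G : Sheaf J AddCommGrpCat.{u}} (U : C) (s : F.obj.obj (op U)) (g : F ⟶ G) :
    CohFree.ofSect J U F s ≫ g = CohFree.ofSect J U G ((g.hom.app (op U)).hom s) := by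
  apply (CohFree.homEquivSect J U G).injective
  rw [CohFree.homEquivSect_apply, CohFree.homEquivSect_apply, evalGen_comp,
    CohFree.evalGen_ofSect, CohFree.evalGen_ofSect]

lemma ofSect_res (F : Sheaf J AddCommGrpCat.{u}) {U V : C} (f : V ⟶ U) (s : F.obj.obj (op U)) :
    CohFree.ofSect J V F ((F.obj.map f.op).hom s) =
      CohCx.freeSheafMap J f ≫ CohFree.ofSect J U F s := by
  apply (CohFree.homEquivSect J V F).injective
  rw [CohFree.homEquivSect_apply, CohFree.homEquivSect_apply, CohFree.evalGen_freeSheafMap_comp,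
    CohFree.evalGen_ofSect, CohFree.evalGen_ofSect]

lemma next_eq : q + 1 = (ComplexShape.up ℤ).next q := (CochainComplex.next ℤ q).symm
lemma prev_eq : (ComplexShape.up ℤ).prev q + 1 = q := by simp

/-- the section underlying an element of the kernel. -/
noncomputable def sec (X : Cᵒᵖ) : ((T I q).g.app X).hom.ker →+ (I.X q).obj.obj (op X.unop) where
  toFun x := x.1
  map_zero' := rfl
  map_add' _ _ := rfl

lemma d_sec (X : Cᵒᵖ) (x : ((T I q).g.app X).hom.ker) :
    ((I.d q ((ComplexShape.up ℤ).next q)).hom.app (op X.unop)).hom (sec I q X x) = 0 := x.2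

/-- the morphism `ℤ_U ⟶ I^q` attached to an element of the kernel. -/
noncomputable def homOf (X : Cᵒᵖ) (x : ((T I q).g.app X).hom.ker) :
    CohCx.freeSheaf J X.unop ⟶ I.X q :=
  CohFree.ofSect J X.unop (I.X q) (sec I q X x)

lemma homOf_comp_d (X : Cᵒᵖ) (x : ((T I q).g.app X).hom.ker) :
    homOf I q X x ≫ I.d q ((ComplexShape.up ℤ).next q) = 0 := by
  dsimp only [homOf]
  rw [ofSect_comp, d_sec, ofSect_zero]

/-- the value of `HDUPresheaf (Q.obj I) q`. -/
abbrev HDUobj (X : Cᵒᵖ) : Type u :=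
  Q.obj ((CochainComplex.singleFunctor (Sheaf J AddCommGrpCat.{u}) 0).obj
    (CohCx.freeSheaf J X.unop)) ⟶ (Q.obj I)⟦q⟧

/-- the class map, as a function. -/
noncomputable def cFun (X : Cᵒᵖ) (x : ((T I q).g.app X).hom.ker) : HDUobj I q X :=
  KInjCls.cls _ (next_eq q) (homOf I q X x) (homOf_comp_d I q X x)

lemma cFun_zero (X : Cᵒᵖ) : cFun I q X 0 = 0 := by
  have h0 : homOf I q X 0 = 0 := by
    dsimp only [homOf]
    rw [map_zero, ofSect_zero]
  exact (KInjCls.cls_congr _ (next_eq q) h0 _ (by rw [zero_comp])).trans (KInjCls.cls_zero _ (next_eq q))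

lemma sec_add (X : Cᵒᵖ) (x y : ((T I q).g.app X).hom.ker) :
    sec I q X (x + y) = sec I q X x + sec I q X y := rfl

lemma homOf_add (X : Cᵒᵖ) (x y : ((T I q).g.app X).hom.ker) :
    homOf I q X (x + y) = homOf I q X x + homOf I q X y :=
  (congrArg (CohFree.ofSect J X.unop (I.X q)) (sec_add I q X x y)).trans (ofSect_add _ _ _ _)

lemma cFun_add (X : Cᵒᵖ) (x y : ((T I q).g.app X).hom.ker) :
    cFun I q X (x + y) = cFun I q X x + cFun I q X y := by
  refine (KInjCls.cls_congr _ (next_eq q) (homOf_add I q X x y) _ (by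
    rw [CategoryTheory.Preadditive.add_comp, homOf_comp_d, homOf_comp_d, add_zero])).trans ?_
  exact KInjCls.cls_add _ (next_eq q) _ _ (homOf_comp_d I q X x) (homOf_comp_d I q X y)

/-- the class map. -/
noncomputable def c (X : Cᵒᵖ) : ((T I q).g.app X).hom.ker →+ HDUobj I q X where
  toFun := cFun I q X
  map_zero' := cFun_zero I q X
  map_add' := cFun_add I q X

lemma c_apply (X : Cᵒᵖ) (x : ((T I q).g.app X).hom.ker) :
    c I q X x = cFun I q X x := rfl

lemma evalGen_homOf (X : Cᵒᵖ) (x : ((T I q).g.app X).hom.ker) :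
    CohFree.evalGen J X.unop (I.X q) (homOf I q X x) = sec I q X x :=
  CohFree.evalGen_ofSect _ _ _ _

lemma c_surjective [I.IsKInjective] (X : Cᵒᵖ) : Function.Surjective (c I q X) := by
  intro α
  obtain ⟨φ, hφ, rfl⟩ := KInjCls.cls_surjective _ (next_eq q) α
  have hx : ((I.d q ((ComplexShape.up ℤ).next q)).hom.app (op X.unop)).hom
      (CohFree.evalGen J X.unop (I.X q) φ) = 0 := by
    refine (evalGen_comp X.unop φ _).symm.trans ?_
    rw [hφ]
    exact map_zero _
  refine ⟨⟨CohFree.evalGen J X.unop (I.X q) φ, hx⟩, ?_⟩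
  rw [c_apply]
  exact KInjCls.cls_congr _ (next_eq q) (CohFree.ofSect_evalGen J X.unop (I.X q) φ) _ _

lemma c_eq_zero_iff [I.IsKInjective] (X : Cᵒᵖ) (x : ((T I q).g.app X).hom.ker) :
    c I q X x = 0 ↔ ∃ y, ((T I q).f.app X).hom y = x.1 := by
  rw [c_apply]
  dsimp only [cFun]
  rw [KInjCls.cls_eq_zero_iff _ (next_eq q) _ _ _ (prev_eq q)]
  constructor
  · rintro ⟨g, hg⟩
    refine ⟨CohFree.evalGen J X.unop _ g, ?_⟩
    refine (evalGen_comp X.unop g (I.d ((ComplexShape.up ℤ).prev q) q)).symm.trans ?_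
    exact (congrArg (CohFree.evalGen J X.unop (I.X q)) hg).trans (evalGen_homOf I q X x)
  · rintro ⟨y, hy⟩
    let y' : (I.X ((ComplexShape.up ℤ).prev q)).obj.obj (op X.unop) := y
    refine ⟨CohFree.ofSect J X.unop _ y', ?_⟩
    refine (ofSect_comp X.unop y' (I.d ((ComplexShape.up ℤ).prev q) q)).trans ?_
    exact congrArg (CohFree.ofSect J X.unop (I.X q)) hy

lemma homOf_res {X Y : Cᵒᵖ} (f : X ⟶ Y) (x : ((T I q).g.app X).hom.ker) :
    homOf I q Y ⟨((T I q).X₂.map f).hom x.1, PreHomology.g_map (T I q) X Y f x.1 x.2⟩ =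
      CohCx.freeSheafMap J f.unop ≫ homOf I q X x :=
  ofSect_res (I.X q) f.unop (sec I q X x)

lemma c_nat {X Y : Cᵒᵖ} (f : X ⟶ Y) (x : ((T I q).g.app X).hom.ker) :
    ((CohCx.HDUPresheaf (Q.obj I) q).map f).hom (c I q X x) =
      c I q Y ⟨((T I q).X₂.map f).hom x.1, PreHomology.g_map (T I q) X Y f x.1 x.2⟩ := by
  rw [c_apply, c_apply]
  dsimp only [cFun]
  refine Eq.trans ?_ (KInjCls.cls_congr _ (next_eq q) (homOf_res I q f x) _ (by
    rw [Category.assoc, homOf_comp_d, comp_zero])).symm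
  exact (KInjCls.cls_precomp _ (next_eq q) (CohCx.freeSheafMap J f.unop) (homOf I q X x)
    (homOf_comp_d I q X x)).symm

/-- presheaf homology of the underlying complex of presheaves is `U ↦ H^q(U, I)`. -/
noncomputable def preHomologyIso [I.IsKInjective] :
    (T I q).homology ≅ CohCx.HDUPresheaf (Q.obj I) q :=
  PreHomology.homologyIso (T I q) (CohCx.HDUPresheaf (Q.obj I) q) (c I q)
    (c_surjective I q) (c_eq_zero_iff I q) (fun f x => c_nat I q f x)

/-- the sheafification of `U ↦ H^q(U, I)` is the homology sheaf of `I`. -/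
noncomputable def sheafifyIso [I.IsKInjective] :
    (presheafToSheaf J AddCommGrpCat.{u}).obj (CohCx.HDUPresheaf (Q.obj I) q) ≅ I.homology q :=
  (presheafToSheaf J AddCommGrpCat.{u}).mapIso (preHomologyIso I q).symm ≪≫
    (H16.CohPush.homologySheafify J (I.sc q)).symm

end

/-- The sheafification of `U ↦ H^q(U, K)` is the cohomology sheaf `ℋ^q(K)`. -/
theorem nonempty_sheafify_HDUPresheaf_iso (K : DerivedCategory (Sheaf J AddCommGrpCat.{u}))
    (q : ℤ) :
    Nonempty ((presheafToSheaf J AddCommGrpCat.{u}).obj (CohCx.HDUPresheaf K q) ≅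
      CohCx.HD K q) := by
  obtain ⟨I, f, hI, hf, -, -⟩ := H33.KInj.exists_kInjective_resolution (Q.objPreimage K)
  have : IsIso (Q.map f) := (DerivedCategory.isIso_Q_map_iff_quasiIso (C := Sheaf J AddCommGrpCat.{u}) f).2 hf
  let e : K ≅ Q.obj I := (Q.objObjPreimageIso K).symm ≪≫ asIso (Q.map f)
  let e1 : CohCx.HDUPresheaf K q ≅ CohCx.HDUPresheaf (Q.obj I) q :=
    Functor.isoWhiskerLeft _ (preadditiveYoneda.mapIso
      ((shiftFunctor (DerivedCategory (Sheaf J AddCommGrpCat.{u})) q).mapIso e))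
  let e2 : CohCx.HD K q ≅ I.homology q :=
    (DerivedCategory.homologyFunctor (Sheaf J AddCommGrpCat.{u}) q).mapIso e ≪≫
      (DerivedCategory.homologyFunctorFactors (Sheaf J AddCommGrpCat.{u}) q).app I
  exact ⟨(presheafToSheaf J AddCommGrpCat.{u}).mapIso e1 ≪≫ sheafifyIso I q ≪≫ e2.symm⟩

end Groth.Agent.H30.HDSheafify
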