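import Mathlib.Algebra.Homology.DerivedCategory.Plus
import Mathlib.Algebra.Homology.DerivedCategory.ShortExact

/-!
# Distinguished triangles in `D⁺` attached to short exact sequences of bounded below complexes
-/

set_option autoImplicit false
universe w v u
open CategoryTheory Limits Pretriangulated

namespace Groth.Agent.H30.PlusTri

variable {A : Type u} [Category.{v} A] [Abelian A] [HasDerivedCategory.{w} A]

open DerivedCategory

/-- `ι (Q K) ≅ Q K` (a definitional equality). -/
noncomputable def ιQIso (K : CochainComplex.Plus A) :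
    Plus.ι.obj (Plus.Q.obj K) ≅ Q.obj K.obj := Iso.refl _

lemma ιQIso_hom_naturality {K L : CochainComplex.Plus A} (f : K ⟶ L) :
    Plus.ι.map (Plus.Q.map f) ≫ (ιQIso L).hom = (ιQIso K).hom ≫ Q.map f.hom :=
  (Category.comp_id _).trans (Category.id_comp _).symm

variable {K₁ K₂ K₃ : CochainComplex.Plus A} (f : K₁ ⟶ K₂) (g : K₂ ⟶ K₃)
  (w : f.hom ≫ g.hom = 0) (hS : (ShortComplex.mk f.hom g.hom w).ShortExact)

/-- The connecting morphism in `D⁺` of a short exact sequence of bounded below complexes. -/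
noncomputable def δ : Plus.Q.obj K₃ ⟶ (Plus.Q.obj K₁)⟦(1:ℤ)⟧ :=
  Plus.ι.preimage
    ((ιQIso K₃).hom ≫ triangleOfSESδ hS ≫ ((ιQIso K₁).inv)⟦(1:ℤ)⟧' ≫
      (Plus.ι.commShiftIso (1:ℤ)).inv.app (Plus.Q.obj K₁))

/-- The triangle in `D⁺` of a short exact sequence of bounded below complexes. -/
noncomputable def triangle : Triangle (DerivedCategory.Plus A) :=
  Triangle.mk (Plus.Q.map f) (Plus.Q.map g) (δ f g w hS)

lemma triangle_distinguished : triangle f g w hS ∈ distTriang _ := by
  refine isomorphic_distinguished _ (triangleOfSES_distinguished hS) _ ?_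
  refine Triangle.isoMk _ _ (ιQIso K₁) (ιQIso K₂) (ιQIso K₃) ?_ ?_ ?_
  · exact ιQIso_hom_naturality f
  · exact ιQIso_hom_naturality g
  · change (Plus.ι.map (δ f g w hS) ≫ (Plus.ι.commShiftIso (1:ℤ)).hom.app _) ≫
      ((ιQIso K₁).hom)⟦(1:ℤ)⟧' = (ιQIso K₃).hom ≫ triangleOfSESδ hS
    rw [δ, Functor.map_preimage]
    simp only [Category.assoc, Iso.inv_hom_id_app_assoc]
    rw [← Functor.map_comp, Iso.inv_hom_id, CategoryTheory.Functor.map_id, Category.comp_id]

end Groth.Agent.H30.PlusTri
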