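import Groth.Agent.H30.HyperCoh
import Groth.Agent.H30.PlusTri
import Groth.Agent.H30.ExtendMap
import Groth.Agent.H33.RAcyc
import Mathlib.Algebra.Homology.DerivedCategory.DerivabilityStructureInjectives

/-!
# Towards Leray's acyclicity lemma: hypercohomology of single objects, the long exact sequence
-/

set_option autoImplicit false
universe w w' v v' u u'
open CategoryTheory Limits Pretriangulated

namespace Groth.Agent.H30.Leray

open DerivedCategory Hyper

section
variable {A : Type u} [Category.{v} A] [Abelian A]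

/-- The single complex (in degree `0`) as an object of `CochainComplex.Plus`. -/
noncomputable def sgl (X : A) : CochainComplex.Plus A :=
  ⟨(CochainComplex.singleFunctor A 0).obj X, 0, inferInstance⟩

/-- Functoriality of `sgl`. -/
noncomputable def sglMap {X Y : A} (f : X ⟶ Y) : sgl X ⟶ sgl Y :=
  ObjectProperty.homMk ((CochainComplex.singleFunctor A 0).map f)

/-- An injective resolution as an object of `CochainComplex.Plus`. -/
noncomputable def res {X : A} (I : InjectiveResolution X) : CochainComplex.Plus A :=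
  ⟨I.cochainComplex, 0, inferInstance⟩

/-- The augmentation `sgl X ⟶ res I`. -/
noncomputable def resι {X : A} (I : InjectiveResolution X) : sgl X ⟶ res I :=
  ObjectProperty.homMk I.ι'

instance {X : A} (I : InjectiveResolution X) : QuasiIso (resι I).hom :=
  inferInstanceAs (QuasiIso I.ι')

instance {X : A} (I : InjectiveResolution X) (n : ℤ) : Injective ((res I).obj.X n) :=
  inferInstanceAs (Injective (I.cochainComplex.X n))

lemma sgl_shortExact {S : ShortComplex A} (hS : S.ShortExact) :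
    (ShortComplex.mk (sglMap S.f).hom (sglMap S.g).hom (by
      change (CochainComplex.singleFunctor A 0).map S.f ≫
        (CochainComplex.singleFunctor A 0).map S.g = 0
      rw [← Functor.map_comp, S.zero, Functor.map_zero])).ShortExact :=
  hS.map_of_exact (HomologicalComplex.single A (ComplexShape.up ℤ) 0)

end

section
variable {A : Type u} [Category.{v} A] [Abelian A] [HasDerivedCategory.{w} A]

lemma isIso_Q_map_iff {K L : CochainComplex.Plus A} (f : K ⟶ L) :
    IsIso (Plus.Q.map f) ↔ QuasiIso f.hom := by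
  rw [← isIso_iff_of_reflects_iso _ Plus.ι]
  exact DerivedCategory.isIso_Q_map_iff_quasiIso _ f.hom

instance {X : A} (I : InjectiveResolution X) : IsIso (Plus.Q.map (resι I)) :=
  (isIso_Q_map_iff _).2 inferInstance

end

variable {A : Type u} [Category.{v} A] [Abelian A] [HasDerivedCategory.{w} A] [EnoughInjectives A]
  {B : Type u'} [Category.{v'} B] [Abelian B] [HasDerivedCategory.{w'} B]
  (F : A ⥤ B) [F.Additive]

/-- `Φ_n(Q sgl X) ≅ H^n(F I•)`. -/
noncomputable def ΦsglIso {X : A} (I : InjectiveResolution X) (n : ℤ) :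
    ((Φ F).shift n).obj (Plus.Q.obj (sgl X)) ≅
      ((F.mapHomologicalComplex (ComplexShape.up ℤ)).obj I.cochainComplex).homology n :=
  ((Φ F).shift n).mapIso (asIso (Plus.Q.map (resι I))) ≪≫ ΦQIsoOfInjective F (res I) n

/-- `Φ_n(Q sgl X) ≅ RⁿF(X)`. -/
noncomputable def ΦsglIsoRightDerived (X : A) (n : ℕ) (m : ℤ) (h : (n : ℤ) = m) :
    ((Φ F).shift m).obj (Plus.Q.obj (sgl X)) ≅ (F.rightDerived n).obj X :=
  ΦsglIso F (injectiveResolution X) m ≪≫ ExtendMap.rightDerivedIso F _ n m h

lemma isZero_Φ_sgl_of_neg (X : A) (m : ℤ) (h : m < 0) :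
    IsZero (((Φ F).shift m).obj (Plus.Q.obj (sgl X))) := by
  refine IsZero.of_iso ?_ (ΦsglIso F (injectiveResolution X) m)
  rw [← HomologicalComplex.exactAt_iff_isZero_homology]
  exact ExtendMap.exactAt_map_cochainComplex_of_neg F _ m h

section LES

variable {S : ShortComplex A} (hS : S.ShortExact)

/-- The distinguished triangle in `D⁺(A)` attached to a short exact sequence in `A`. -/
noncomputable def sglTriangle : Triangle (DerivedCategory.Plus A) :=
  PlusTri.triangle (sglMap S.f) (sglMap S.g) _ (sgl_shortExact hS)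

omit [EnoughInjectives A] in
lemma sglTriangle_distinguished : sglTriangle hS ∈ distTriang _ :=
  PlusTri.triangle_distinguished _ _ _ _

lemma Φ_exact₃ (n₀ n₁ : ℤ) (h : n₀ + 1 = n₁) :
    (ShortComplex.mk (((Φ F).shift n₀).map (Plus.Q.map (sglMap S.g)))
      ((Φ F).homologySequenceδ (sglTriangle hS) n₀ n₁ h)
      ((Φ F).comp_homologySequenceδ _ (sglTriangle_distinguished hS) _ _ h)).Exact :=
  (Φ F).homologySequence_exact₃ _ (sglTriangle_distinguished hS) n₀ n₁ h

lemma Φ_exact₁ (n₀ n₁ : ℤ) (h : n₀ + 1 = n₁) :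
    (ShortComplex.mk ((Φ F).homologySequenceδ (sglTriangle hS) n₀ n₁ h)
      (((Φ F).shift n₁).map (Plus.Q.map (sglMap S.f)))
      ((Φ F).homologySequenceδ_comp _ (sglTriangle_distinguished hS) _ _ h)).Exact :=
  (Φ F).homologySequence_exact₁ _ (sglTriangle_distinguished hS) n₀ n₁ h

lemma Φ_exact₂ (n : ℤ) :
    (ShortComplex.mk (((Φ F).shift n).map (Plus.Q.map (sglMap S.f)))
      (((Φ F).shift n).map (Plus.Q.map (sglMap S.g)))
      ((Φ F).homologySequence_comp _ (sglTriangle_distinguished hS) n)).Exact :=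
  (Φ F).homologySequence_exact₂ _ (sglTriangle_distinguished hS) n

include hS in
lemma isZero_Φ_sgl_X₂ (n : ℤ)
    (h₁ : IsZero (((Φ F).shift n).obj (Plus.Q.obj (sgl S.X₁))))
    (h₃ : IsZero (((Φ F).shift n).obj (Plus.Q.obj (sgl S.X₃)))) :
    IsZero (((Φ F).shift n).obj (Plus.Q.obj (sgl S.X₂))) :=
  (Φ_exact₂ F hS n).isZero_of_both_zeros (h₁.eq_of_src _ _) (h₃.eq_of_tgt _ _)

include hS in
lemma isZero_Φ_sgl_X₃ (n₀ n₁ : ℤ) (h : n₀ + 1 = n₁)
    (h₂ : IsZero (((Φ F).shift n₀).obj (Plus.Q.obj (sgl S.X₂))))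
    (h₁ : IsZero (((Φ F).shift n₁).obj (Plus.Q.obj (sgl S.X₁)))) :
    IsZero (((Φ F).shift n₀).obj (Plus.Q.obj (sgl S.X₃))) :=
  (Φ_exact₃ F hS n₀ n₁ h).isZero_of_both_zeros (h₂.eq_of_src _ _) (h₁.eq_of_tgt _ _)

include hS in
lemma epi_Φ_map_sgl_g (n₀ n₁ : ℤ) (h : n₀ + 1 = n₁)
    (h₁ : IsZero (((Φ F).shift n₁).obj (Plus.Q.obj (sgl S.X₁)))) :
    Epi (((Φ F).shift n₀).map (Plus.Q.map (sglMap S.g))) :=
  (Φ_exact₃ F hS n₀ n₁ h).epi_f (h₁.eq_of_tgt _ _)

end LES

/-- The unit `Q(F K) ⟶ RF(Q K)` at a bounded below complex. -/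
noncomputable def unitQ (K : CochainComplex.Plus A) :
    Plus.Q.obj (F.mapCochainComplexPlus.obj K) ⟶
      F.rightDerivedFunctorPlus.obj (Plus.Q.obj K) :=
  F.rightDerivedFunctorPlusUnit.app ((HomotopyCategory.Plus.quotient A).obj K)

lemma unitQ_naturality {K L : CochainComplex.Plus A} (φ : K ⟶ L) :
    Plus.Q.map (F.mapCochainComplexPlus.map φ) ≫ unitQ F L =
      unitQ F K ≫ F.rightDerivedFunctorPlus.map (Plus.Q.map φ) :=
  F.rightDerivedFunctorPlusUnit.naturality ((HomotopyCategory.Plus.quotient A).map φ)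

instance (L : CochainComplex.Plus A) [∀ n, Injective (L.obj.X n)] : IsIso (unitQ F L) :=
  inferInstanceAs (IsIso (F.rightDerivedFunctorPlusUnit.app
    ((HomotopyCategory.Plus.quotient A).obj L)))

lemma isIso_unitQ_iff {K L : CochainComplex.Plus A} (φ : K ⟶ L) [QuasiIso φ.hom]
    [∀ n, Injective (L.obj.X n)] :
    IsIso (unitQ F K) ↔ QuasiIso (F.mapCochainComplexPlus.map φ).hom := by
  rw [← isIso_Q_map_iff]
  have h1 : IsIso (Plus.Q.map φ) := (isIso_Q_map_iff φ).2 inferInstance
  have h3 : IsIso (F.rightDerivedFunctorPlus.map (Plus.Q.map φ)) := inferInstance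
  have nat := unitQ_naturality F φ
  constructor
  · intro h
    have : IsIso (Plus.Q.map (F.mapCochainComplexPlus.map φ) ≫ unitQ F L) := by
      rw [nat]; infer_instance
    exact IsIso.of_isIso_comp_right _ (unitQ F L)
  · intro h
    have : IsIso (unitQ F K ≫ F.rightDerivedFunctorPlus.map (Plus.Q.map φ)) := by
      rw [← nat]; infer_instance
    exact IsIso.of_isIso_comp_right _ (F.rightDerivedFunctorPlus.map (Plus.Q.map φ))

/-- `(Φ F).shift n` unfolded (a definitional equality). -/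
noncomputable def ΦshiftIso (n : ℤ) (X : DerivedCategory.Plus A) :
    ((Φ F).shift n).obj X ≅ (Plus.homologyFunctor B n).obj (F.rightDerivedFunctorPlus.obj X) :=
  Iso.refl _

lemma ΦshiftIso_hom_naturality (n : ℤ) {X Y : DerivedCategory.Plus A} (f : X ⟶ Y) :
    ((Φ F).shift n).map f ≫ (ΦshiftIso F n Y).hom =
      (ΦshiftIso F n X).hom ≫ (Plus.homologyFunctor B n).map (F.rightDerivedFunctorPlus.map f) :=
  (Category.comp_id _).trans (Category.id_comp _).symm

/-- The comparison map `Hⁿ(F K) ⟶ Φ_n(Q K)`. -/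
noncomputable def Θ (K : CochainComplex.Plus A) (n : ℤ) :
    (F.mapCochainComplexPlus.obj K).obj.homology n ⟶
      ((Φ F).shift n).obj (Plus.Q.obj K) :=
  (homologyQIso (F.mapCochainComplexPlus.obj K) n).inv ≫
    (Plus.homologyFunctor B n).map (unitQ F K) ≫ (ΦshiftIso F n _).inv

lemma Θ_naturality {K L : CochainComplex.Plus A} (φ : K ⟶ L) (n : ℤ) :
    HomologicalComplex.homologyMap (F.mapCochainComplexPlus.map φ).hom n ≫
      Θ F L n = Θ F K n ≫ ((Φ F).shift n).map (Plus.Q.map φ) := by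
  have h1 := homologyQIso_hom_naturality (F.mapCochainComplexPlus.map φ) n
  have h2 := congr_arg (fun f => (Plus.homologyFunctor B n).map f) (unitQ_naturality F φ)
  simp only [Functor.map_comp] at h2
  have h3 := ΦshiftIso_hom_naturality F n (Plus.Q.map φ)
  have h1' : HomologicalComplex.homologyMap (F.mapCochainComplexPlus.map φ).hom n ≫
      (homologyQIso (F.mapCochainComplexPlus.obj L) n).inv =
      (homologyQIso (F.mapCochainComplexPlus.obj K) n).inv ≫
        (Plus.homologyFunctor B n).map (Plus.Q.map (F.mapCochainComplexPlus.map φ)) := by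
    rw [← cancel_mono (homologyQIso _ n).hom, Category.assoc, Category.assoc, Iso.inv_hom_id,
      Category.comp_id, h1, Iso.inv_hom_id_assoc]
  have h3' : (ΦshiftIso F n (Plus.Q.obj K)).inv ≫ ((Φ F).shift n).map (Plus.Q.map φ) =
      (Plus.homologyFunctor B n).map (F.rightDerivedFunctorPlus.map (Plus.Q.map φ)) ≫
        (ΦshiftIso F n (Plus.Q.obj L)).inv := by
    rw [← cancel_mono (ΦshiftIso F n (Plus.Q.obj L)).hom, Category.assoc, Category.assoc,
      Iso.inv_hom_id, Category.comp_id, h3, Iso.inv_hom_id_assoc]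
  dsimp only [Θ]
  rw [reassoc_of% h1', reassoc_of% h2, Category.assoc, Category.assoc, h3']

instance (L : CochainComplex.Plus A) [∀ n, Injective (L.obj.X n)] (n : ℤ) : IsIso (Θ F L n) := by
  dsimp only [Θ]; infer_instance

/-- The class of right `F`-acyclic objects. -/
def acyclic : ObjectProperty A := fun X => ∀ i : ℕ, 0 < i → IsZero ((F.rightDerived i).obj X)

omit [HasDerivedCategory A] [HasDerivedCategory B] in
lemma acyclic_of_injective (X : A) [Injective X] : acyclic F X := fun i hi => by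
  obtain ⟨j, rfl⟩ : ∃ j, i = j + 1 := ⟨i - 1, by lia⟩
  exact Functor.isZero_rightDerived_obj_injective_succ F j X

lemma acyclic.isZero_Φ {X : A} (hX : acyclic F X) (i : ℕ) (hi : 0 < i) :
    IsZero (((Φ F).shift (i : ℤ)).obj (Plus.Q.obj (sgl X))) :=
  (hX i hi).of_iso (ΦsglIsoRightDerived F X i i rfl)

lemma acyclic_X₂ {S : ShortComplex A} (hS : S.ShortExact) (h₁ : acyclic F S.X₁)
    (h₃ : acyclic F S.X₃) : acyclic F S.X₂ := fun i hi =>
  IsZero.of_iso (isZero_Φ_sgl_X₂ F hS i (h₁.isZero_Φ F i hi) (h₃.isZero_Φ F i hi))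
    (ΦsglIsoRightDerived F S.X₂ i i rfl).symm

lemma acyclic_biprod {X Y : A} (hX : acyclic F X) (hY : acyclic F Y) : acyclic F (X ⊞ Y) :=
  acyclic_X₂ F (ShortComplex.Splitting.ofHasBinaryBiproduct X Y).shortExact hX hY

omit [HasDerivedCategory A] [HasDerivedCategory B] in
lemma acyclic_of_isZero {X : A} (hX : IsZero X) : acyclic F X := by
  have : Injective X := ⟨fun g f _ => ⟨0, hX.eq_of_tgt _ _⟩⟩
  exact acyclic_of_injective F X

/-- `H⁰(F(sgl X)) ≅ F X`, naturally in `X`. -/
noncomputable def νNat :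
    HomologicalComplex.single A (ComplexShape.up ℤ) 0 ⋙
      F.mapHomologicalComplex (ComplexShape.up ℤ) ⋙
        HomologicalComplex.homologyFunctor B (ComplexShape.up ℤ) 0 ≅ F :=
  (Functor.associator _ _ _).symm ≪≫
    Functor.isoWhiskerRight
      (HomologicalComplex.singleMapHomologicalComplex F (ComplexShape.up ℤ) 0) _ ≪≫
    Functor.associator _ _ _ ≪≫
    Functor.isoWhiskerLeft F (HomologicalComplex.homologyFunctorSingleIso B (ComplexShape.up ℤ) 0) ≪≫
    F.rightUnitor

/-- `H⁰(F(sgl X)) ≅ F X`. -/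
noncomputable def ν (X : A) :
    (F.mapCochainComplexPlus.obj (sgl X)).obj.homology 0 ≅ F.obj X :=
  (νNat F).app X

omit [HasDerivedCategory A] [EnoughInjectives A] [HasDerivedCategory B] in
lemma ν_hom_naturality {X Y : A} (g : X ⟶ Y) :
    HomologicalComplex.homologyMap (F.mapCochainComplexPlus.map (sglMap g)).hom 0 ≫ (ν F Y).hom =
      (ν F X).hom ≫ F.map g :=
  (νNat F).hom.naturality g

section LeftExact

variable [PreservesFiniteLimits F]

lemma isIso_Θ_sgl (X : A) : IsIso (Θ F (sgl X) 0) := by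
  let I := injectiveResolution X
  have nat := Θ_naturality F (resι I) 0
  have h1 : IsIso (HomologicalComplex.homologyMap
      (F.mapCochainComplexPlus.map (resι I)).hom 0) := by
    have : QuasiIsoAt ((F.mapHomologicalComplex (ComplexShape.up ℤ)).map I.ι') 0 :=
      (H33.RAcyc.quasiIsoAt_zero_iff F I).2 inferInstance
    exact (quasiIsoAt_iff_isIso_homologyMap
      ((F.mapHomologicalComplex (ComplexShape.up ℤ)).map I.ι') 0).1 this
  have : IsIso (Θ F (sgl X) 0 ≫ ((Φ F).shift 0).map (Plus.Q.map (resι I))) := by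
    rw [← nat]; infer_instance
  exact IsIso.of_isIso_comp_right _ (((Φ F).shift 0).map (Plus.Q.map (resι I)))

variable {S : ShortComplex A} (hS : S.ShortExact)

include hS in
lemma epi_map_g_of_isZero (h₁ : IsZero (((Φ F).shift (1 : ℤ)).obj (Plus.Q.obj (sgl S.X₁)))) :
    Epi (F.map S.g) := by
  have e1 : Epi (((Φ F).shift (0 : ℤ)).map (Plus.Q.map (sglMap S.g))) :=
    epi_Φ_map_sgl_g F hS 0 1 rfl h₁
  have nat := Θ_naturality F (sglMap S.g) 0
  have i2 := isIso_Θ_sgl F S.X₂
  have i3 := isIso_Θ_sgl F S.X₃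
  have e2 : Epi (HomologicalComplex.homologyMap
      (F.mapCochainComplexPlus.map (sglMap S.g)).hom 0 ≫ Θ F (sgl S.X₃) 0) := by
    rw [nat]; infer_instance
  have e3 : Epi (HomologicalComplex.homologyMap
      (F.mapCochainComplexPlus.map (sglMap S.g)).hom 0) := by
    have : HomologicalComplex.homologyMap (F.mapCochainComplexPlus.map (sglMap S.g)).hom 0 =
        (HomologicalComplex.homologyMap (F.mapCochainComplexPlus.map (sglMap S.g)).hom 0 ≫
          Θ F (sgl S.X₃) 0) ≫ inv (Θ F (sgl S.X₃) 0) := by simp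
    rw [this]; infer_instance
  have e4 : F.map S.g = (ν F S.X₂).inv ≫ HomologicalComplex.homologyMap
      (F.mapCochainComplexPlus.map (sglMap S.g)).hom 0 ≫ (ν F S.X₃).hom := by
    rw [ν_hom_naturality, Iso.inv_hom_id_assoc]
  rw [e4]; infer_instance


include hS in
theorem acyclic_X₃_and_shortExact (h₁ : acyclic F S.X₁) (h₂ : acyclic F S.X₂) :
    acyclic F S.X₃ ∧ (S.map F).ShortExact := by
  have z : ∀ (X : A), acyclic F X → ∀ i : ℕ, 0 < i →
      IsZero (((Φ F).shift (i : ℤ)).obj (Plus.Q.obj (sgl X))) := fun X hX i hi =>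
    (hX i hi).of_iso (ΦsglIsoRightDerived F X i i rfl)
  constructor
  · intro i hi
    refine IsZero.of_iso ?_ (ΦsglIsoRightDerived F S.X₃ i i rfl).symm
    exact isZero_Φ_sgl_X₃ F hS i ((i + 1 : ℕ) : ℤ) (by simp) (z _ h₂ i hi) (z _ h₁ (i + 1) (by lia))
  · have : Mono S.f := hS.mono_f
    have h1 : Mono (S.map F).f := inferInstanceAs (Mono (F.map S.f))
    have h2 : Epi (S.map F).g := epi_map_g_of_isZero F hS (z _ h₁ 1 (by lia))
    exact ShortComplex.ShortExact.mk' (hS.exact.map_of_mono_of_preservesKernel F hS.mono_f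
      inferInstance) h1 h2

end LeftExact

end Groth.Agent.H30.Leray
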