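import Groth.Agent.H30.RDPlusTri
import Groth.Agent.H30.PlusTri
import Mathlib.CategoryTheory.Triangulated.HomologicalFunctor
import Mathlib.CategoryTheory.Abelian.RightDerived
import Mathlib.CategoryTheory.Abelian.Injective.Extend

/-!
# The hypercohomology functor `Φ F = H⁰ ∘ RF` on `D⁺(A)`
-/

set_option autoImplicit false
universe w w' v v' u u'
open CategoryTheory Limits Pretriangulated

namespace Groth.Agent.H30.Hyper

section

variable {B : Type u'} [Category.{v'} B] [Abelian B] [HasDerivedCategory.{w'} B]

open DerivedCategory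

/-- `Plus.Q ⋙ Plus.ι ≅ ι ⋙ Q`. -/
noncomputable def ιQNatIso :
    Plus.Q ⋙ Plus.ι ≅ CochainComplex.Plus.ι B ⋙ DerivedCategory.Q :=
  NatIso.ofComponents PlusTri.ιQIso (fun f => PlusTri.ιQIso_hom_naturality f)

/-- Unfolding of `Plus.homologyFunctor`. -/
noncomputable def homologyFunctorIso (n : ℤ) :
    Plus.homologyFunctor B n ≅ Plus.ι ⋙ DerivedCategory.homologyFunctor B n := Iso.refl _

/-- The homology of `Q(K)` in `D⁺` is the homology of `K` (natural isomorphism). -/
noncomputable def homologyQNatIso (n : ℤ) :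
    Plus.Q ⋙ Plus.homologyFunctor B n ≅
      CochainComplex.Plus.ι B ⋙ HomologicalComplex.homologyFunctor B (ComplexShape.up ℤ) n :=
  Functor.isoWhiskerLeft Plus.Q (homologyFunctorIso n) ≪≫ (Functor.associator _ _ _).symm ≪≫
    Functor.isoWhiskerRight ιQNatIso _ ≪≫ Functor.associator _ _ _ ≪≫
    Functor.isoWhiskerLeft _ (DerivedCategory.homologyFunctorFactors B n)

/-- The homology of `Q(K)` in `D⁺` is the homology of `K`. -/
noncomputable def homologyQIso (K : CochainComplex.Plus B) (n : ℤ) :
    (Plus.homologyFunctor B n).obj (Plus.Q.obj K) ≅ K.obj.homology n :=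
  (homologyQNatIso n).app K

lemma homologyQIso_hom_naturality {K L : CochainComplex.Plus B} (ψ : K ⟶ L) (n : ℤ) :
    (Plus.homologyFunctor B n).map (Plus.Q.map ψ) ≫ (homologyQIso L n).hom =
      (homologyQIso K n).hom ≫ HomologicalComplex.homologyMap ψ.hom n :=
  (homologyQNatIso n).hom.naturality ψ

end

variable {A : Type u} [Category.{v} A] [Abelian A] [HasDerivedCategory.{w} A] [EnoughInjectives A]
  {B : Type u'} [Category.{v'} B] [Abelian B] [HasDerivedCategory.{w'} B]
  (F : A ⥤ B) [F.Additive]

open RDPlus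

/-- The hypercohomology functor. -/
noncomputable def Φ : DerivedCategory.Plus A ⥤ B :=
  F.rightDerivedFunctorPlus ⋙ DerivedCategory.Plus.homologyFunctor B 0

instance : (Φ F).IsHomological := by dsimp only [Φ]; infer_instance

noncomputable instance : (Φ F).ShiftSequence ℤ := by dsimp only [Φ]; infer_instance

lemma Φ_shift (n : ℤ) :
    (Φ F).shift n = F.rightDerivedFunctorPlus ⋙ DerivedCategory.Plus.homologyFunctor B n := rfl

/-- Hypercohomology of a bounded below complex of injectives. -/
noncomputable def ΦQIsoOfInjective (L : CochainComplex.Plus A) [∀ n, Injective (L.obj.X n)]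
    (n : ℤ) :
    ((Φ F).shift n).obj (DerivedCategory.Plus.Q.obj L) ≅
      ((F.mapHomologicalComplex (ComplexShape.up ℤ)).obj L.obj).homology n :=
  (DerivedCategory.Plus.homologyFunctor B n).mapIso
      (asIso (F.rightDerivedFunctorPlusUnit.app ((HomotopyCategory.Plus.quotient A).obj L))).symm ≪≫
    homologyQIso (F.mapCochainComplexPlus.obj L) n

end Groth.Agent.H30.Hyper
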