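import Groth.Agent.H30.HDSheafify
import Groth.Prelude.Def_CohTop

/-!
# Cohomology sheaves of `Rf_* K` for a bounded below complex `K`
-/

set_option autoImplicit false
universe u
open CategoryTheory CategoryTheory.Limits Opposite DerivedCategory TopologicalSpace

namespace Groth.Agent.H30.HyperPush

section general

variable {A B : Type*} [Category* A] [Category* B] [Abelian A] [Abelian B]
  [HasDerivedCategory A] [HasDerivedCategory B] (F : A ⥤ B) [F.Additive]

/-- homology of `Qh (F K)` for a bounded below complex `K`. -/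
noncomputable def homologyIsoOfPlus (M : CochainComplex.Plus A) (p : ℤ) :
    (DerivedCategory.Plus.homologyFunctor B p).obj
      (DerivedCategory.Plus.Qh.obj (F.mapHomotopyCategoryPlus.obj
        ((HomotopyCategory.Plus.quotient A).obj M))) ≅
      ((F.mapHomologicalComplex _).obj M.obj).homology p :=
  (DerivedCategory.homologyFunctor B p).mapIso
      ((DerivedCategory.quotientCompQhIso B).app ((F.mapHomologicalComplex _).obj M.obj)) ≪≫
    (DerivedCategory.homologyFunctorFactors B p).app _

variable [EnoughInjectives A]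

/-- `RF` on a bounded below complex of injectives. -/
noncomputable def rdIsoOfInjective (L : CochainComplex.Plus (InjectiveObject A)) :
    F.rightDerivedFunctorPlus.obj (DerivedCategory.Plus.Qh.obj
      ((HomotopyCategory.Plus.quotient A).obj
        ((InjectiveObject.ι A).mapCochainComplexPlus.obj L))) ≅
      DerivedCategory.Plus.Qh.obj (F.mapHomotopyCategoryPlus.obj
        ((HomotopyCategory.Plus.quotient A).obj
          ((InjectiveObject.ι A).mapCochainComplexPlus.obj L))) :=
  (asIso (F.rightDerivedFunctorPlusUnit.app ((HomotopyCategory.Plus.quotient A).obj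
        ((InjectiveObject.ι A).mapCochainComplexPlus.obj L)))).symm

lemma isIso_Qh_map {K M : CochainComplex.Plus A} (i : K ⟶ M)
    (hi : CochainComplex.Plus.quasiIso A i) :
    IsIso (DerivedCategory.Plus.Qh.map ((HomotopyCategory.Plus.quotient A).map i)) := by
  apply Localization.inverts DerivedCategory.Plus.Qh (HomotopyCategory.Plus.quasiIso A)
  rw [HomotopyCategory.Plus.quasiIso_iff]
  exact (HomotopyCategory.quotient_map_mem_quasiIso_iff i.hom).2 hi

/-- the cohomology of `RF K` through an injective resolution. -/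
theorem exists_resolution (K : CochainComplex.Plus A) (p : ℤ) :
    ∃ (J : CochainComplex A ℤ) (_ : J.IsKInjective) (i : K.obj ⟶ J) (_ : QuasiIso i),
      Nonempty ((DerivedCategory.Plus.homologyFunctor B p).obj
        (F.rightDerivedFunctorPlus.obj (DerivedCategory.Plus.Qh.obj
          ((HomotopyCategory.Plus.quotient A).obj K))) ≅
        ((F.mapHomologicalComplex _).obj J).homology p) := by
  obtain ⟨n, hn⟩ := K.property
  obtain ⟨L, -, i, hi⟩ := CochainComplex.Plus.exists_quasiIso_injective K n
  have h1 := isIso_Qh_map i hi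
  refine ⟨((InjectiveObject.ι A).mapCochainComplexPlus.obj L).obj, ?_, i.hom, ?_, ⟨?_⟩⟩
  · exact inferInstanceAs (CochainComplex.IsKInjective
      (((InjectiveObject.ι A).mapHomologicalComplex (.up ℤ)).obj L.obj))
  · exact (HomologicalComplex.mem_quasiIso_iff i.hom).1 hi
  · exact (DerivedCategory.Plus.homologyFunctor B p).mapIso
      (F.rightDerivedFunctorPlus.mapIso
        (asIso (DerivedCategory.Plus.Qh.map ((HomotopyCategory.Plus.quotient A).map i))) ≪≫
        rdIsoOfInjective F L) ≪≫ homologyIsoOfPlus F _ p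

end general

section top

variable {X Y : TopCat.{u}} (f : X ⟶ Y) [HasDerivedCategory.{u} (CohTop.Ab X)]
  (J : CochainComplex (CohTop.Ab X) ℤ) (p : ℤ)

/-- precomposition with `f⁻¹`. -/
abbrev Wh : ((Opens X)ᵒᵖ ⥤ AddCommGrpCat.{u}) ⥤ ((Opens Y)ᵒᵖ ⥤ AddCommGrpCat.{u}) :=
  (Functor.whiskeringLeft (Opens Y)ᵒᵖ (Opens X)ᵒᵖ AddCommGrpCat.{u}).obj (Opens.map f).op

/-- the complex `f_* J`. -/
noncomputable abbrev pushCx : CochainComplex (CohTop.Ab Y) ℤ :=
  ((CohTop.push f).mapHomologicalComplex _).obj J

/-- the underlying presheaf complexes agree. -/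
noncomputable def scIso :
    ((pushCx f J).sc p).map (sheafToPresheaf (Opens.grothendieckTopology Y) AddCommGrpCat.{u}) ≅
      (HDSheafify.T J p).map (Wh f) :=
  Iso.refl _

/-- `ℋ^p(f_* J)` is the sheafification of `V ↦ H^p(f⁻¹ V, J)` for `J` K-injective. -/
noncomputable def pushHomologyIso [J.IsKInjective] :
    (pushCx f J).homology p ≅
      (presheafToSheaf (Opens.grothendieckTopology Y) AddCommGrpCat.{u}).obj
        ((Opens.map f).op ⋙ CohCx.HDUPresheaf (Q.obj J) p) :=
  H16.CohPush.homologySheafify _ ((pushCx f J).sc p) ≪≫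
    (presheafToSheaf _ _).mapIso
      (ShortComplex.homologyMapIso (scIso f J p) ≪≫ (HDSheafify.T J p).mapHomologyIso (Wh f) ≪≫
        Functor.isoWhiskerLeft (Opens.map f).op (HDSheafify.preHomologyIso J p))

/-- `HDUPresheaf` is functorial for isomorphisms. -/
noncomputable def hduIso {K K' : DerivedCategory (CohTop.Ab X)} (e : K ≅ K') (p : ℤ) :
    CohCx.HDUPresheaf K p ≅ CohCx.HDUPresheaf K' p :=
  Functor.isoWhiskerLeft _ (preadditiveYoneda.mapIso
    ((shiftFunctor (DerivedCategory (CohTop.Ab X)) p).mapIso e))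

theorem nonempty_iso [HasDerivedCategory.{u} (CohTop.Ab Y)]
    (K : CochainComplex.Plus (CohTop.Ab X)) :
    Nonempty ((DerivedCategory.Plus.homologyFunctor (CohTop.Ab Y) p).obj
        ((CohTop.push f).rightDerivedFunctorPlus.obj
          (DerivedCategory.Plus.Qh.obj ((HomotopyCategory.Plus.quotient (CohTop.Ab X)).obj K))) ≅
      (presheafToSheaf (Opens.grothendieckTopology Y) AddCommGrpCat.{u}).obj
        ((Opens.map f).op ⋙ CohCx.HDUPresheaf (DerivedCategory.Q.obj K.obj) p)) := by
  obtain ⟨J, hJ, i, hi, ⟨e⟩⟩ := exists_resolution (CohTop.push f) K p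
  have : IsIso (Q.map i) := (DerivedCategory.isIso_Q_map_iff_quasiIso (C := CohTop.Ab X) i).2 hi
  exact ⟨e ≪≫ pushHomologyIso f J p ≪≫ (presheafToSheaf _ _).mapIso
    (Functor.isoWhiskerLeft (Opens.map f).op (hduIso (asIso (Q.map i)) p).symm)⟩

end top

end Groth.Agent.H30.HyperPush
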