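import Mathlib
import Groth.Agent.H30.ExtRD
import Groth.Agent.H16.CohPush

/-!
# Right derived functors of a sheaf-valued functor with representable sections

Let `Φ : 𝒜 ⥤ Sheaf K Ab` be an additive functor from an abelian category with enough injectives
such that sections of `Φ G` over `d` are naturally `Hom(M d, G)` for a family of objects `M d`
(with transition maps).  Then `R^q Φ (F)` is the sheaf associated to the presheaf
`d ↦ Ext^q(M d, F)`.  (Generalises helper16's `CohPush.mainIso`.)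
-/

set_option autoImplicit false
universe w u
open CategoryTheory CategoryTheory.Limits Opposite Abelian

namespace Groth.Agent.H30.RDSheafify

section general

variable {D : Type u} [SmallCategory D]

lemma exists_cycle (T : ShortComplex (Dᵒᵖ ⥤ AddCommGrpCat.{u})) (X : Dᵒᵖ) (x : T.X₂.obj X)
    (hx : (T.g.app X).hom x = 0) :
    ∃ z : T.cycles.obj X, (T.iCycles.app X).hom z = x := by
  let S' : ShortComplex (Dᵒᵖ ⥤ AddCommGrpCat.{u}) :=
    ShortComplex.mk T.iCycles T.g T.iCycles_g
  have hS' : S'.Exact := ShortComplex.exact_of_f_is_kernel _ T.cyclesIsKernel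
  have h2 : (S'.map ((evaluation Dᵒᵖ AddCommGrpCat.{u}).obj X)).Exact :=
    hS'.map_of_mono_of_preservesKernel _ (inferInstanceAs (Mono T.iCycles)) inferInstance
  exact (ShortComplex.ab_exact_iff _).1 h2 x hx

lemma iCycles_app_injective (T : ShortComplex (Dᵒᵖ ⥤ AddCommGrpCat.{u})) (X : Dᵒᵖ) :
    Function.Injective (T.iCycles.app X).hom := by
  haveI : Mono (T.iCycles.app X) := inferInstance
  exact (AddCommGrpCat.mono_iff_injective _).1 inferInstance

lemma g_iCycles_app (T : ShortComplex (Dᵒᵖ ⥤ AddCommGrpCat.{u})) (X : Dᵒᵖ) (z : T.cycles.obj X) :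
    (T.g.app X).hom ((T.iCycles.app X).hom z) = 0 := by
  have h := congrArg (fun φ => (φ.app X).hom z) T.iCycles_g
  exact h

lemma iCycles_toCycles_app (T : ShortComplex (Dᵒᵖ ⥤ AddCommGrpCat.{u})) (X : Dᵒᵖ)
    (y : T.X₁.obj X) :
    (T.iCycles.app X).hom ((T.toCycles.app X).hom y) = (T.f.app X).hom y := by
  have h := congrArg (fun φ => (φ.app X).hom y) T.toCycles_i
  exact h

end general

variable {𝒜 : Type w} [Category.{u} 𝒜] [Abelian 𝒜] [HasExt.{u} 𝒜]
  {D : Type u} [SmallCategory D] (K : GrothendieckTopology D)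
  (Φ : 𝒜 ⥤ Sheaf K AddCommGrpCat.{u}) [Φ.Additive]
  (M : D → 𝒜) (Mmap : ∀ {d' d : D}, (d' ⟶ d) → (M d' ⟶ M d))
  (e : ∀ (G : 𝒜) (d : D), ((Φ.obj G).obj.obj (op d)) ≃+ (M d ⟶ G))
  (nat_G : ∀ {G G' : 𝒜} (g : G ⟶ G') (d : D) (x : (Φ.obj G).obj.obj (op d)),
     e G' d (((Φ.map g).hom.app (op d)).hom x) = e G d x ≫ g)
  (nat_d : ∀ (G : 𝒜) {d' d : D} (f : d' ⟶ d) (x : (Φ.obj G).obj.obj (op d)),
     e G d' (((Φ.obj G).obj.map f.op).hom x) = Mmap f ≫ e G d x)
  {F : 𝒜} (R : InjectiveResolution F) (q : ℕ) [HasInjectiveResolutions 𝒜]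

/-- the complex of sheaves `Φ(R•)`. -/
noncomputable abbrev Q : CochainComplex (Sheaf K AddCommGrpCat.{u}) ℕ :=
  (Φ.mapHomologicalComplex (ComplexShape.up ℕ)).obj R.cocomplex

/-- the short complex of presheaves in degree `q`. -/
noncomputable abbrev T : ShortComplex (Dᵒᵖ ⥤ AddCommGrpCat.{u}) :=
  ((Q K Φ R).sc q).map (sheafToPresheaf K AddCommGrpCat.{u})

include nat_G in
lemma e_g (d : D) (x : (T K Φ R q).X₂.obj (op d)) :
    e _ d (((T K Φ R q).g.app (op d)).hom x) =
      e (R.cocomplex.X q) d x ≫ R.cocomplex.d q ((ComplexShape.up ℕ).next q) :=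
  nat_G _ d x

include nat_G in
lemma e_f (d : D) (y : (T K Φ R q).X₁.obj (op d)) :
    e _ d (((T K Φ R q).f.app (op d)).hom y) =
      e (R.cocomplex.X ((ComplexShape.up ℕ).prev q)) d y ≫
        R.cocomplex.d ((ComplexShape.up ℕ).prev q) q :=
  nat_G _ d y

/-- the section of `Φ(R^q)` underlying a cycle. -/
noncomputable def secOf (d : D) :
    (T K Φ R q).cycles.obj (op d) →+ (Φ.obj (R.cocomplex.X q)).obj.obj (op d) :=
  ((T K Φ R q).iCycles.app (op d)).hom

include nat_G in
lemma e_secOf_comp_d (d : D) (z : (T K Φ R q).cycles.obj (op d)) :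
    e (R.cocomplex.X q) d (secOf K Φ R q d z) ≫
      R.cocomplex.d q ((ComplexShape.up ℕ).next q) = 0 := by
  refine Eq.trans (e_g K Φ M e nat_G R q d _).symm ?_
  have := g_iCycles_app (T K Φ R q) (op d) z
  exact (congrArg (e _ d) this).trans (map_zero _)

/-- from cycles over `d` to cocycles of `Hom(M d, R•)`. -/
noncomputable def toKer (d : D) :
    (T K Φ R q).cycles.obj (op d) →+
      AddMonoidHom.ker ((ExtRD.L (M := M d) R).sc q).g.hom where
  toFun z := ⟨e (R.cocomplex.X q) d (secOf K Φ R q d z), e_secOf_comp_d K Φ M e nat_G R q d z⟩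
  map_zero' := Subtype.ext (by
    change e (R.cocomplex.X q) d (secOf K Φ R q d 0) = 0
    rw [map_zero, map_zero])
  map_add' z z' := Subtype.ext (by
    change e (R.cocomplex.X q) d (secOf K Φ R q d (z + z')) =
      e (R.cocomplex.X q) d (secOf K Φ R q d z) + e (R.cocomplex.X q) d (secOf K Φ R q d z')
    rw [map_add, map_add])

lemma toKer_coe (d : D) (z : (T K Φ R q).cycles.obj (op d)) :
    (toKer K Φ M e nat_G R q d z).1 = e (R.cocomplex.X q) d (secOf K Φ R q d z) := rfl

lemma toKer_surjective (d : D) : Function.Surjective (toKer K Φ M e nat_G R q d) := by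
  rintro ⟨φ, hφ⟩
  let φ' : M d ⟶ R.cocomplex.X q := φ
  have hφ' : φ' ≫ R.cocomplex.d q ((ComplexShape.up ℕ).next q) = 0 := hφ
  let x : (Φ.obj (R.cocomplex.X q)).obj.obj (op d) := (e _ d).symm φ'
  have hex : e _ d x = φ' := AddEquiv.apply_symm_apply _ _
  have hx : ((T K Φ R q).g.app (op d)).hom x = 0 := by
    apply (e _ d).injective
    refine (e_g K Φ M e nat_G R q d x).trans ?_
    refine Eq.trans ?_ (map_zero _).symm
    exact (congrArg (· ≫ R.cocomplex.d q ((ComplexShape.up ℕ).next q)) hex).trans hφ'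
  obtain ⟨z, hz⟩ := exists_cycle (T K Φ R q) (op d) x hx
  refine ⟨z, Subtype.ext ?_⟩
  rw [toKer_coe]
  exact (congrArg (e _ d) hz).trans hex

/-- the class map on cycles over `d`. -/
noncomputable def piApp (d : D) : (T K Φ R q).cycles.obj (op d) →+ Ext (M d) F q :=
  (ExtRD.clsHom R q).comp (toKer K Φ M e nat_G R q d)

lemma piApp_surjective (d : D) : Function.Surjective (piApp K Φ M e nat_G R q d) :=
  (ExtRD.clsHom_surjective R q).comp (toKer_surjective K Φ M e nat_G R q d)

lemma toKer_toCycles (d : D) (y : (T K Φ R q).X₁.obj (op d)) :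
    toKer K Φ M e nat_G R q d (((T K Φ R q).toCycles.app (op d)).hom y) =
      ((ExtRD.L (M := M d) R).sc q).abToCycles
        (e (R.cocomplex.X ((ComplexShape.up ℕ).prev q)) d y) := by
  apply Subtype.ext
  rw [toKer_coe]
  have h1 : secOf K Φ R q d (((T K Φ R q).toCycles.app (op d)).hom y) =
      ((T K Φ R q).f.app (op d)).hom y := iCycles_toCycles_app (T K Φ R q) (op d) y
  exact (congrArg (e _ d) h1).trans (e_f K Φ M e nat_G R q d y)

lemma piApp_eq_zero_iff (d : D) (z : (T K Φ R q).cycles.obj (op d)) :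
    piApp K Φ M e nat_G R q d z = 0 ↔
      ∃ y : (T K Φ R q).X₁.obj (op d), ((T K Φ R q).toCycles.app (op d)).hom y = z := by
  constructor
  · intro hz
    obtain ⟨ψ, hψ⟩ := ExtRD.exists_of_clsHom_eq_zero R q _ hz
    let ψ' : M d ⟶ R.cocomplex.X ((ComplexShape.up ℕ).prev q) := ψ
    let y : (Φ.obj (R.cocomplex.X ((ComplexShape.up ℕ).prev q))).obj.obj (op d) :=
      (e _ d).symm ψ'
    have hey : e _ d y = ψ' := AddEquiv.apply_symm_apply _ _
    refine ⟨y, ?_⟩
    apply iCycles_app_injective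
    refine (iCycles_toCycles_app (T K Φ R q) (op d) y).trans ?_
    apply (e _ d).injective
    refine (e_f K Φ M e nat_G R q d y).trans ?_
    refine (congrArg (· ≫ R.cocomplex.d ((ComplexShape.up ℕ).prev q) q) hey).trans ?_
    exact congrArg Subtype.val hψ
  · rintro ⟨y, rfl⟩
    change ExtRD.clsHom R q _ = 0
    rw [toKer_toCycles]
    exact ExtRD.clsHom_abToCycles R q _

include nat_d in
lemma piApp_res {d' d : D} (f : d' ⟶ d) (z : (T K Φ R q).cycles.obj (op d)) :
    piApp K Φ M e nat_G R q d' (((T K Φ R q).cycles.map f.op).hom z) =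
      (Ext.mk₀ (Mmap f)).comp (piApp K Φ M e nat_G R q d z) (zero_add q) := by
  have e1 : ∀ (d : D) (z : (T K Φ R q).cycles.obj (op d)), piApp K Φ M e nat_G R q d z =
      R.extMk (X := M d) (e (R.cocomplex.X q) d (secOf K Φ R q d z)) _ (ExtRD.next_eq q)
        (e_secOf_comp_d K Φ M e nat_G R q d z) := fun _ _ => rfl
  rw [e1, e1, R.mk₀_comp_extMk]
  congr 1
  have h1 : secOf K Φ R q d' (((T K Φ R q).cycles.map f.op).hom z) =
      ((Φ.obj (R.cocomplex.X q)).obj.map f.op).hom (secOf K Φ R q d z) := by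
    have h := congrArg (fun φ => φ.hom z) ((T K Φ R q).iCycles.naturality f.op)
    exact h
  exact (congrArg (e _ d') h1).trans (nat_d _ f _)

variable (P : Dᵒᵖ ⥤ AddCommGrpCat.{u}) (p : ∀ d : D, P.obj (op d) ≃+ Ext (M d) F q)
  (hp : ∀ {d' d : D} (f : d' ⟶ d) (x : P.obj (op d)),
    p d' ((P.map f.op).hom x) = (Ext.mk₀ (Mmap f)).comp (p d x) (zero_add q))

include nat_d hp in
/-- the class map as a morphism of presheaves. -/
noncomputable def pi : (T K Φ R q).cycles ⟶ P where
  app X := AddCommGrpCat.ofHom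
    ((p X.unop).symm.toAddMonoidHom.comp (piApp K Φ M e nat_G R q X.unop))
  naturality X Y f := by
    ext z
    change (p Y.unop).symm (piApp K Φ M e nat_G R q Y.unop (((T K Φ R q).cycles.map f).hom z)) =
      (P.map f).hom ((p X.unop).symm (piApp K Φ M e nat_G R q X.unop z))
    apply (p Y.unop).injective
    rw [AddEquiv.apply_symm_apply]
    have h1 := hp f.unop ((p X.unop).symm (piApp K Φ M e nat_G R q X.unop z))
    rw [AddEquiv.apply_symm_apply] at h1
    exact (piApp_res K Φ M Mmap e nat_G nat_d R q f.unop z).trans h1.symm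

lemma pi_app_apply (X : Dᵒᵖ) (z : (T K Φ R q).cycles.obj X) :
    ((pi K Φ M Mmap e nat_G nat_d R q P p hp).app X).hom z =
      (p X.unop).symm (piApp K Φ M e nat_G R q X.unop z) := rfl

lemma toCycles_pi : (T K Φ R q).toCycles ≫ pi K Φ M Mmap e nat_G nat_d R q P p hp = 0 := by
  ext X y
  change (p X.unop).symm (piApp K Φ M e nat_G R q X.unop
    ((((T K Φ R q).toCycles).app X).hom y)) = 0
  rw [(piApp_eq_zero_iff K Φ M e nat_G R q X.unop _).2 ⟨y, rfl⟩, map_zero]

instance epi_pi : Epi (pi K Φ M Mmap e nat_G nat_d R q P p hp) := by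
  rw [NatTrans.epi_iff_epi_app]
  intro X
  rw [AddCommGrpCat.epi_iff_surjective]
  exact (p X.unop).symm.surjective.comp (piApp_surjective K Φ M e nat_G R q X.unop)

lemma exact_pi :
    (ShortComplex.mk _ _ (toCycles_pi K Φ M Mmap e nat_G nat_d R q P p hp)).Exact := by
  apply H16.CohPresheaf.exact_of_app_exact
  intro X
  rw [ShortComplex.ab_exact_iff]
  intro z hz
  have hz' : (p X.unop).symm (piApp K Φ M e nat_G R q X.unop z) = 0 := hz
  have hz'' : piApp K Φ M e nat_G R q X.unop z = 0 := by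
    have := congrArg (p X.unop) hz'
    rwa [AddEquiv.apply_symm_apply, map_zero] at this
  exact (piApp_eq_zero_iff K Φ M e nat_G R q X.unop z).1 hz''

/-- left homology data with `H = P`. -/
noncomputable def lhd : (T K Φ R q).LeftHomologyData where
  K := (T K Φ R q).cycles
  H := P
  i := (T K Φ R q).iCycles
  π := pi K Φ M Mmap e nat_G nat_d R q P p hp
  wi := (T K Φ R q).iCycles_g
  hi := (T K Φ R q).cyclesIsKernel
  wπ := toCycles_pi K Φ M Mmap e nat_G nat_d R q P p hp
  hπ := (exact_pi K Φ M Mmap e nat_G nat_d R q P p hp).gIsCokernel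

/-- the main isomorphism. -/
noncomputable def mainIso :
    (Φ.rightDerived q).obj F ≅ (presheafToSheaf K AddCommGrpCat.{u}).obj P :=
  R.isoRightDerivedObj Φ q ≪≫
    H16.CohPush.homologySheafify K ((Q K Φ R).sc q) ≪≫
    (presheafToSheaf K AddCommGrpCat.{u}).mapIso
      (lhd K Φ M Mmap e nat_G nat_d R q P p hp).homologyIso

end Groth.Agent.H30.RDSheafify
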