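import Groth.Prelude.Def_SuppFam
import Groth.Agent.H30.ExcisionV
import Groth.Agent.H30.RDSheafify

/-!
# `ℋ^q_Z(F)` is the sheafification of `V' ↦ H^q_{Z ∩ V'}(V', F)` for `Z = V ∖ W` locally closed
-/

set_option autoImplicit false
universe u
open CategoryTheory Limits TopologicalSpace Opposite Abelian

namespace Groth.Agent.H30.LCSheafify
open Groth.Agent.H30.SectSupp Groth.Agent.H30.SuppPush Groth.Agent.H30.ExcisionV

variable {X : TopCat.{u}} {W V : Opens X} (h : W ≤ V)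

/-- `W ∩ V` as an open of `V`. -/
abbrev U' (W V : Opens X) : Opens (TopCat.of V) := SuppFam.inOpen V W
/-- `V' ∩ V` as an open of `V`. -/
abbrev A (V V' : Opens X) : Opens (TopCat.of V) := (Opens.map (CohCx.incl V)).obj V'
/-- `G|_V`. -/
noncomputable abbrev GV (V : Opens X) (G : CohTop.Ab X) : CohTop.Ab (TopCat.of V) :=
  (CohTop.restrFunctor V).obj G
/-- the image functor. -/
abbrev j (V : Opens X) : Opens (TopCat.of V) ⥤ Opens X := (SectSupp.hj V).isOpenMap.functor

lemma le_j_A (V' : Opens X) : V ⊓ V' ≤ (j V).obj (A V V') := by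
  rintro x ⟨h1, h2⟩
  exact ⟨⟨x, h1⟩, h2, rfl⟩

lemma j_A_le (V' : Opens X) : (j V).obj (A V V') ≤ V ⊓ V' := by
  rintro _ ⟨y, hy, rfl⟩
  exact ⟨y.2, hy⟩

lemma j_cap_le (V' : Opens X) : (j V).obj (SectSupp.cap (U' W V) (A V V')) ≤ W ⊓ V' := by
  rintro _ ⟨y, hy, rfl⟩
  have := (SectSupp.mem_cap (U' W V) (A V V') y).1 hy
  exact ⟨this.2, this.1⟩

include h in
lemma le_j_cap (V' : Opens X) : W ⊓ V' ≤ (j V).obj (SectSupp.cap (U' W V) (A V V')) := by
  rintro x ⟨h1, h2⟩
  exact ⟨⟨x, h h1⟩, (SectSupp.mem_cap (U' W V) (A V V') _).2 ⟨h2, h1⟩, rfl⟩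

include h in
/-- the pair `W ∩ V' ≤ V ∩ V'`. -/
lemma hV' (V' : Opens X) : W ⊓ V' ≤ V ⊓ V' := inf_le_inf_right V' h

/-- sections of `Γ_Z(G)` over `V'` as sections of `G` over `j(A V')`. -/
noncomputable def kSec (G : CohTop.Ab X) (V' : Opens X) :
    ((SuppFam.sectSuppLC h).obj G).obj.obj (op V') →+ G.obj.obj (op ((j V).obj (A V V'))) :=
  ((SectSupp.k (U' W V) (GV V G)).hom.app (op (A V V'))).hom

lemma kSec_injective (G : CohTop.Ab X) (V' : Opens X) : Function.Injective (kSec h G V') :=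
  SectSupp.k_injective (U' W V) (GV V G) (A V V')

lemma kSec_vanish (G : CohTop.Ab X) (V' : Opens X)
    (x : ((SuppFam.sectSuppLC h).obj G).obj.obj (op V')) :
    (G.obj.map ((j V).map (homOfLE (SectSupp.cap_le (U' W V) (A V V')))).op).hom (kSec h G V' x) = 0 :=
  (SectSupp.η_eq_zero_iff (U' W V) (GV V G) (A V V') _).1
    (SectSupp.η_k (U' W V) (GV V G) (A V V') x)

lemma exists_kSec_eq (G : CohTop.Ab X) (V' : Opens X) (s : G.obj.obj (op ((j V).obj (A V V'))))
    (hs : (G.obj.map ((j V).map (homOfLE (SectSupp.cap_le (U' W V) (A V V')))).op).hom s = 0) :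
    ∃ x, kSec h G V' x = s :=
  SectSupp.exists_k_eq (U' W V) (GV V G) (A V V') s
    ((SectSupp.η_eq_zero_iff (U' W V) (GV V G) (A V V') s).2 hs)

/-- sections of `Γ_Z(G)` over `V'` as sections of `G` over `V ∩ V'` vanishing on `W ∩ V'`. -/
noncomputable def toSectZ (G : CohTop.Ab X) (V' : Opens X) :
    ((SuppFam.sectSuppLC h).obj G).obj.obj (op V') →+ LocCohZ.sectZ G (hV' h V') :=
  AddMonoidHom.codRestrict
    ((G.obj.map (homOfLE (le_j_A (V := V) V')).op).hom.comp (kSec h G V')) _ (by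
      intro x
      rw [AddMonoidHom.mem_ker]
      change (G.obj.map (homOfLE (hV' h V')).op).hom
        ((G.obj.map (homOfLE (le_j_A (V := V) V')).op).hom (kSec h G V' x)) = 0
      refine (map_map G _ _ (homOfLE ((hV' h V').trans (le_j_A V'))) _).trans ?_
      refine (map_map G (homOfLE (le_j_cap h V'))
        ((j V).map (homOfLE (SectSupp.cap_le (U' W V) (A V V')))) _ _).symm.trans ?_
      rw [kSec_vanish, map_zero])

lemma toSectZ_coe (G : CohTop.Ab X) (V' : Opens X)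
    (x : ((SuppFam.sectSuppLC h).obj G).obj.obj (op V')) :
    (toSectZ h G V' x).1 = (G.obj.map (homOfLE (le_j_A (V := V) V')).op).hom (kSec h G V' x) := rfl

lemma res_injective (G : CohTop.Ab X) {B B' : Opens X} (h1 : B ≤ B') (h2 : B' ≤ B) :
    Function.Injective (G.obj.map (homOfLE h1).op).hom := by
  intro a b hab
  have := congrArg (G.obj.map (homOfLE h2).op).hom hab
  rw [map_map G _ _ (𝟙 _), map_map G _ _ (𝟙 _)] at this
  simpa using this

lemma toSectZ_bijective (G : CohTop.Ab X) (V' : Opens X) :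
    Function.Bijective (toSectZ h G V') := by
  constructor
  · intro a b hab
    apply kSec_injective h G V'
    apply res_injective G (le_j_A (V := V) V') (j_A_le V')
    exact congrArg Subtype.val hab
  · rintro ⟨s, hs⟩
    have hs' : (G.obj.map (homOfLE (hV' h V')).op).hom s = 0 := hs
    obtain ⟨x, hx⟩ := exists_kSec_eq h G V' ((G.obj.map (homOfLE (j_A_le (V := V) V')).op).hom s) (by
      refine (map_map G _ _ (homOfLE ((j_cap_le (W := W) V').trans (hV' h V'))) _).trans ?_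
      refine (map_map G (homOfLE (j_cap_le (W := W) V')) (homOfLE (hV' h V')) _ _).symm.trans ?_
      rw [hs', map_zero])
    refine ⟨x, Subtype.ext ?_⟩
    rw [toSectZ_coe, hx]
    refine (map_map G _ _ (𝟙 _) _).trans ?_
    simp

/-- the representing object. -/
noncomputable abbrev M (V' : Opens X) : CohTop.Ab X := LocCohZ.zq (hV' h V')

/-- sections of `Γ_Z(G)` over `V'` are `Hom(ℤ_{Z ∩ V'}, G)`. -/
noncomputable def e (G : CohTop.Ab X) (V' : Opens X) :
    ((SuppFam.sectSuppLC h).obj G).obj.obj (op V') ≃+ (M h V' ⟶ G) :=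
  (AddEquiv.ofBijective (toSectZ h G V') (toSectZ_bijective h G V')).trans
    (homZqEquiv G (hV' h V')).symm

lemma homZqEquiv_e (G : CohTop.Ab X) (V' : Opens X)
    (x : ((SuppFam.sectSuppLC h).obj G).obj.obj (op V')) :
    (homZqEquiv G (hV' h V') (e h G V' x)).1 =
      (G.obj.map (homOfLE (le_j_A (V := V) V')).op).hom (kSec h G V' x) := by
  dsimp only [e, AddEquiv.trans_apply]
  rw [AddEquiv.apply_symm_apply]
  rfl

lemma sectSuppF_map_k {Y : TopCat.{u}} (U : Opens Y) {G G' : CohTop.Ab Y} (φ : G ⟶ G') :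
    (LocCohZ.sectSuppF U).map φ ≫ SectSupp.k U G' = SectSupp.k U G ≫ φ :=
  kernel.lift_ι _ _ _

lemma kSec_map {G G' : CohTop.Ab X} (g : G ⟶ G') (V' : Opens X)
    (x : ((SuppFam.sectSuppLC h).obj G).obj.obj (op V')) :
    kSec h G' V' ((((SuppFam.sectSuppLC h).map g).hom.app (op V')).hom x) =
      (g.hom.app (op ((j V).obj (A V V')))).hom (kSec h G V' x) := by
  have h1 := sectSuppF_map_k (U' W V) ((CohTop.restrFunctor V).map g)
  have h2 := congrArg (fun φ => (φ.hom.app (op (A V V'))).hom x) h1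
  exact h2

lemma nat_G {G G' : CohTop.Ab X} (g : G ⟶ G') (V' : Opens X)
    (x : ((SuppFam.sectSuppLC h).obj G).obj.obj (op V')) :
    e h G' V' ((((SuppFam.sectSuppLC h).map g).hom.app (op V')).hom x) = e h G V' x ≫ g := by
  apply (homZqEquiv G' (hV' h V')).injective
  apply Subtype.ext
  rw [homZqEquiv_e, homZqEquiv_comp, homZqEquiv_e, kSec_map]
  exact (ConcreteCategory.congr_hom (g.hom.naturality (homOfLE (le_j_A (V := V) V')).op) _).symm

/-- the transition maps of the representing objects. -/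
noncomputable def Mmap {V'' V' : Opens X} (f : V'' ⟶ V') : M h V'' ⟶ M h V' :=
  LocCohZ.zqMap (hV' h V') (hV' h V'') (inf_le_inf_left W (leOfHom f)) (inf_le_inf_left V (leOfHom f))

lemma homZqEquiv_zqMap (G : CohTop.Ab X) {W₁ V₁ W₂ V₂ : Opens X} (h₁ : W₁ ≤ V₁) (h₂ : W₂ ≤ V₂)
    (hW : W₂ ≤ W₁) (hV : V₂ ≤ V₁) (φ : LocCohZ.zq h₁ ⟶ G) :
    (homZqEquiv G h₂ (LocCohZ.zqMap h₁ h₂ hW hV ≫ φ)).1 =
      (G.obj.map (homOfLE hV).op).hom (homZqEquiv G h₁ φ).1 := by
  rw [homZqEquiv_apply_coe, homZqEquiv_apply_coe, ← CohFree.evalGen_freeSheafMap_comp]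
  congr 1
  rw [← Category.assoc, ← Category.assoc]
  congr 1
  exact cokernel.π_desc _ _ _

lemma kSec_res (G : CohTop.Ab X) {V'' V' : Opens X} (f : V'' ⟶ V')
    (x : ((SuppFam.sectSuppLC h).obj G).obj.obj (op V')) :
    kSec h G V'' ((((SuppFam.sectSuppLC h).obj G).obj.map f.op).hom x) =
      (G.obj.map ((j V).map ((Opens.map (CohCx.incl V)).map f)).op).hom (kSec h G V' x) := by
  have h1 := (SectSupp.k (U' W V) (GV V G)).hom.naturality ((Opens.map (CohCx.incl V)).map f).op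
  exact ConcreteCategory.congr_hom h1 x

lemma nat_d (G : CohTop.Ab X) {V'' V' : Opens X} (f : V'' ⟶ V')
    (x : ((SuppFam.sectSuppLC h).obj G).obj.obj (op V')) :
    e h G V'' ((((SuppFam.sectSuppLC h).obj G).obj.map f.op).hom x) = Mmap h f ≫ e h G V' x := by
  apply (homZqEquiv G (hV' h V'')).injective
  apply Subtype.ext
  rw [homZqEquiv_e, Mmap, homZqEquiv_zqMap, homZqEquiv_e, kSec_res]
  refine (map_map G _ _ (homOfLE ((inf_le_inf_left V (leOfHom f)).trans (le_j_A V'))) _).trans ?_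
  exact (map_map G _ _ _ _).symm

/-- `ℋ^q_Z(F)` is the sheaf associated to `V' ↦ H^q_{Z ∩ V'}(V', F)`. -/
theorem nonempty_HZshLC_iso (F : CohTop.Ab X) (q : ℕ) :
    Nonempty ((SuppFam.HZshLC h q).obj F ≅
      (presheafToSheaf (Opens.grothendieckTopology X) AddCommGrpCat.{u}).obj
        (SuppFam.HZpre F q h)) :=
  ⟨RDSheafify.mainIso (Opens.grothendieckTopology X) (SuppFam.sectSuppLC h) (M h)
    (fun f => Mmap h f) (e h) (fun g V' x => nat_G h g V' x) (fun G _ _ f x => nat_d h G f x)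
    (injectiveResolution F) q (SuppFam.HZpre F q h) (fun _ => AddEquiv.refl _)
    (fun _ _ => rfl)⟩

end Groth.Agent.H30.LCSheafify
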