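import Groth.Agent.H30.HyperPush
import Groth.Agent.H30.KInjAdj
import Groth.Agent.H30.SectSuppExact
import Groth.Agent.H33.BrownGA.SmallDer

/-!
# Vanishing of negative hypercohomology from vanishing on a basis
-/

set_option autoImplicit false
universe u
open CategoryTheory CategoryTheory.Limits Opposite DerivedCategory TopologicalSpace

namespace Groth.Agent.H30.NegVanish

section basis

variable {Y : TopCat.{u}} (B : Set (Opens Y)) (hB : Opens.IsBasis B)

include hB in
/-- a morphism from a presheaf vanishing on a basis to a sheaf is zero. -/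
lemma hom_eq_zero (P : (Opens Y)ᵒᵖ ⥤ AddCommGrpCat.{u})
    (hP : ∀ V ∈ B, Subsingleton (P.obj (op V))) (G : CohTop.Ab Y) (φ : P ⟶ G.obj) : φ = 0 := by
  ext ⟨V⟩ s
  let G' : TopCat.Sheaf AddCommGrpCat.{u} Y := G
  change (φ.app (op V)).hom s = 0
  -- cover `V` by basis elements
  let ι := {W : Opens Y // W ∈ B ∧ W ≤ V}
  refine G'.eq_of_locally_eq' (fun i : ι => i.1) V (fun i => homOfLE i.2.2) ?_ _ _ ?_
  · intro x hx
    obtain ⟨W, hW, hxW, hWV⟩ := Opens.isBasis_iff_nbhd.1 hB hx
    exact Opens.mem_iSup.2 ⟨⟨W, hW, hWV⟩, hxW⟩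
  · intro i
    have h1 := ConcreteCategory.congr_hom (φ.naturality (homOfLE i.2.2).op) s
    have h2 : (P.map (homOfLE i.2.2).op).hom s = 0 := by
      have := hP i.1 i.2.1
      exact Subsingleton.elim _ _
    have h3 : (G.obj.map (homOfLE i.2.2).op).hom ((φ.app (op V)).hom s) =
        (φ.app (op i.1)).hom ((P.map (homOfLE i.2.2).op).hom s) := h1.symm
    refine h3.trans ?_
    rw [h2, map_zero]
    exact (map_zero _).symm

include hB in
/-- the sheafification of a presheaf vanishing on a basis is zero. -/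
lemma isZero_sheafify (P : (Opens Y)ᵒᵖ ⥤ AddCommGrpCat.{u})
    (hP : ∀ V ∈ B, Subsingleton (P.obj (op V))) :
    IsZero ((presheafToSheaf (Opens.grothendieckTopology Y) AddCommGrpCat.{u}).obj P) := by
  rw [IsZero.iff_id_eq_zero]
  apply ((sheafificationAdjunction (Opens.grothendieckTopology Y) AddCommGrpCat.{u}).homEquiv
    P _).injective
  exact (hom_eq_zero B hB P hP _ _).trans (hom_eq_zero B hB P hP _ _).symm

end basis

section push

variable {X Y : TopCat.{u}} (f : X ⟶ Y) [HasDerivedCategory.{u} (CohTop.Ab X)]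
  [HasDerivedCategory.{u} (CohTop.Ab Y)]
  (J : CochainComplex (CohTop.Ab X) ℤ) (p : ℤ)

lemma isKInjective_pushCx [J.IsKInjective] : (HyperPush.pushCx f J).IsKInjective := by
  have adj : CohTop.pull f ⊣ CohTop.push f :=
    TopCat.Sheaf.pullbackPushforwardAdjunction AddCommGrpCat.{u} f
  have h1 : PreservesFiniteLimits (CohTop.pull f) := SectSupp.preservesFiniteLimits_pull f
  have h0 : (CohTop.pull f).IsLeftAdjoint := adj.isLeftAdjoint
  have h2 : PreservesFiniteColimits (CohTop.pull f) := inferInstance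
  have h3 : (CohTop.pull f).Additive := adj.left_adjoint_additive
  exact KInjAdj.isKInjective_map adj J

/-- `V ↦ H^p(f⁻¹ V, J)` is `V ↦ H^p(V, f_* J)` for `J` K-injective. -/
noncomputable def pushHDUIso [J.IsKInjective] :
    (Opens.map f).op ⋙ CohCx.HDUPresheaf (Q.obj J) p ≅
      CohCx.HDUPresheaf (Q.obj (HyperPush.pushCx f J)) p :=
  have := isKInjective_pushCx f J
  (Functor.isoWhiskerLeft (Opens.map f).op (HDSheafify.preHomologyIso J p)).symm ≪≫
    ((HDSheafify.T J p).mapHomologyIso (HyperPush.Wh f)).symm ≪≫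
    (ShortComplex.homologyMapIso (HyperPush.scIso f J p)).symm ≪≫
    HDSheafify.preHomologyIso (HyperPush.pushCx f J) p

end push

section bounded

variable {C : Type u} [SmallCategory C] {J : GrothendieckTopology C}
  [HasDerivedCategory.{u} (Sheaf J AddCommGrpCat.{u})]
  (I : CochainComplex (Sheaf J AddCommGrpCat.{u}) ℤ) [I.IsKInjective] [I.IsStrictlyGE 0]

lemma isZero_HDUPresheaf (i : ℤ) (hi : i < 0) : IsZero (CohCx.HDUPresheaf (Q.obj I) i) := by
  refine IsZero.of_iso ?_ (HDSheafify.preHomologyIso I i).symm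
  have h1 : IsZero (I.X i) := CochainComplex.isZero_of_isStrictlyGE I 0 i hi
  have h2 : IsZero (HDSheafify.T I i).X₂ :=
    (sheafToPresheaf J AddCommGrpCat.{u}).map_isZero h1
  exact (ShortComplex.exact_iff_isZero_homology _).1 (ShortComplex.exact_of_isZero_X₂ _ h2)

/-- `U ↦ H^0(U, I)` is the underlying presheaf of the sheaf `ker(I^0 ⟶ I^1)`. -/
noncomputable def hduZeroIso :
    CohCx.HDUPresheaf (Q.obj I) 0 ≅ (kernel (I.sc 0).g).obj := by
  have h1 : IsZero (I.X ((ComplexShape.up ℤ).prev 0)) :=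
    CochainComplex.isZero_of_isStrictlyGE I 0 _ (by simp)
  have hf : (HDSheafify.T I 0).f = 0 :=
    ((sheafToPresheaf J AddCommGrpCat.{u}).map_isZero h1).eq_of_src _ _
  let c : KernelFork (I.sc 0).g := KernelFork.ofι (kernel.ι (I.sc 0).g) (kernel.condition _)
  have hc : IsLimit c := kernelIsKernel _
  let h := ShortComplex.LeftHomologyData.ofIsLimitKernelFork (HDSheafify.T I 0) hf
    (c.map (sheafToPresheaf J AddCommGrpCat.{u}))
    (c.mapIsLimit hc (sheafToPresheaf J AddCommGrpCat.{u}))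
  exact (HDSheafify.preHomologyIso I 0).symm ≪≫ h.homologyIso

lemma isSheaf_HDUPresheaf_zero : Presheaf.IsSheaf J (CohCx.HDUPresheaf (Q.obj I) 0) :=
  (Presheaf.isSheaf_of_iso_iff (hduZeroIso I)).2 (kernel (I.sc 0).g).property

end bounded

section main

variable {X Y : TopCat.{u}} (f : X ⟶ Y) [HasDerivedCategory.{u} (CohTop.Ab X)]

theorem neg_vanishing_and_isSheaf (B : Set (Opens Y)) (hB : Opens.IsBasis B)
    (K : DerivedCategory (CohTop.Ab X))
    (h : ∀ V ∈ B, ∀ i : ℤ, i < 0 → Subsingleton (CohCx.HDU K i ((Opens.map f).obj V))) :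
    (∀ (V : Opens Y) (i : ℤ), i < 0 → Subsingleton (CohCx.HDU K i ((Opens.map f).obj V))) ∧
    Presheaf.IsSheaf (Opens.grothendieckTopology Y)
      ((Opens.map f).op ⋙ CohCx.HDUPresheaf K 0) := by
  letI : HasDerivedCategory.{u} (CohTop.Ab Y) := H33.BrownGA.hasDerivedCategorySmall _
  obtain ⟨J, g, hJ, hg, -, -⟩ := H33.KInj.exists_kInjective_resolution (Q.objPreimage K)
  have : IsIso (Q.map g) := (DerivedCategory.isIso_Q_map_iff_quasiIso (C := CohTop.Ab X) g).2 hg
  let e : K ≅ Q.obj J := (Q.objObjPreimageIso K).symm ≪≫ asIso (Q.map g)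
  let L := HyperPush.pushCx f J
  have hL : L.IsKInjective := isKInjective_pushCx f J
  let eP : ∀ i : ℤ, (Opens.map f).op ⋙ CohCx.HDUPresheaf K i ≅ CohCx.HDUPresheaf (Q.obj L) i :=
    fun i => Functor.isoWhiskerLeft (Opens.map f).op (HyperPush.hduIso e i) ≪≫ pushHDUIso f J i
  have hGE : (Q.obj L).IsGE 0 := by
    rw [DerivedCategory.isGE_iff]
    intro i hi
    obtain ⟨e1⟩ := HDSheafify.nonempty_sheafify_HDUPresheaf_iso (Q.obj L) i
    refine IsZero.of_iso ?_ e1.symm
    refine IsZero.of_iso (isZero_sheafify B hB ((Opens.map f).op ⋙ CohCx.HDUPresheaf K i) ?_)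
      ((presheafToSheaf _ _).mapIso (eP i).symm)
    intro V hV
    exact h V hV i hi
  obtain ⟨N, hN, ⟨e2⟩⟩ := DerivedCategory.exists_iso_Q_obj_of_isGE (Q.obj L) 0
  obtain ⟨I', ι, hι, hI', hI'0⟩ :=
    CochainComplex.Plus.modelCategoryQuillen.exists_quasiIso_injective N 0
  have hK' : I'.IsKInjective := CochainComplex.isKInjective_of_injective I' 0
  have : IsIso (Q.map ι) := (DerivedCategory.isIso_Q_map_iff_quasiIso (C := CohTop.Ab Y) ι).2 hι
  let e3 : Q.obj L ≅ Q.obj I' := e2 ≪≫ asIso (Q.map ι)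
  let eP' : ∀ i : ℤ, (Opens.map f).op ⋙ CohCx.HDUPresheaf K i ≅ CohCx.HDUPresheaf (Q.obj I') i :=
    fun i => eP i ≪≫ HyperPush.hduIso e3 i
  constructor
  · intro V i hi
    have hz : IsZero (((Opens.map f).op ⋙ CohCx.HDUPresheaf K i).obj (op V)) :=
      ((isZero_HDUPresheaf I' i hi).of_iso (eP' i)).obj (op V)
    exact (AddCommGrpCat.subsingleton_of_isZero hz)
  · exact (Presheaf.isSheaf_of_iso_iff (eP' 0)).2 (isSheaf_HDUPresheaf_zero I')

end main

end Groth.Agent.H30.NegVanish
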