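import Groth.Agent.H4.ExtZero
import Groth.Agent.H30.KInjAdj
import Mathlib.CategoryTheory.Sites.Over

/-!
# Extension by zero `j_!` from the localized site `C/U` is exact;
restriction to `C/U` preserves injectives and K-injective complexes
-/

set_option autoImplicit false
universe u
open CategoryTheory Limits Opposite

namespace Groth.Agent.H30.OverShriek

open Groth.Agent.H4.ExtZero

variable {C : Type u} [SmallCategory C] (J : GrothendieckTopology C) (U : C)

variable (V : C)

/-- The indexing category of the pointwise left Kan extension at `V`. -/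
abbrev JV : Type u := CostructuredArrow (Over.forget U).op (op V)

variable {U V}

/-- the component of an object of `JV`. -/
def comp (c : JV U V) : V ⟶ U := c.hom.unop ≫ c.left.unop.hom

lemma comp_eq_of_hom {c c' : JV U V} (g : c ⟶ c') : comp c = comp c' := by
  have w := CostructuredArrow.w g
  have w' : c'.hom.unop ≫ g.left.unop.left = c.hom.unop := by
    rw [← w]; rfl
  have h2 : g.left.unop.left ≫ c.left.unop.hom = c'.left.unop.hom := Over.w g.left.unop
  calc comp c = (c'.hom.unop ≫ g.left.unop.left) ≫ c.left.unop.hom :=
        congrArg (fun z => z ≫ c.left.unop.hom) w'.symm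
    _ = c'.hom.unop ≫ (g.left.unop.left ≫ c.left.unop.hom) := Category.assoc _ _ _
    _ = comp c' := congrArg (fun z => c'.hom.unop ≫ z) h2

variable (U V)

/-- The "component" functor. -/
def L : JV U V ⥤ Discrete (V ⟶ U) where
  obj c := ⟨comp c⟩
  map g := Discrete.eqToHom (comp_eq_of_hom g)

/-- The terminal objects of the components. -/
def R : Discrete (V ⟶ U) ⥤ JV U V :=
  Discrete.functor fun φ => CostructuredArrow.mk (Y := op (Over.mk φ)) (𝟙 V).op

variable {U V}

lemma comp_R (φ : V ⟶ U) : comp ((R U V).obj ⟨φ⟩) = φ := by
  change 𝟙 _ ≫ φ = φ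
  exact Category.id_comp _

instance subsingleton_hom_R (c : JV U V) (d : Discrete (V ⟶ U)) :
    Subsingleton (c ⟶ (R U V).obj d) := by
  constructor
  intro m m'
  have key : ∀ m : c ⟶ (R U V).obj d, m.left.unop.left = c.hom.unop := by
    intro m
    have w := CostructuredArrow.w m
    have w' : 𝟙 V ≫ m.left.unop.left = c.hom.unop := by
      rw [← w]; rfl
    exact (Category.id_comp _).symm.trans w'
  apply CostructuredArrow.hom_ext
  apply Quiver.Hom.unop_inj
  apply Over.OverMorphism.ext
  rw [key m, key m']

/-- the unique map from `c` to the terminal object of its component. -/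
def toR (c : JV U V) (φ : V ⟶ U) (h : comp c = φ) : c ⟶ (R U V).obj ⟨φ⟩ :=
  CostructuredArrow.homMk
    (Over.homMk (U := Over.mk φ) (V := c.left.unop) c.hom.unop h).op
    (by
      apply Quiver.Hom.unop_inj
      change 𝟙 _ ≫ c.hom.unop = c.hom.unop
      exact Category.id_comp _)

variable (U V)

/-- The adjunction exhibiting `JV` as a disjoint union of categories with terminal objects. -/
def adj : L U V ⊣ R U V :=
  Adjunction.mkOfHomEquiv
    { homEquiv := fun c d =>
        { toFun := fun h => toR c d.as (Discrete.eq_of_hom h)
          invFun := fun m => Discrete.eqToHom ((comp_eq_of_hom m).trans (comp_R d.as))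
          left_inv := fun _ => Subsingleton.elim _ _
          right_inv := fun _ => Subsingleton.elim _ _ }
      homEquiv_naturality_left_symm := fun _ _ => Subsingleton.elim _ _
      homEquiv_naturality_right := fun _ _ => Subsingleton.elim _ _ }

instance hasExactColimitsOfShape_JV (V : Cᵒᵖ) :
    HasExactColimitsOfShape (CostructuredArrow (Over.forget U).op V) AddCommGrpCat.{u} :=
  hasExactColimitsOfShape_of_discrete_adjoint AddCommGrpCat.{u} (adj U V.unop)

instance lan_preservesFiniteLimits :
    PreservesFiniteLimits ((Over.forget U).op.lan :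
      ((Over U)ᵒᵖ ⥤ AddCommGrpCat.{u}) ⥤ Cᵒᵖ ⥤ AddCommGrpCat.{u}) :=
  lan_preservesFiniteLimits_of_exact AddCommGrpCat.{u} (Over.forget U).op

/-- Extension by zero `j_!` from `C/U`. -/
noncomputable abbrev shriek : Sheaf (J.over U) AddCommGrpCat.{u} ⥤ Sheaf J AddCommGrpCat.{u} :=
  (Over.forget U).sheafPullback AddCommGrpCat.{u} (J.over U) J

/-- Restriction to `C/U`. -/
noncomputable abbrev restr : Sheaf J AddCommGrpCat.{u} ⥤ Sheaf (J.over U) AddCommGrpCat.{u} :=
  (Over.forget U).sheafPushforwardContinuous AddCommGrpCat.{u} (J.over U) J

/-- `j_! ⊣ (-)|_U`. -/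
noncomputable def shriekAdj : shriek J U ⊣ restr J U :=
  (Over.forget U).sheafAdjunctionContinuous AddCommGrpCat.{u} (J.over U) J

/-- Extension by zero is left exact. -/
instance preservesFiniteLimits_shriek : PreservesFiniteLimits (shriek J U) :=
  Functor.sheafPullbackConstruction.preservesFiniteLimits (Over.forget U) AddCommGrpCat.{u}
    (J.over U) J

instance preservesFiniteColimits_shriek : PreservesFiniteColimits (shriek J U) := by
  have : (shriek J U).IsLeftAdjoint := (shriekAdj J U).isLeftAdjoint
  exact ⟨fun _ _ _ => inferInstance⟩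

instance additive_restr : (restr J U).Additive := {}

instance additive_shriek : (shriek J U).Additive := (shriekAdj J U).left_adjoint_additive

/-- Restriction to `C/U` preserves injective abelian sheaves. -/
lemma injective_restr (Q : Sheaf J AddCommGrpCat.{u}) [Injective Q] :
    Injective ((restr J U).obj Q) := by
  have : (shriek J U).PreservesMonomorphisms := inferInstance
  exact Injective.injective_of_adjoint (shriekAdj J U) Q

/-- Restriction to `C/U` preserves K-injective complexes. -/
theorem isKInjective_restr (I : CochainComplex (Sheaf J AddCommGrpCat.{u}) ℤ) [I.IsKInjective] :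
    CochainComplex.IsKInjective (((restr J U).mapHomologicalComplex (ComplexShape.up ℤ)).obj I) :=
  KInjAdj.isKInjective_map (shriekAdj J U) I

end Groth.Agent.H30.OverShriek
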