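import Mathlib
import Groth.Agent.H47.QCohAffine
import Groth.Agent.H30.RpushQC.RestrictInj
import Groth.Agent.H8.QcqsPush
import Groth.Agent.H12.QCohAbelian
import Groth.Agent.H18.QCohLocal

/-!
# Colimits of quasi-coherent modules on a scheme are quasi-coherent
-/

set_option autoImplicit false
universe u
open CategoryTheory Limits TopologicalSpace Opposite AlgebraicGeometry

namespace Groth.Agent.H30.QCohColimit

open Scheme.Modules Groth.Agent.H30.RpushQC

theorem isQuasicoherent_colimit_of_isAffine {Y : Scheme.{u}} [IsAffine Y] {J : Type u}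
    [SmallCategory J] (F : J ⥤ Y.Modules) (hF : ∀ j, (F.obj j).IsQuasicoherent) :
    (colimit F).IsQuasicoherent := by
  let e : Y ≅ Spec Γ(Y, ⊤) := Y.isoSpec
  let R : Y.Modules ⥤ (Spec Γ(Y, ⊤)).Modules := restrictFunctor e.inv
  have : PreservesColimitsOfSize.{u, u} R :=
    (restrictAdjunction e.inv).leftAdjoint_preservesColimits
  have h1 : (colimit (F ⋙ R)).IsQuasicoherent :=
    Groth.Agent.H47.isQuasicoherent_colimit _ (fun j => by
      have := hF j
      exact inferInstanceAs ((restrictFunctor e.inv).obj (F.obj j)).IsQuasicoherent)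
  have e1 : R.obj (colimit F) ≅ colimit (F ⋙ R) := preservesColimitIso R F
  have h2 : (R.obj (colimit F)).IsQuasicoherent :=
    Groth.Agent.H12.QCohAbelian.isQuasicoherent_of_iso e1.symm
  have h3 : ((pushforward e.inv).obj (R.obj (colimit F))).IsQuasicoherent :=
    Groth.Agent.H8.isQuasicoherent_pushforward_of_qcqs e.inv _
  have hu : IsIso ((restrictAdjunction e.inv).unit.app (colimit F)) := inferInstance
  have h4 : ((restrictFunctor e.inv ⋙ pushforward e.inv).obj (colimit F)).IsQuasicoherent := h3
  exact Groth.Agent.H12.QCohAbelian.isQuasicoherent_of_iso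
    (asIso ((restrictAdjunction e.inv).unit.app (colimit F))).symm

/-- colimits of quasi-coherent modules are quasi-coherent -/
theorem isQuasicoherent_colimit {X : Scheme.{u}} {J : Type u} [SmallCategory J]
    (F : J ⥤ X.Modules) (hF : ∀ j, (F.obj j).IsQuasicoherent) :
    (colimit F).IsQuasicoherent := by
  refine Groth.Agent.H18.isQuasicoherent_of_isOpenCover _
    (fun V : X.affineOpens => (V : X.Opens)) ?_ (fun V => ?_)
  · exact iSup_affineOpens_eq_top X
  · have : IsAffine (V : X.Opens) := V.2
    let R : X.Modules ⥤ ((V : X.Opens) : Scheme.{u}).Modules := restrictFunctor (V : X.Opens).ι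
    have : PreservesColimitsOfSize.{u, u} R :=
      (restrictAdjunction (V : X.Opens).ι).leftAdjoint_preservesColimits
    have h1 : (colimit (F ⋙ R)).IsQuasicoherent :=
      isQuasicoherent_colimit_of_isAffine _ (fun j => by
        have := hF j
        exact inferInstanceAs ((restrictFunctor (V : X.Opens).ι).obj (F.obj j)).IsQuasicoherent)
    have e1 : R.obj (colimit F) ≅ colimit (F ⋙ R) := preservesColimitIso R F
    exact Groth.Agent.H12.QCohAbelian.isQuasicoherent_of_iso e1.symm

end Groth.Agent.H30.QCohColimit
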