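import Mathlib.Algebra.Homology.DerivedCategory.RightDerivedFunctorPlus
import Mathlib.CategoryTheory.Triangulated.Adjunction

/-!
# `F.rightDerivedFunctorPlus` is a triangulated functor
-/

set_option autoImplicit false

universe w w' v v' u u'

open CategoryTheory Limits Pretriangulated

namespace Groth.Agent.H30.RDPlus

variable {A : Type u} [Category.{v} A] [Abelian A] [HasDerivedCategory.{w} A] [EnoughInjectives A]
  {B : Type u'} [Category.{v'} B] [Abelian B] [HasDerivedCategory.{w'} B]

variable (A) in
/-- The inclusion `K⁺(Inj A) ⥤ K⁺(A)`. -/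
noncomputable abbrev J : HomotopyCategory.Plus (InjectiveObject A) ⥤ HomotopyCategory.Plus A :=
  (InjectiveObject.ι A).mapHomotopyCategoryPlus

variable (A) in
/-- The functor `K⁺(Inj A) ⥤ D⁺(A)`, which is an equivalence. -/
noncomputable abbrev G : HomotopyCategory.Plus (InjectiveObject A) ⥤ DerivedCategory.Plus A :=
  J A ⋙ DerivedCategory.Plus.Qh

omit [HasDerivedCategory A] [EnoughInjectives A] in
lemma isKInjective_J_obj (Y : HomotopyCategory.Plus (InjectiveObject A)) :
    CochainComplex.IsKInjective ((J A).obj Y).1.as := by
  obtain ⟨K, rfl⟩ := HomotopyCategory.Plus.quotient_obj_surjective Y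
  exact inferInstanceAs (CochainComplex.IsKInjective
      (((InjectiveObject.ι A).mapHomologicalComplex (.up ℤ)).obj K.obj))

instance : (G A).Full where
  map_surjective {X Y} f := by
    obtain ⟨g, hg⟩ := (DerivedCategory.Plus.Qh_map_bijective_of_isKInjective ((J A).obj X)
      ((J A).obj Y) (isKInjective_J_obj Y)).2 f
    obtain ⟨h, rfl⟩ := (J A).map_surjective g
    exact ⟨h, hg⟩

instance : (G A).Faithful where
  map_injective {X Y} f g h := by
    apply (J A).map_injective
    exact (DerivedCategory.Plus.Qh_map_bijective_of_isKInjective ((J A).obj X)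
      ((J A).obj Y) (isKInjective_J_obj Y)).1 h

instance : (G A).IsEquivalence where

variable (A) in
/-- The equivalence `K⁺(Inj A) ≌ D⁺(A)`. -/
noncomputable def equiv : HomotopyCategory.Plus (InjectiveObject A) ≌ DerivedCategory.Plus A :=
  (G A).asEquivalence

noncomputable instance : (equiv A).functor.CommShift ℤ :=
  inferInstanceAs ((G A).CommShift ℤ)

instance : (equiv A).functor.IsTriangulated :=
  inferInstanceAs ((G A).IsTriangulated)

noncomputable instance : (equiv A).inverse.CommShift ℤ := (equiv A).commShiftInverse ℤ

instance : (equiv A).CommShift ℤ := (equiv A).commShift_of_functor ℤ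

instance : (equiv A).inverse.IsTriangulated :=
  (equiv A).toAdjunction.isTriangulated_rightAdjoint

variable (F : A ⥤ B) [F.Additive]

/-- The functor `K⁺(A) ⥤ D⁺(B)` induced by `F`. -/
noncomputable abbrev F' : HomotopyCategory.Plus A ⥤ DerivedCategory.Plus B :=
  F.mapHomotopyCategoryPlus ⋙ DerivedCategory.Plus.Qh

/-- A triangulated model of the right derived functor. -/
noncomputable abbrev R' : DerivedCategory.Plus A ⥤ DerivedCategory.Plus B :=
  (equiv A).inverse ⋙ J A ⋙ F' F

/-- The restriction of the unit of the derived functor to `K⁺(Inj A)` is an isomorphism. -/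
noncomputable def unitIso : J A ⋙ F' F ≅ G A ⋙ F.rightDerivedFunctorPlus :=
  NatIso.ofComponents (fun Y => asIso (F.rightDerivedFunctorPlusUnit.app ((J A).obj Y)))
    (fun f => F.rightDerivedFunctorPlusUnit.naturality ((J A).map f))

/-- The derived functor identifies with the triangulated model. -/
noncomputable def isoR' : F.rightDerivedFunctorPlus ≅ R' F :=
  (Functor.leftUnitor _).symm ≪≫
    Functor.isoWhiskerRight (equiv A).counitIso.symm F.rightDerivedFunctorPlus ≪≫
    Functor.associator _ _ _ ≪≫
    Functor.isoWhiskerLeft (equiv A).inverse (unitIso F).symm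

noncomputable instance : (R' F).CommShift ℤ := inferInstance

instance : (R' F).IsTriangulated := inferInstance

/-- The commutation with shifts of the right derived functor. -/
noncomputable instance commShift : F.rightDerivedFunctorPlus.CommShift ℤ :=
  Functor.CommShift.ofIso (isoR' F).symm ℤ

instance : NatTrans.CommShift (isoR' F).symm.hom ℤ :=
  Functor.CommShift.ofIso_compatibility (isoR' F).symm ℤ

instance isTriangulated : F.rightDerivedFunctorPlus.IsTriangulated :=
  Functor.isTriangulated_of_iso (isoR' F).symm

end Groth.Agent.H30.RDPlus
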