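import Groth.Agent.H30.SectSuppSS
import Groth.Agent.H30.SectSuppExact
import Groth.Agent.H30.Degenerate

/-!
# `Γ_Z ⋙ Hom(ℤ_V, -) ≅ Hom(ℤ_V/ℤ_{V ∩ U}, -)` for an arbitrary open `V`, and low degree consequences
-/

set_option autoImplicit false
universe u
open CategoryTheory Limits TopologicalSpace Opposite

namespace Groth.Agent.H30.SectSuppV

open Groth.Agent.H30.FlasqueAcyclic Groth.Agent.H30.SectSupp

variable {X : TopCat.{u}} (U V : Opens X)

/-- `ℤ_V`. -/
noncomputable abbrev zV : CohTop.Ab X := CohCx.freeSheaf (Opens.grothendieckTopology X) V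

/-- `ℤ_{V ∩ U} ⟶ ℤ_V`. -/
noncomputable abbrev ιV : zV (V ⊓ U) ⟶ zV V :=
  CohCx.freeSheafMap (Opens.grothendieckTopology X) (homOfLE (inf_le_left : V ⊓ U ≤ V))

lemma inf_le_cap : V ⊓ U ≤ cap U V := fun x hx => (mem_cap U V x).2 ⟨hx.1, hx.2⟩

lemma cap_le_inf : cap U V ≤ V ⊓ U := fun x hx => ⟨((mem_cap U V x).1 hx).1, ((mem_cap U V x).1 hx).2⟩

/-- A map `ℤ_V ⟶ F` is killed by the unit iff it kills `ℤ_{V ∩ U}`. -/
lemma comp_η_eq_zero_iff (F : CohTop.Ab X) (φ : zV V ⟶ F) :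
    φ ≫ η U F = 0 ↔ ιV U V ≫ φ = 0 := by
  have hmap : ∀ {A B : Opens X} (i i' : A ⟶ B) (x : F.obj.obj (op B)),
      (F.obj.map i.op).hom x = (F.obj.map i'.op).hom x := fun i i' x => by
    rw [Subsingleton.elim i i']
  have h1 : φ ≫ η U F = 0 ↔
      ((η U F).hom.app (op V)).hom (CohFree.evalGen _ V F φ) = 0 := by
    rw [← evalGen_comp]
    constructor
    · intro h; rw [h, map_zero]
    · intro h
      apply evalGen_injective
      rw [h, map_zero]
  have h2 : ιV U V ≫ φ = 0 ↔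
      (F.obj.map (homOfLE (inf_le_left : V ⊓ U ≤ V)).op).hom (CohFree.evalGen _ V F φ) = 0 := by
    rw [← CohFree.evalGen_freeSheafMap_comp]
    constructor
    · intro h; rw [h, map_zero]
    · intro h
      apply evalGen_injective
      rw [h, map_zero]
  rw [h1, h2, η_eq_zero_iff]
  set s := CohFree.evalGen _ V F φ
  constructor
  · intro h
    have : (F.obj.map (homOfLE (inf_le_cap U V)).op).hom
        ((F.obj.map (homOfLE (cap_le U V)).op).hom s) = 0 := by rw [h, map_zero]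
    rw [← ConcreteCategory.comp_apply, ← F.obj.map_comp] at this
    exact (hmap _ _ _).trans this
  · intro h
    have : (F.obj.map (homOfLE (cap_le_inf U V)).op).hom
        ((F.obj.map (homOfLE (inf_le_left : V ⊓ U ≤ V)).op).hom s) = 0 := by rw [h, map_zero]
    rw [← ConcreteCategory.comp_apply, ← F.obj.map_comp] at this
    exact (hmap _ _ _).trans this

/-- forward map -/
noncomputable def θFwd (F : CohTop.Ab X) (ψ : zV V ⟶ CohCx.sectSupp U F) :
    LocCohZ.zq (inf_le_left : V ⊓ U ≤ V) ⟶ F :=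
  cokernel.desc (ιV U V) (ψ ≫ k U F) ((comp_η_eq_zero_iff U V F _).1 (by
    rw [Category.assoc]
    exact (congrArg (fun t => ψ ≫ t) (kernel.condition (η U F))).trans comp_zero))

lemma π_θFwd (F : CohTop.Ab X) (ψ : zV V ⟶ CohCx.sectSupp U F) :
    cokernel.π (ιV U V) ≫ θFwd U V F ψ = ψ ≫ k U F :=
  cokernel.π_desc _ _ _

/-- backward map -/
noncomputable def θBwd (F : CohTop.Ab X) (χ : LocCohZ.zq (inf_le_left : V ⊓ U ≤ V) ⟶ F) :
    zV V ⟶ CohCx.sectSupp U F :=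
  kernel.lift (η U F) (cokernel.π (ιV U V) ≫ χ) ((comp_η_eq_zero_iff U V F _).2 (by
    rw [cokernel.condition_assoc, zero_comp]))

lemma θBwd_k (F : CohTop.Ab X) (χ : LocCohZ.zq (inf_le_left : V ⊓ U ≤ V) ⟶ F) :
    θBwd U V F χ ≫ k U F = cokernel.π (ιV U V) ≫ χ :=
  kernel.lift_ι _ _ _

/-- `Hom(ℤ_V, Γ_Z F) ≃ Hom(ℤ_V/ℤ_{V ∩ U}, F)`. -/
noncomputable def θEquiv (F : CohTop.Ab X) :
    (zV V ⟶ CohCx.sectSupp U F) ≃+ (LocCohZ.zq (inf_le_left : V ⊓ U ≤ V) ⟶ F) where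
  toFun := θFwd U V F
  invFun := θBwd U V F
  left_inv ψ := (cancel_mono (k U F)).1 ((θBwd_k U V F _).trans (π_θFwd U V F ψ))
  right_inv χ := (cancel_epi (cokernel.π (ιV U V))).1 ((π_θFwd U V F _).trans (θBwd_k U V F χ))
  map_add' ψ ψ' := (cancel_epi (cokernel.π (ιV U V))).1 (by
    rw [π_θFwd, Preadditive.comp_add, π_θFwd, π_θFwd, Preadditive.add_comp])

lemma θFwd_naturality {F F' : CohTop.Ab X} (g : F ⟶ F') (ψ : zV V ⟶ CohCx.sectSupp U F) :
    θFwd U V F' (ψ ≫ (LocCohZ.sectSuppF U).map g) = θFwd U V F ψ ≫ g := by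
  apply (cancel_epi (cokernel.π (ιV U V))).1
  have h1 := π_θFwd U V F' (ψ ≫ (LocCohZ.sectSuppF U).map g)
  have h2 := π_θFwd U V F ψ
  have h3 : (LocCohZ.sectSuppF U).map g ≫ k U F' = k U F ≫ g := kernel.lift_ι _ _ _
  refine h1.trans (Eq.trans ?_ (congrArg (fun t => t ≫ g) h2).symm)
  exact (Category.assoc _ _ _).trans ((congrArg (fun t => ψ ≫ t) h3).trans
    (Category.assoc _ _ _).symm)

/-- The natural isomorphism `Γ_Z ⋙ Hom(ℤ_V, -) ≅ Hom(ℤ_V/ℤ_{V ∩ U}, -)`. -/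
noncomputable def θ :
    LocCohZ.sectSuppF U ⋙ preadditiveCoyoneda.obj (op (zV V)) ≅
      preadditiveCoyoneda.obj (op (LocCohZ.zq (inf_le_left : V ⊓ U ≤ V))) :=
  NatIso.ofComponents (fun F => (θEquiv U V F).toAddCommGrpIso) (by
    intro F F' g
    ext ψ
    exact θFwd_naturality U V g ψ)

section LowDegree

open Leray

variable [HasDerivedCategory.{u + 1} (CohTop.Ab X)] [HasDerivedCategory.{u + 1} AddCommGrpCat.{u}]

lemma hT : ∀ Q : CohTop.Ab X, Injective Q → ∀ q : ℕ, 0 < q →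
    IsZero (((preadditiveCoyoneda.obj (op (zV V))).rightDerived q).obj
      ((LocCohZ.sectSuppF U).obj Q)) := by
  intro Q hQ q hq
  obtain ⟨e⟩ := ExtDerived.nonempty_iso_rightDerived (zV V) q ((LocCohZ.sectSuppF U).obj Q)
  refine IsZero.of_iso ?_ e.symm
  have : TopCat.Sheaf.IsFlasque Q := Flasque.isFlasque_of_injective Q
  have : TopCat.Sheaf.IsFlasque ((LocCohZ.sectSuppF U).obj Q) := isFlasque_sectSupp U Q
  obtain ⟨q', rfl⟩ : ∃ q', q = q' + 1 := ⟨q - 1, by lia⟩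
  have h := subsingleton_HU ((LocCohZ.sectSuppF U).obj Q) V q'
  exact @AddCommGrpCat.isZero_of_subsingleton _ h

/-- `H^n_{Z ∩ V}(V, F) ≅ Rⁿ(Γ_Z ⋙ Hom(ℤ_V, -))(F)`. -/
lemma nonempty_HZ_iso (F : CohTop.Ab X) (n : ℕ) :
    Nonempty (AddCommGrpCat.of (LocCohZ.HZ F n (inf_le_left : V ⊓ U ≤ V)) ≅
      ((LocCohZ.sectSuppF U ⋙ preadditiveCoyoneda.obj (op (zV V))).rightDerived n).obj F) := by
  obtain ⟨e⟩ := ExtDerived.nonempty_iso_rightDerived
    (LocCohZ.zq (inf_le_left : V ⊓ U ≤ V)) n F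
  exact ⟨e ≪≫ ((GrothSSExt.rightDerivedIsoOfIso (θ U V) n).app F).symm⟩

omit [HasDerivedCategory.{u + 1} (CohTop.Ab X)] [HasDerivedCategory.{u + 1} AddCommGrpCat.{u}] in
/-- A sheaf all of whose `Hom(ℤ_V, -)` vanish is zero. -/
lemma isZero_of_subsingleton_hom (G : CohTop.Ab X) (h : ∀ V : Opens X, Subsingleton (zV V ⟶ G)) :
    IsZero G := by
  rw [IsZero.iff_id_eq_zero]
  apply Sheaf.hom_ext
  apply NatTrans.ext
  funext W
  ext s
  obtain ⟨W⟩ := W
  have := h W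
  have h1 : CohFree.ofSect (Opens.grothendieckTopology X) W G s =
      CohFree.ofSect (Opens.grothendieckTopology X) W G 0 := Subsingleton.elim _ _
  have h2 := congrArg (CohFree.evalGen (Opens.grothendieckTopology X) W G) h1
  rw [CohFree.evalGen_ofSect, CohFree.evalGen_ofSect] at h2
  rw [h2]
  simp

/-- The local cohomology sheaves `ℋ^i_Z(F)` vanish for `i < n` iff the groups
`H^i_{Z ∩ V}(V, F)` vanish for all opens `V` and `i < n`. -/
theorem HZsh_isZero_iff (F : CohTop.Ab X) (n : ℕ) :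
    (∀ i : ℕ, i < n → IsZero ((LocCohZ.HZsh U i).obj F)) ↔
      ∀ (V : Opens X) (i : ℕ), i < n →
        Subsingleton (LocCohZ.HZ F i (inf_le_left : V ⊓ U ≤ V)) := by
  constructor
  · intro h V i hi
    obtain ⟨e⟩ := nonempty_HZ_iso U V F i
    have hz := (Degenerate.lowDegree (LocCohZ.sectSuppF U)
      (preadditiveCoyoneda.obj (op (zV V))) (hT U V) F n h).1 i hi
    have hz' : IsZero (AddCommGrpCat.of (LocCohZ.HZ F i (inf_le_left : V ⊓ U ≤ V))) :=
      hz.of_iso e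
    exact AddCommGrpCat.subsingleton_of_isZero hz'
  · intro h i
    induction i using Nat.strong_induction_on with
    | _ i ih =>
      intro hi
      apply isZero_of_subsingleton_hom
      intro V
      obtain ⟨e⟩ := nonempty_HZ_iso U V F i
      obtain ⟨e'⟩ := (Degenerate.lowDegree (LocCohZ.sectSuppF U)
        (preadditiveCoyoneda.obj (op (zV V))) (hT U V) F i
        (fun q hq => ih q hq (hq.trans hi))).2
      have := h V i hi
      have hz : IsZero (AddCommGrpCat.of (LocCohZ.HZ F i (inf_le_left : V ⊓ U ≤ V))) :=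
        AddCommGrpCat.isZero_of_subsingleton _
      have hz' := hz.of_iso (e ≪≫ e').symm
      exact AddCommGrpCat.subsingleton_of_isZero hz'

end LowDegree

end Groth.Agent.H30.SectSuppV
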