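import Groth.Agent.H30.ExtRD
import Groth.Agent.H30.SectSuppV
import Groth.Agent.H30.RestrOpen

/-!
# `R^q Γ_Z(X, -) ≅ Ext^q(ℤ_X/ℤ_U, -)` as functors
-/

set_option autoImplicit false
universe u
open CategoryTheory Limits TopologicalSpace Opposite Abelian

namespace Groth.Agent.H30.RHZExt

open Groth.Agent.H30.FlasqueAcyclic

variable {X : TopCat.{u}} (U : Opens X)

/-- `Hom(ℤ_X, -) ≅ Γ(X, -)`. -/
noncomputable def evalTopIso :
    preadditiveCoyoneda.obj (op (SectSuppV.zV (⊤ : Opens X))) ≅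
      sheafToPresheaf (Opens.grothendieckTopology X) AddCommGrpCat.{u} ⋙
        (evaluation (Opens X)ᵒᵖ AddCommGrpCat.{u}).obj (op ⊤) :=
  NatIso.ofComponents (fun F => (RestrOpen.evalGenEquiv (⊤ : Opens X) F).toAddCommGrpIso) (by
    intro F F' g
    ext φ
    exact evalGen_comp ⊤ φ g)

/-- `ℤ_V/ℤ_W` only depends on `W` up to equality. -/
noncomputable def zqCongr {W W' V : Opens X} (h : W ≤ V) (h' : W' ≤ V) (e : W = W') :
    LocCohZ.zq h ≅ LocCohZ.zq h' := by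
  subst e
  exact Iso.refl _

/-- `Γ_Z(X, -) ≅ Hom(ℤ_X/ℤ_U, -)`. -/
noncomputable def gammaZFIso :
    LocCohZ.gammaZF U ≅ ExtRD.hM (ToposFin.quotZ (LocCohZ.openSh U)) :=
  (Functor.isoWhiskerLeft (LocCohZ.sectSuppF U) (evalTopIso (X := X)).symm) ≪≫
    SectSuppV.θ U ⊤ ≪≫
    preadditiveCoyoneda.mapIso
      ((zqCongr (inf_le_left : (⊤ : Opens X) ⊓ U ≤ ⊤) (le_top : U ≤ ⊤) (top_inf_eq U)) ≪≫
        (LocCohZ.zqIsoQuotZ U)).symm.op

/-- `R^q Γ_Z(X, -) ≅ Ext^q(ℤ_X/ℤ_U, -)`. -/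
theorem nonempty_RHZ_iso (q : ℕ) :
    Nonempty (LocCohZ.RHZ U q ≅ ToposFin.HZFunctor (LocCohZ.openSh U) q) :=
  ⟨GrothSSExt.rightDerivedIsoOfIso (gammaZFIso U) q ≪≫
    ExtRD.rightDerivedIsoExt (ToposFin.quotZ (LocCohZ.openSh U)) q⟩

end Groth.Agent.H30.RHZExt
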