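import Groth.Agent.H30.RestrOpen
import Groth.Agent.H30.FlasquePush

/-!
# Higher direct images commute with restriction to an open subset of the base
-/

set_option autoImplicit false
universe u
open CategoryTheory Limits TopologicalSpace Opposite

namespace Groth.Agent.H30.RestrPush

open Groth.Agent.H30.FlasqueAcyclic Groth.Agent.H30.SectSupp Leray

variable {X Y : TopCat.{u}} (f : X ⟶ Y) (V : Opens Y)

/-- The restriction `f⁻¹V ⟶ V` of `f`. -/
abbrev g : TopCat.of ((Opens.map f).obj V) ⟶ TopCat.of V :=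
  TopCat.ofHom ⟨(V : Set Y).restrictPreimage f, f.hom.continuous.restrictPreimage⟩

instance : (CohTop.push (g f V)).Additive where

noncomputable instance : PreservesFiniteLimits (CohTop.push (g f V)) :=
  FlasquePush.instPreservesFiniteLimitsAbPush (g f V)

lemma opens_eq (V' : Opens (TopCat.of V)) :
    (Opens.map f).obj ((hj V).isOpenMap.functor.obj V') =
      (hj ((Opens.map f).obj V)).isOpenMap.functor.obj ((Opens.map (g f V)).obj V') := by
  ext x
  constructor
  · rintro ⟨y, hy, hxy⟩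
    have hx : x ∈ (Opens.map f).obj V := by
      change f x ∈ V
      rw [← hxy]
      exact y.2
    refine ⟨⟨x, hx⟩, ?_, rfl⟩
    have : (g f V) ⟨x, hx⟩ = y := Subtype.ext hxy.symm
    change (g f V) ⟨x, hx⟩ ∈ V'
    rw [this]
    exact hy
  · rintro ⟨z, hz, rfl⟩
    exact ⟨(g f V) z, hz, rfl⟩

lemma map_comp_eq {C : Type*} [Category C] (P : (Opens X)ᵒᵖ ⥤ C) {A B B' D : (Opens X)ᵒᵖ}
    (a : A ⟶ B) (b : B ⟶ D) (c : A ⟶ B') (d : B' ⟶ D) :
    P.map a ≫ P.map b = P.map c ≫ P.map d := by
  rw [← P.map_comp, ← P.map_comp]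
  congr 1

/-- `(f_* F)|_V ≅ g_* (F|_{f⁻¹V})`, naturally in `F`. -/
noncomputable def pushRestrIso :
    CohTop.push f ⋙ CohTop.restrFunctor V ≅
      CohTop.restrFunctor ((Opens.map f).obj V) ⋙ CohTop.push (g f V) :=
  NatIso.ofComponents (fun F => (fullyFaithfulSheafToPresheaf _ _).preimageIso
    (NatIso.ofComponents (fun V' => F.obj.mapIso (eqToIso (opens_eq f V V'.unop)).op.symm) (by
      intro V₁ V₂ i
      exact map_comp_eq F.obj _ _ _ _))) (by
    intro F F' φ
    apply (fullyFaithfulSheafToPresheaf _ _).map_injective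
    rw [Functor.map_comp, Functor.map_comp, Functor.FullyFaithful.preimageIso_hom,
      Functor.FullyFaithful.preimageIso_hom, Functor.FullyFaithful.map_preimage,
      Functor.FullyFaithful.map_preimage]
    ext V' : 2
    exact (φ.hom.naturality _).symm)

/-- The restriction of `R^p f_* F` to `V` is `R^p g_* (F|_{f⁻¹V})`. -/
theorem restr_Rpush (F : CohTop.Ab X) (p : ℕ) :
    Nonempty (CohTop.restr ((CohTop.Rpush f p).obj F) V ≅
      (CohTop.Rpush (g f V) p).obj (CohTop.restr F ((Opens.map f).obj V))) := by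
  let _ : HasDerivedCategory.{u + 1} (CohTop.Ab Y) := HasDerivedCategory.standard _
  let _ : HasDerivedCategory.{u + 1} (CohTop.Ab (TopCat.of V)) := HasDerivedCategory.standard _
  let _ : HasDerivedCategory.{u + 1} (CohTop.Ab (TopCat.of ((Opens.map f).obj V))) :=
    HasDerivedCategory.standard _
  have hT1 : ∀ Q : CohTop.Ab X, Injective Q → ∀ q : ℕ, 0 < q →
      IsZero (((CohTop.restrFunctor V).rightDerived q).obj ((CohTop.push f).obj Q)) := by
    intro Q _ q hq
    obtain ⟨j, rfl⟩ : ∃ j, q = j + 1 := ⟨q - 1, by lia⟩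
    exact ExactDerived.isZero_rightDerived_succ _ _ j
  have hac : ∀ q : ℕ, acyclic (CohTop.restrFunctor V) (((CohTop.push f).rightDerived q).obj F) := by
    intro q i hi
    obtain ⟨j, rfl⟩ : ∃ j, i = j + 1 := ⟨i - 1, by lia⟩
    exact ExactDerived.isZero_rightDerived_succ _ _ j
  obtain ⟨e1⟩ := Degenerate.iso_of_acyclic (CohTop.push f) (CohTop.restrFunctor V) hT1 F hac p
  have hT2 : ∀ Q : CohTop.Ab X, Injective Q → ∀ q : ℕ, 0 < q →
      IsZero (((CohTop.push (g f V)).rightDerived q).obj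
        ((CohTop.restrFunctor ((Opens.map f).obj V)).obj Q)) := by
    intro Q _ q hq
    have : TopCat.Sheaf.IsFlasque Q := Flasque.isFlasque_of_injective Q
    exact FlasquePush.acyclic_push (g f V) _ q hq
  have h' : ∀ q : ℕ, 0 < q →
      IsZero (((CohTop.restrFunctor ((Opens.map f).obj V)).rightDerived q).obj F) := by
    intro q hq
    obtain ⟨j, rfl⟩ : ∃ j, q = j + 1 := ⟨q - 1, by lia⟩
    exact ExactDerived.isZero_rightDerived_succ _ _ j
  obtain ⟨e2⟩ := Degenerate.iso_of_isZero_higher (CohTop.restrFunctor ((Opens.map f).obj V))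
    (CohTop.push (g f V)) hT2 F h' p
  exact ⟨e1.symm ≪≫ (GrothSSExt.rightDerivedIsoOfIso (pushRestrIso f V) p).app F ≪≫ e2 ≪≫
    ((CohTop.push (g f V)).rightDerived p).mapIso
      ((CohTop.restrFunctor ((Opens.map f).obj V)).rightDerivedZeroIsoSelf.app F)⟩

end Groth.Agent.H30.RestrPush
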