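import Groth.Agent.H30.Degenerate

/-!
# A way-out lemma on `D⁺`

Let `F : A ⥤ B` be additive, `P` a property of objects of `B` containing the zero objects, closed
under isomorphisms and such that the middle term of a five term exact sequence whose four other
terms satisfy `P` satisfies `P`.  If `KK ∈ D⁺(A)` is such that `P (R^p F (H^q KK))` for all `p, q`,
then `P (H^n (RF KK))` for all `n`.
-/

set_option autoImplicit false
set_option linter.unusedSectionVars false
universe w w' v v' u u'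
open CategoryTheory Limits Pretriangulated ZeroObject

namespace Groth.Agent.H30.WayOut

open DerivedCategory Hyper Leray GrothSS Degenerate

variable {A : Type u} [Category.{v} A] [Abelian A] [HasDerivedCategory.{w} A] [EnoughInjectives A]
  {B : Type u'} [Category.{v'} B] [Abelian B] [HasDerivedCategory.{w'} B]
  (F : A ⥤ B) [F.Additive] (P : B → Prop)

/-- the closure properties needed of `P` -/
structure Closed : Prop where
  zero : ∀ Z : B, IsZero Z → P Z
  iso : ∀ {Z Z' : B}, (Z ≅ Z') → P Z → P Z'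
  five : ∀ {X₁ X₂ X₃ X₄ X₅ : B} (a : X₁ ⟶ X₂) (b : X₂ ⟶ X₃) (c : X₃ ⟶ X₄) (d : X₄ ⟶ X₅)
    (wab : a ≫ b = 0) (wbc : b ≫ c = 0) (wcd : c ≫ d = 0),
    (ShortComplex.mk a b wab).Exact → (ShortComplex.mk b c wbc).Exact →
    (ShortComplex.mk c d wcd).Exact → P X₁ → P X₂ → P X₄ → P X₅ → P X₃

variable {P}

/-- `P` for the middle term of a distinguished triangle, for a homological functor -/
lemma P_obj₂ (hP : Closed P) {T : Type*} [Category T] [HasZeroObject T] [HasShift T ℤ]
    [Preadditive T] [∀ n : ℤ, (shiftFunctor T n).Additive] [Pretriangulated T]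
    (G : T ⥤ B) [G.IsHomological] [G.ShiftSequence ℤ] (X : Triangle T) (hX : X ∈ distTriang T)
    (h₁ : ∀ n : ℤ, P ((G.shift n).obj X.obj₁)) (h₃ : ∀ n : ℤ, P ((G.shift n).obj X.obj₃))
    (n : ℤ) : P ((G.shift n).obj X.obj₂) :=
  hP.five (G.homologySequenceδ X (n - 1) n (by lia)) ((G.shift n).map X.mor₁)
    ((G.shift n).map X.mor₂) (G.homologySequenceδ X n (n + 1) rfl)
    (G.homologySequenceδ_comp X hX _ _ _) (G.homologySequence_comp X hX n)
    (G.comp_homologySequenceδ X hX _ _ _)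
    (G.homologySequence_exact₁ X hX _ _ _) (G.homologySequence_exact₂ X hX n)
    (G.homologySequence_exact₃ X hX _ _ _) (h₃ _) (h₁ _) (h₃ _) (h₁ _)

variable (KK : DerivedCategory.Plus A)

lemma P_Φ_N (hP : Closed P)
    (h : ∀ (q : ℤ) (p : ℕ), P ((F.rightDerived p).obj ((Plus.homologyFunctor A q).obj KK)))
    (q n : ℤ) : P (((Φ F).shift n).obj (N KK q)) := by
  by_cases hn : n < q
  · exact hP.zero _ (isZero_Φ_of_isGE F (N KK q) q n hn)
  · obtain ⟨p, hp⟩ : ∃ p : ℕ, q + (p : ℤ) = n := ⟨(n - q).toNat, by lia⟩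
    obtain ⟨e⟩ := nonempty_Φ_iso_of_isGE_of_isLE F (N KK q) q p n hp
    exact hP.iso (e ≪≫ (F.rightDerived p).mapIso (homologyNIso KK q)).symm (h q p)

lemma P_Φ_tLT (hP : Closed P)
    (h : ∀ (q : ℤ) (p : ℕ), P ((F.rightDerived p).obj ((Plus.homologyFunctor A q).obj KK)))
    (a : ℤ) [KK.IsGE a] (k : ℕ) :
    ∀ n : ℤ, P (((Φ F).shift n).obj (tLT KK (a + k))) := by
  induction k with
  | zero =>
    intro n
    refine hP.zero _ (Functor.map_isZero _ ?_)
    exact Plus.TStructure.t.isZero_eTruncLT_obj_obj KK a _ (by simp)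
  | succ k ih =>
    intro n
    have hcast : a + ((k + 1 : ℕ) : ℤ) = (a + (k : ℤ)) + 1 := by push_cast; ring
    rw [hcast]
    exact P_obj₂ hP (Φ F) (triB KK (a + k)) (triB_dist KK (a + k)) ih
      (P_Φ_N F KK hP h (a + k)) n

/-- **Way-out lemma.** -/
theorem P_Φ (hP : Closed P)
    (h : ∀ (q : ℤ) (p : ℕ), P ((F.rightDerived p).obj ((Plus.homologyFunctor A q).obj KK)))
    (n : ℤ) : P (((Φ F).shift n).obj KK) := by
  obtain ⟨a, ha⟩ := KK.property
  have : KK.IsGE a := (Plus.isGE_ι_obj_iff KK a).1 ha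
  have i₁ := isIso_Φ_map_triA_mor₁ F KK (n + 1) n (by lia)
  have e := @asIso _ _ _ _ _ i₁
  by_cases hna : n + 1 ≤ a
  · exact hP.zero _ (isZero_Φ_of_isGE F KK a n (by lia))
  · obtain ⟨k, hk⟩ : ∃ k : ℕ, a + (k : ℤ) = n + 1 := ⟨(n + 1 - a).toNat, by lia⟩
    have := P_Φ_tLT F KK hP h a k n
    rw [hk] at this
    exact hP.iso e this

end Groth.Agent.H30.WayOut
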