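import Groth.Agent.H30.ClosedAdj
import Groth.Agent.H30.OpenShriek
import Groth.Prelude.Def_SuppFam

/-!
# `Γ_Z` preserves injective abelian sheaves
-/

set_option autoImplicit false
universe u
open CategoryTheory Limits TopologicalSpace Opposite

namespace Groth.Agent.H30.SectSuppInj

open Groth.Agent.H30.ClosedAdj

/-- direct images preserve injectives -/
lemma injective_push {X Y : TopCat.{u}} (f : X ⟶ Y) (I : CohTop.Ab X) [Injective I] :
    Injective ((CohTop.push f).obj I) := by
  have h1 : PreservesFiniteLimits (CohTop.pull f) := SectSupp.preservesFiniteLimits_pull f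
  have h2 : (CohTop.pull f).PreservesMonomorphisms := inferInstance
  exact Injective.injective_of_adjoint (adj f) I

/-- `Γ_Z(I)` is injective for `I` injective. -/
lemma injective_sectSuppF {Y : TopCat.{u}} (U : Opens Y) (I : CohTop.Ab Y) [Injective I] :
    Injective ((LocCohZ.sectSuppF U).obj I) := by
  have h1 : Injective (CohCx.HZ U I) := injective_HZ U I
  have h2 : Injective ((CohTop.push (CohCx.inclCompl U)).obj (CohCx.HZ U I)) :=
    injective_push _ _
  exact Injective.of_iso
    (unitIso (isClosedEmbedding_inclCompl U) U (range_inclCompl U) I).symm h2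

/-- `Γ_Z(I)` is injective for `I` injective and `Z = V ∖ W` locally closed. -/
lemma injective_sectSuppLC {X : TopCat.{u}} (F : CohTop.Ab X) {W V : Opens X} (h : W ≤ V)
    (hF : Injective F) : Injective ((SuppFam.sectSuppLC h).obj F) := by
  have h1 : Injective ((CohTop.restrFunctor V).obj F) := OpenShriek.injective_restr V F
  have h2 : Injective ((LocCohZ.sectSuppF (SuppFam.inOpen V W)).obj
      ((CohTop.restrFunctor V).obj F)) := injective_sectSuppF _ _
  exact injective_push (CohCx.incl V) _

end Groth.Agent.H30.SectSuppInj
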