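import Groth.Agent.H30.SectSupp
import Groth.Agent.H30.FlasqueAcyclic
import Groth.Agent.H30.GrothSSExt

set_option autoImplicit false
universe u
open CategoryTheory Limits TopologicalSpace Opposite

namespace Groth.Agent.H30.SectSupp

open Groth.Agent.H30.FlasqueAcyclic

variable {X : TopCat.{u}} (U : Opens X)

local notation "J" => Opens.grothendieckTopology X

/-- `ℤ_U ⟶ ℤ_X`. -/
noncomputable abbrev ι : CohCx.freeSheaf (Opens.grothendieckTopology X) U ⟶
    CohCx.freeSheaf (Opens.grothendieckTopology X) (⊤ : Opens X) :=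
  CohCx.freeSheafMap (Opens.grothendieckTopology X) (homOfLE (le_top : U ≤ ⊤))

lemma le_cap_top : U ≤ cap U ⊤ := fun x hx => (mem_cap U ⊤ x).2 ⟨trivial, hx⟩

/-- A map `ℤ_X ⟶ F` is killed by the unit iff it kills `ℤ_U`. -/
lemma comp_η_eq_zero_iff (F : CohTop.Ab X)
    (φ : CohCx.freeSheaf (Opens.grothendieckTopology X) (⊤ : Opens X) ⟶ F) :
    φ ≫ η U F = 0 ↔ ι U ≫ φ = 0 := by
  have hmap : ∀ {A B : Opens X} (i i' : A ⟶ B) (x : F.obj.obj (op B)),
      (F.obj.map i.op).hom x = (F.obj.map i'.op).hom x := fun i i' x => by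
    rw [Subsingleton.elim i i']
  have h1 : φ ≫ η U F = 0 ↔
      ((η U F).hom.app (op ⊤)).hom (CohFree.evalGen _ ⊤ F φ) = 0 := by
    rw [← evalGen_comp]
    constructor
    · intro h; rw [h, map_zero]
    · intro h
      apply evalGen_injective
      rw [h, map_zero]
  have h2 : ι U ≫ φ = 0 ↔
      (F.obj.map (homOfLE (le_top : U ≤ ⊤)).op).hom (CohFree.evalGen _ ⊤ F φ) = 0 := by
    rw [← CohFree.evalGen_freeSheafMap_comp]
    constructor
    · intro h; rw [h, map_zero]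
    · intro h
      apply evalGen_injective
      rw [h, map_zero]
  rw [h1, h2, η_eq_zero_iff]
  set s := CohFree.evalGen _ ⊤ F φ
  constructor
  · intro h
    have : (F.obj.map (homOfLE (le_cap_top U)).op).hom
        ((F.obj.map (homOfLE (cap_le U ⊤)).op).hom s) = 0 := by rw [h, map_zero]
    rw [← ConcreteCategory.comp_apply, ← F.obj.map_comp] at this
    exact (hmap _ _ _).trans this
  · intro h
    have : (F.obj.map (homOfLE (cap_le_U U ⊤)).op).hom
        ((F.obj.map (homOfLE (le_top : U ≤ ⊤)).op).hom s) = 0 := by rw [h, map_zero]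
    rw [← ConcreteCategory.comp_apply, ← F.obj.map_comp] at this
    exact (hmap _ _ _).trans this

/-- forward map -/
noncomputable def θFwd (F : CohTop.Ab X)
    (ψ : CohCx.freeSheaf (Opens.grothendieckTopology X) (⊤ : Opens X) ⟶ CohCx.sectSupp U F) :
    LocCohZ.zq (le_top : U ≤ ⊤) ⟶ F :=
  cokernel.desc (ι U) (ψ ≫ k U F) ((comp_η_eq_zero_iff U F _).1 (by
    rw [Category.assoc]
    exact (congrArg (fun t => ψ ≫ t) (kernel.condition (η U F))).trans comp_zero))

lemma π_θFwd (F : CohTop.Ab X)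
    (ψ : CohCx.freeSheaf (Opens.grothendieckTopology X) (⊤ : Opens X) ⟶ CohCx.sectSupp U F) :
    cokernel.π (ι U) ≫ θFwd U F ψ = ψ ≫ k U F :=
  cokernel.π_desc _ _ _

/-- backward map -/
noncomputable def θBwd (F : CohTop.Ab X) (χ : LocCohZ.zq (le_top : U ≤ ⊤) ⟶ F) :
    CohCx.freeSheaf (Opens.grothendieckTopology X) (⊤ : Opens X) ⟶ CohCx.sectSupp U F :=
  kernel.lift (η U F) (cokernel.π (ι U) ≫ χ) ((comp_η_eq_zero_iff U F _).2 (by
    rw [cokernel.condition_assoc, zero_comp]))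

lemma θBwd_k (F : CohTop.Ab X) (χ : LocCohZ.zq (le_top : U ≤ ⊤) ⟶ F) :
    θBwd U F χ ≫ k U F = cokernel.π (ι U) ≫ χ :=
  kernel.lift_ι _ _ _

/-- `Hom(ℤ_X, Γ_Z F) ≃ Hom(ℤ_X/ℤ_U, F)`. -/
noncomputable def θEquiv (F : CohTop.Ab X) :
    (CohCx.freeSheaf (Opens.grothendieckTopology X) (⊤ : Opens X) ⟶ CohCx.sectSupp U F) ≃+
      (LocCohZ.zq (le_top : U ≤ ⊤) ⟶ F) where
  toFun := θFwd U F
  invFun := θBwd U F
  left_inv ψ := (cancel_mono (k U F)).1 ((θBwd_k U F _).trans (π_θFwd U F ψ))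
  right_inv χ := (cancel_epi (cokernel.π (ι U))).1 ((π_θFwd U F _).trans (θBwd_k U F χ))
  map_add' ψ ψ' := (cancel_epi (cokernel.π (ι U))).1 (by
    rw [π_θFwd, Preadditive.comp_add, π_θFwd, π_θFwd, Preadditive.add_comp])

lemma θFwd_naturality {F F' : CohTop.Ab X} (g : F ⟶ F')
    (ψ : CohCx.freeSheaf (Opens.grothendieckTopology X) (⊤ : Opens X) ⟶ CohCx.sectSupp U F) :
    θFwd U F' (ψ ≫ (LocCohZ.sectSuppF U).map g) = θFwd U F ψ ≫ g := by
  apply (cancel_epi (cokernel.π (ι U))).1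
  have h1 := π_θFwd U F' (ψ ≫ (LocCohZ.sectSuppF U).map g)
  have h2 := π_θFwd U F ψ
  have h3 : (LocCohZ.sectSuppF U).map g ≫ k U F' = k U F ≫ g := kernel.lift_ι _ _ _
  refine h1.trans (Eq.trans ?_ (congrArg (fun t => t ≫ g) h2).symm)
  exact (Category.assoc _ _ _).trans ((congrArg (fun t => ψ ≫ t) h3).trans
    (Category.assoc _ _ _).symm)

/-- The natural isomorphism `Γ_Z ⋙ Hom(ℤ_X, -) ≅ Hom(ℤ_X/ℤ_U, -)`. -/
noncomputable def θ :
    LocCohZ.sectSuppF U ⋙ preadditiveCoyoneda.obj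
        (op (CohCx.freeSheaf (Opens.grothendieckTopology X) (⊤ : Opens X))) ≅
      preadditiveCoyoneda.obj (op (LocCohZ.zq (le_top : U ≤ ⊤))) :=
  NatIso.ofComponents (fun F => (θEquiv U F).toAddCommGrpIso) (by
    intro F F' g
    ext ψ
    exact θFwd_naturality U g ψ)

/-- The spectral sequence `H^p(X, ℋ^q_Z(F)) ⟹ H^{p+q}_Z(X, F)`. -/
theorem spectralSequence (F : CohTop.Ab X) :
    ∃ (E : E₂CohomologicalSpectralSequence AddCommGrpCat.{u})
      (a : SpSeq.Abutment E (fun n : ℤ =>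
        if 0 ≤ n then AddCommGrpCat.of (LocCohZ.HZc F n.toNat U)
          else AddCommGrpCat.of PUnit.{u + 1})),
      (∀ n : ℤ, a.IsFinite n) ∧ SpSeq.IsBounded E ∧
      ∀ p q : ℤ, Nonempty ((E.page 2 le_rfl).X (p, q) ≅
        (if 0 ≤ p ∧ 0 ≤ q then
          AddCommGrpCat.of (CohTop.HU ((LocCohZ.HZsh U q.toNat).obj F) p.toNat ⊤)
          else AddCommGrpCat.of PUnit.{u + 1})) := by
  let _ : HasDerivedCategory.{u + 1} (CohTop.Ab X) := HasDerivedCategory.standard _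
  let _ : HasDerivedCategory.{u + 1} AddCommGrpCat.{u} := HasDerivedCategory.standard _
  have hT : ∀ Q : CohTop.Ab X, Injective Q → ∀ q : ℕ, 0 < q →
      IsZero (((preadditiveCoyoneda.obj (op (CohCx.freeSheaf (Opens.grothendieckTopology X)
        (⊤ : Opens X)))).rightDerived q).obj ((LocCohZ.sectSuppF U).obj Q)) := by
    intro Q hQ q hq
    obtain ⟨e⟩ := ExtDerived.nonempty_iso_rightDerived
      (CohCx.freeSheaf (Opens.grothendieckTopology X) (⊤ : Opens X)) q
      ((LocCohZ.sectSuppF U).obj Q)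
    refine IsZero.of_iso ?_ e.symm
    have : TopCat.Sheaf.IsFlasque Q := Flasque.isFlasque_of_injective Q
    have : TopCat.Sheaf.IsFlasque ((LocCohZ.sectSuppF U).obj Q) := isFlasque_sectSupp U Q
    obtain ⟨q', rfl⟩ : ∃ q', q = q' + 1 := ⟨q - 1, by lia⟩
    have h := subsingleton_HU ((LocCohZ.sectSuppF U).obj Q) ⊤ q'
    exact @AddCommGrpCat.isZero_of_subsingleton _ h
  exact GrothSSExt.grothendieck_spectralSequence' (LocCohZ.sectSuppF U)
    (preadditiveCoyoneda.obj (op (CohCx.freeSheaf (Opens.grothendieckTopology X) (⊤ : Opens X))))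
    hT F
    (fun n => AddCommGrpCat.of (LocCohZ.HZc F n U))
    (fun p q => AddCommGrpCat.of (CohTop.HU ((LocCohZ.HZsh U q).obj F) p ⊤))
    (AddCommGrpCat.of PUnit.{u + 1}) (AddCommGrpCat.isZero_of_subsingleton _)
    (fun n => ⟨(GrothSSExt.rightDerivedIsoOfIso (θ U) n).app F ≪≫
      (ExtDerived.nonempty_iso_rightDerived _ n F).some.symm⟩)
    (fun p q => ⟨(ExtDerived.nonempty_iso_rightDerived _ p _).some.symm⟩)

end Groth.Agent.H30.SectSupp
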