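import Mathlib.CategoryTheory.Sites.CartesianMonoidal
import Mathlib.CategoryTheory.Sites.Sheafification
import Mathlib.CategoryTheory.Sites.Limits
import Mathlib.CategoryTheory.Sites.RegularEpi
import Mathlib.CategoryTheory.Sites.LocallySurjective
import Mathlib.CategoryTheory.Monoidal.Cartesian.Grp
import Mathlib.CategoryTheory.Monoidal.Grp
import Mathlib.CategoryTheory.Limits.Shapes.Equalizers
import Mathlib.CategoryTheory.EquivalenceRelation
import Mathlib.CategoryTheory.Limits.Shapes.KernelPair

/-!
# Quotients in categories of sheaves of sets (helper30)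

* `GoodQuot D`: a cartesian monoidal category with pullbacks and coequalizers in which equivalence
  relations are effective, epimorphisms are regular and stable under base change and products.
* `Sheaf J (Type w)` is such a category as soon as `HasSheafify J (Type w)`.
-/

set_option autoImplicit false
set_option linter.unusedSectionVars false
set_option linter.style.haveILetI false
open CategoryTheory CategoryTheory.Limits MonoidalCategory CartesianMonoidalCategory
universe w v₁ u₁ v u

namespace Groth.Agent.H30.ShfQuot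

/-- A cartesian monoidal category in which quotients behave as in a topos. -/
class GoodQuot (D : Type u) [Category.{v} D] [CartesianMonoidalCategory D] [HasPullbacks D]
    [HasCoequalizers D] : Prop where
  effective : ∀ {R X : D} {p₁ p₂ : R ⟶ X} (_ : EquivalenceRelation p₁ p₂) (c : Cofork p₁ p₂),
    Nonempty (IsColimit c) → IsKernelPair c.π p₁ p₂
  regular : IsRegularEpiCategory D
  epi_of_isPullback : ∀ {P X Y Z : D} {fst : P ⟶ X} {snd : P ⟶ Y} {f : X ⟶ Z} {g : Y ⟶ Z},
    IsPullback fst snd f g → Epi g → Epi fst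
  epi_tensorHom : ∀ {A₁ B₁ A₂ B₂ : D} (f : A₁ ⟶ B₁) (g : A₂ ⟶ B₂), Epi f → Epi g → Epi (f ⊗ₘ g)

/-- Type-level: the coequalizer of an equivalence relation has the relation as kernel pair. -/
lemma type_rel_of_cofork_eq {R X : Type w} (f g : R ⟶ X) (c : Cofork f g) (hc : IsColimit c)
    (he : Equivalence (TypeCat.Rel.ofPair f g)) (x x' : X) (h : c.π x = c.π x') :
    ∃ r, f r = x ∧ g r = x' := by
  let s : Setoid X := ⟨_, he⟩
  let c' : Cofork f g := Cofork.ofπ (TypeCat.ofHom (Quotient.mk s)) (by
    ext r
    exact Quotient.sound ⟨r, rfl, rfl⟩)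
  have hfac : c.π ≫ hc.desc c' = c'.π := hc.fac c' WalkingParallelPair.one
  have h1 : (hc.desc c') (c.π x) = (hc.desc c') (c.π x') := by rw [h]
  have h2 : Quotient.mk s x = Quotient.mk s x' := by
    have e1 := ConcreteCategory.congr_hom hfac x
    have e2 := ConcreteCategory.congr_hom hfac x'
    simp only [ConcreteCategory.comp_apply] at e1 e2
    rw [h1] at e1
    exact (e1.symm.trans e2 : _)
  exact Quotient.exact h2

section Sheaf
variable {C : Type u₁} [Category.{v₁} C] {J : GrothendieckTopology C} [HasSheafify J (Type w)]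
variable {R X : Sheaf J (Type w)} {p₁ p₂ : R ⟶ X}

lemma mono_lift_of_jointlyMono (e : JointlyMono₂ p₁ p₂) : Mono (lift p₁ p₂) :=
  ⟨fun g g' h => e.right_cancellation g g' (by simpa using congr($h ≫ fst _ _))
    (by simpa using congr($h ≫ snd _ _))⟩

lemma sections_inj (e : JointlyMono₂ p₁ p₂) (U : Cᵒᵖ) (r r' : R.obj.obj U)
    (h₁ : p₁.hom.app U r = p₁.hom.app U r') (h₂ : p₂.hom.app U r = p₂.hom.app U r') : r = r' := by
  haveI := mono_lift_of_jointlyMono e
  have hm : Mono (lift p₁ p₂).hom := (sheafToPresheaf J (Type w)).map_mono (lift p₁ p₂)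
  have := (NatTrans.mono_iff_mono_app _).1 hm U
  rw [mono_iff_injective] at this
  apply this
  exact Prod.ext h₁ h₂

/-- the functor of sections over `U` -/
noncomputable abbrev secF (J : GrothendieckTopology C) (U : Cᵒᵖ) : Sheaf J (Type w) ⥤ Type w :=
  sheafToPresheaf J (Type w) ⋙ (evaluation _ _).obj U

lemma sections_equivalence (e : EquivalenceRelation p₁ p₂) (U : Cᵒᵖ) :
    Equivalence (TypeCat.Rel.ofPair (p₁.hom.app U) (p₂.hom.app U)) := by
  haveI : JointlyMono₂ ((secF J U).map p₁) ((secF J U).map p₂) := by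
    constructor
    intro Y f g h₁ h₂
    ext y
    exact sections_inj e.toJointlyMono₂ U _ _ (ConcreteCategory.congr_hom h₁ y)
      (ConcreteCategory.congr_hom h₂ y)
  have e' : EquivalenceRelation ((secF J U).map p₁) ((secF J U).map p₂) :=
    { e.toReflexiveRelation.map (secF J U), e.toSymmetricRelation.map (secF J U),
      e.toTransitiveRelation.map (secF J U) with }
  exact TypeCat.equivalence_of_equivalenceRelation e'

/-- presheaf level: an equivalence relation of sheaves is the kernel pair of its presheaf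
coequalizer. -/
lemma presheaf_isKernelPair (e : EquivalenceRelation p₁ p₂) :
    IsKernelPair (coequalizer.π p₁.hom p₂.hom) p₁.hom p₂.hom := by
  refine IsPullback.of_forall_isPullback_app fun U => ?_
  rw [Types.isPullback_iff]
  refine ⟨?_, ?_, ?_⟩
  · rw [← NatTrans.comp_app, ← NatTrans.comp_app, coequalizer.condition]
  · rintro r r' ⟨h₁, h₂⟩
    exact sections_inj e.toJointlyMono₂ U r r' h₁ h₂
  · intro x x' h
    have hc : IsColimit (Cofork.ofπ ((coequalizer.π p₁.hom p₂.hom).app U)
        (by rw [← NatTrans.comp_app, ← NatTrans.comp_app, coequalizer.condition]) :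
        Cofork (p₁.hom.app U) (p₂.hom.app U)) :=
      isColimitCoforkMapOfIsColimit ((evaluation _ _).obj U) _
        (coequalizerIsCoequalizer p₁.hom p₂.hom)
    exact type_rel_of_cofork_eq _ _ _ hc (sections_equivalence e U) x x' h

/-- Equivalence relations in `Sheaf J (Type w)` are effective: this uses that sheafification is
left exact and that the presheaf quotient has the relation as kernel pair. -/
theorem isKernelPair_of_equivalenceRelation (e : EquivalenceRelation p₁ p₂)
    (c : Cofork p₁ p₂) (hc : IsColimit c) : IsKernelPair c.π p₁ p₂ := by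
  let a := presheafToSheaf J (Type w)
  let adj := sheafificationAdjunction J (Type w)
  let q := coequalizer.π p₁.hom p₂.hom
  have h1 : IsPullback (a.map p₁.hom) (a.map p₂.hom) (a.map q) (a.map q) :=
    (presheaf_isKernelPair e).map a
  let εR : a.obj R.obj ≅ R := asIso (adj.counit.app R)
  let εX : a.obj X.obj ≅ X := asIso (adj.counit.app X)
  let π' : X ⟶ a.obj (coequalizer p₁.hom p₂.hom) := εX.inv ≫ a.map q
  have n₁ : a.map p₁.hom ≫ εX.hom = εR.hom ≫ p₁ := adj.counit.naturality p₁
  have n₂ : a.map p₂.hom ≫ εX.hom = εR.hom ≫ p₂ := adj.counit.naturality p₂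
  have h2 : IsPullback p₁ p₂ π' π' :=
    IsPullback.of_iso h1 εR εX εX (Iso.refl _) n₁ n₂ (by simp [π']) (by simp [π'])
  have hπ' : IsColimit (Cofork.ofπ π' h2.w) :=
    Cofork.isColimitOfIsos (Cofork.ofπ (a.map q) h1.w)
      (isColimitCoforkMapOfIsColimit a _ (coequalizerIsCoequalizer p₁.hom p₂.hom))
      (Cofork.ofπ π' h2.w) εR εX (Iso.refl _) n₁.symm n₂.symm (by simp [π'])
  let i := hπ'.coconePointUniqueUpToIso hc
  have hi : π' ≫ i.hom = c.π := hπ'.comp_coconePointUniqueUpToIso_hom hc WalkingParallelPair.one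
  exact IsPullback.of_iso h2 (Iso.refl _) (Iso.refl _) (Iso.refl _) i (by simp) (by simp)
    (by simp [hi]) (by simp [hi])

/-- epimorphisms of sheaves of sets are stable under base change -/
lemma epi_of_isPullback {P X Y Z : Sheaf J (Type w)} {fst : P ⟶ X} {snd : P ⟶ Y} {f : X ⟶ Z}
    {g : Y ⟶ Z} (h : IsPullback fst snd f g) [Epi g] : Epi fst := by
  rw [← Sheaf.isLocallySurjective_iff_epi] at *
  constructor
  intro U x
  refine J.superset_covering ?_ (Presheaf.imageSieve_mem J g.hom (f.hom.app _ x))
  intro V k hk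
  obtain ⟨y, hy⟩ := hk
  have hp := h.map (secF J (Opposite.op V))
  obtain ⟨t, ht₁, ht₂⟩ := Types.exists_of_isPullback hp (X.obj.map k.op x) y (by
    have := NatTrans.naturality_apply f.hom k.op x
    exact this.trans hy.symm)
  exact ⟨t, ht₁⟩

lemma epi_tensorHom {A₁ B₁ A₂ B₂ : Sheaf J (Type w)} (f : A₁ ⟶ B₁) (g : A₂ ⟶ B₂)
    [Epi f] [Epi g] : Epi (f ⊗ₘ g) := by
  rw [← Sheaf.isLocallySurjective_iff_epi] at *
  constructor
  intro U b
  refine J.superset_covering ?_ (J.intersection_covering
    (Presheaf.imageSieve_mem J f.hom b.1) (Presheaf.imageSieve_mem J g.hom b.2))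
  rintro V k ⟨⟨a₁, h₁⟩, ⟨a₂, h₂⟩⟩
  exact ⟨(a₁, a₂), Prod.ext h₁ h₂⟩

instance goodQuot_sheaf : GoodQuot (Sheaf J (Type w)) where
  effective e c hc := isKernelPair_of_equivalenceRelation e c hc.some
  regular := inferInstance
  epi_of_isPullback h _ := epi_of_isPullback h
  epi_tensorHom f g _ _ := epi_tensorHom f g

end Sheaf

end Groth.Agent.H30.ShfQuot
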