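import Groth.Prelude.Def_SpSeq
import Mathlib.Algebra.Homology.SpectralObject.SpectralSequence
import Mathlib.Algebra.Homology.SpectralObject.EpiMono
import Mathlib.Order.Interval.Finset.Defs
import Mathlib.Data.Int.Interval

/-!
# Convergence of the `E₂` spectral sequence of a first quadrant spectral object

For `X : Abelian.SpectralObject C EInt` with `[X.IsFirstQuadrant]` we construct abutment data
(`SpSeq.Abutment`) for `X.E₂SpectralSequence` on the objects `H^n(⊥ ≤ ⊤)`, with finite filtrations.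
-/

set_option autoImplicit false

universe v u

open CategoryTheory Limits ComposableArrows

namespace Groth.Agent.H30.SpSeqConv

section AbelianLemma

variable {C : Type u} [Category.{v} C] [Abelian C]

/-- Abstract lemma: if `D ⟶ B ⟶ H` is exact, then the composite
`B ⟶ image b ⟶ image b / image (a ≫ b)` is a cokernel of `A ⊞ D ⟶ B`. -/
lemma exact_biprod_desc {A B D H : C} (a : A ⟶ B) (d : D ⟶ B) (b : B ⟶ H) (w : d ≫ b = 0)
    (hex : (ShortComplex.mk d b w).Exact)
    (hle : imageSubobject (a ≫ b) ≤ imageSubobject b) :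
    ∃ (w' : biprod.desc a d ≫ (factorThruImageSubobject b ≫
        cokernel.π ((imageSubobject (a ≫ b)).ofLE (imageSubobject b) hle)) = 0),
      (ShortComplex.mk _ _ w').Exact ∧ Epi (factorThruImageSubobject b ≫
        cokernel.π ((imageSubobject (a ≫ b)).ofLE (imageSubobject b) hle)) := by
  have h1 : a ≫ factorThruImageSubobject b =
      factorThruImageSubobject (a ≫ b) ≫ (imageSubobject (a ≫ b)).ofLE (imageSubobject b) hle := by
    rw [← cancel_mono (imageSubobject b).arrow]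
    simp
  have h2 : d ≫ factorThruImageSubobject b = 0 := by
    rw [← cancel_mono (imageSubobject b).arrow]
    simpa using w
  have w' : biprod.desc a d ≫ (factorThruImageSubobject b ≫
        cokernel.π ((imageSubobject (a ≫ b)).ofLE (imageSubobject b) hle)) = 0 := by
    ext
    · simp [reassoc_of% h1]
    · simp [reassoc_of% h2]
  refine ⟨w', ?_, inferInstance⟩
  rw [ShortComplex.exact_iff_exact_up_to_refinements]
  intro T x hx
  dsimp at x hx
  -- x ≫ e factors through ofLE after refinement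
  have hc : (ShortComplex.mk ((imageSubobject (a ≫ b)).ofLE (imageSubobject b) hle)
      (cokernel.π _) (cokernel.condition _)).Exact :=
    ShortComplex.exact_of_g_is_cokernel _ (cokernelIsCokernel _)
  obtain ⟨T₁, π₁, _, y, hy⟩ := hc.exact_up_to_refinements (x ≫ factorThruImageSubobject b)
    (by simpa using hx)
  dsimp at y hy
  obtain ⟨T₂, π₂, _, z, hz⟩ := surjective_up_to_refinements_of_epi
    (factorThruImageSubobject (a ≫ b)) y
  obtain ⟨T₃, π₃, _, t, ht⟩ := hex.exact_up_to_refinements (π₂ ≫ π₁ ≫ x - z ≫ a) (by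
    dsimp
    rw [Preadditive.sub_comp, sub_eq_zero]
    have := hy =≫ (imageSubobject b).arrow
    simp only [Category.assoc, imageSubobject_arrow_comp, Subobject.ofLE_arrow] at this
    rw [Category.assoc, Category.assoc, this, reassoc_of% hz]
    simp)
  dsimp at t ht
  refine ⟨T₃, π₃ ≫ π₂ ≫ π₁, inferInstance, biprod.lift (π₃ ≫ z) t, ?_⟩
  dsimp
  rw [biprod.lift_desc, Category.assoc, ← ht]
  simp

/-- Transport of a subquotient along equalities of subobjects. -/
noncomputable def subquotIso {X : C} {Z B Z' B' : Subobject X} (h : B ≤ Z) (hZ : Z = Z') (hB : B = B')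
    (h' : B' ≤ Z') : SpSeq.subquot Z B h ≅ SpSeq.subquot Z' B' h' := by
  subst hZ hB
  exact Iso.refl _

end AbelianLemma

section SpectralObject

open Abelian

variable {C : Type u} [Category.{v} C] [Abelian C] (X : SpectralObject C EInt)

/-- The abutment object `H^n(⊥ ≤ ⊤)`. -/
noncomputable abbrev abut (n : ℤ) : C := (X.H n).obj (mk₁ (homOfLE (bot_le : (⊥ : EInt) ≤ ⊤)))

/-- The map `H^n(⊥ ≤ j) ⟶ H^n(⊥ ≤ ⊤)`. -/
noncomputable abbrev toAbut (n : ℤ) (j : EInt) :
    (X.H n).obj (mk₁ (homOfLE (bot_le : (⊥ : EInt) ≤ j))) ⟶ abut X n :=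
  (X.H n).map (twoδ₂Toδ₁' ⊥ j ⊤ bot_le le_top)

/-- The map `H^n(⊥ ≤ i) ⟶ H^n(⊥ ≤ j)` for `i ≤ j`. -/
noncomputable abbrev trans (n : ℤ) (i j : EInt) (hij : i ≤ j) :
    (X.H n).obj (mk₁ (homOfLE (bot_le : (⊥ : EInt) ≤ i))) ⟶
      (X.H n).obj (mk₁ (homOfLE (bot_le : (⊥ : EInt) ≤ j))) :=
  (X.H n).map (twoδ₂Toδ₁' ⊥ i j bot_le hij)

lemma trans_toAbut (n : ℤ) (i j : EInt) (hij : i ≤ j) :
    trans X n i j hij ≫ toAbut X n j = toAbut X n i := by
  dsimp only [trans, toAbut]
  rw [← Functor.map_comp]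
  congr 1

/-- The filtration on the abutment: `F^p H^n` is the image of `H^n(⊥ ≤ n - p + 1)`. -/
noncomputable def fil (n : ℤ) (p : ℤ) : Subobject (abut X n) :=
  imageSubobject (toAbut X n ((n - p + 1 : ℤ) : EInt))

lemma fil_eq (n p j : ℤ) (hj : j = n - p + 1) :
    fil X n p = imageSubobject (toAbut X n (j : EInt)) := by
  subst hj; rfl

lemma imageSubobject_toAbut_le (n : ℤ) (i j : EInt) (hij : i ≤ j) :
    imageSubobject (toAbut X n i) ≤ imageSubobject (toAbut X n j) := by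
  rw [← trans_toAbut X n i j hij]
  exact imageSubobject_comp_le _ _

lemma fil_anti (n : ℤ) : Antitone (fil X n) := by
  intro p p' h
  apply imageSubobject_toAbut_le
  simp only [WithBotTop.coe_le_coe]
  lia

section

variable (n q : ℤ)

lemma coe_le_coe_succ : ((q : ℤ) : EInt) ≤ ((q + 1 : ℤ) : EInt) := by
  simp only [WithBotTop.coe_le_coe]; lia

/-- The limit term `E_∞^{n-q,q} = E^n(⊥ ≤ q ≤ q+1 ≤ ⊤)`. -/
noncomputable abbrev EInfty : C :=
  X.E (homOfLE (bot_le : (⊥ : EInt) ≤ (q : EInt))) (homOfLE (coe_le_coe_succ q))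
    (homOfLE (le_top : ((q + 1 : ℤ) : EInt) ≤ ⊤)) (n - 1) n (n + 1)

/-- `E_∞^{n-q,q}` identifies with the graded piece of the filtration on `H^n(⊥ ≤ ⊤)`. -/
noncomputable def EInftyIso :
    EInfty X n q ≅ SpSeq.subquot (imageSubobject (toAbut X n ((q + 1 : ℤ) : EInt)))
      (imageSubobject (toAbut X n (q : EInt)))
      (imageSubobject_toAbut_le X n _ _ (coe_le_coe_succ q)) := by
  let f₁ : (⊥ : EInt) ⟶ (q : EInt) := homOfLE bot_le
  let f₂ : (q : EInt) ⟶ ((q + 1 : ℤ) : EInt) := homOfLE (coe_le_coe_succ q)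
  let f₃ : ((q + 1 : ℤ) : EInt) ⟶ ⊤ := homOfLE le_top
  let f₁₂ : (⊥ : EInt) ⟶ ((q + 1 : ℤ) : EInt) := homOfLE bot_le
  let a := (X.H n).map (twoδ₂Toδ₁ f₁ f₂ f₁₂ rfl)
  let d := X.δ f₁₂ f₃ (n - 1) n
  let b := toAbut X n ((q + 1 : ℤ) : EInt)
  have hab : a ≫ b = toAbut X n (q : EInt) := trans_toAbut X n _ _ (coe_le_coe_succ q)
  have w : d ≫ b = 0 := X.zero₁ f₁₂ f₃ _ rfl (n - 1) n
  have hex : (ShortComplex.mk d b w).Exact := X.exact₁ f₁₂ f₃ _ rfl (n - 1) n
  have hle : imageSubobject (a ≫ b) ≤ imageSubobject b := imageSubobject_comp_le _ _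
  let h := exact_biprod_desc a d b w hex hle
  have h₁ := X.cokernelSequenceE_exact f₁ f₂ f₃ f₁₂ rfl (n - 1) n (n + 1)
  have : Epi (factorThruImageSubobject b ≫
        cokernel.π ((imageSubobject (a ≫ b)).ofLE (imageSubobject b) hle)) := h.choose_spec.2
  exact IsColimit.coconePointUniqueUpToIso h₁.gIsCokernel h.choose_spec.1.gIsCokernel ≪≫
    subquotIso hle rfl (by rw [hab]) _

end

section FirstQuadrant

variable [X.IsFirstQuadrant]

lemma isZero_page_of_fst_neg (r : ℤ) (hr : 2 ≤ r) (pq : ℤ × ℤ) (h : pq.1 < 0) :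
    IsZero ((X.E₂SpectralSequence.page r hr).X pq) :=
  SpectralObject.isZero_spectralSequence_page_X_of_isZero_H' _ _ _ hr _
    (X.isZero₂_of_isFirstQuadrant _ _ _ _ (by simp; lia))

lemma isZero_page_of_snd_neg (r : ℤ) (hr : 2 ≤ r) (pq : ℤ × ℤ) (h : pq.2 < 0) :
    IsZero ((X.E₂SpectralSequence.page r hr).X pq) :=
  SpectralObject.isZero_spectralSequence_page_X_of_isZero_H' _ _ _ hr _
    (X.isZero₁_of_isFirstQuadrant _ _ _ (by simp; lia) _)

/-- The page from which position `pq` is stationary. -/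
def rk (pq : ℤ × ℤ) : ℤ := max 2 (max (pq.2 + 2) (pq.1 + 1))

lemma two_le_rk (pq : ℤ × ℤ) : 2 ≤ rk pq := le_max_left _ _

lemma snd_le_rk (pq : ℤ × ℤ) : pq.2 + 2 ≤ rk pq := (le_max_left _ _).trans (le_max_right _ _)

lemma fst_le_rk (pq : ℤ × ℤ) : pq.1 + 1 ≤ rk pq := (le_max_right _ _).trans (le_max_right _ _)

lemma stationaryAt (pq : ℤ × ℤ) : SpSeq.StationaryAt X.E₂SpectralSequence pq (rk pq) := by
  refine ⟨two_le_rk pq, fun r' h₀ hr' => ⟨?_, ?_⟩⟩
  · apply (isZero_page_of_fst_neg X r' h₀ _ ?_).eq_of_src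
    have := fst_le_rk pq
    simp only [Prod.fst_sub]
    lia
  · apply (isZero_page_of_snd_neg X r' h₀ _ ?_).eq_of_tgt
    have := snd_le_rk pq
    simp only [Prod.snd_add]
    lia

/-- The objects of the page `r` identify with the limit term, for `r` large enough. -/
noncomputable def pageIso (r : ℤ) (hr : 2 ≤ r) (p q : ℤ) (hq : q + 2 ≤ r) (hp : p + 1 ≤ r) :
    (X.E₂SpectralSequence.page r hr).X (p, q) ≅ EInfty X (p + q) q :=
  X.spectralSequencePageXIso SpectralObject.coreE₂Cohomological r hr (p, q)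
      ((q - r + 2 : ℤ) : EInt) (q : EInt) ((q + 1 : ℤ) : EInt) ((q + r - 1 : ℤ) : EInt)
      rfl rfl rfl rfl (p + q - 1) (p + q) (p + q + 1) rfl ≪≫
    (X.isoMapFourδ₁Toδ₀' ⊥ ((q - r + 2 : ℤ) : EInt) (q : EInt) ((q + 1 : ℤ) : EInt)
      ((q + r - 1 : ℤ) : EInt) bot_le (by simp; lia) (coe_le_coe_succ q) (by simp; lia)
      (p + q - 1) (p + q) (p + q + 1)
      (X.isZero₁_of_isFirstQuadrant _ _ _ (by simp; lia) _)).symm ≪≫
    X.isoMapFourδ₄Toδ₃' ⊥ (q : EInt) ((q + 1 : ℤ) : EInt) ((q + r - 1 : ℤ) : EInt) ⊤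
      bot_le (coe_le_coe_succ q) (by simp; lia) le_top (p + q - 1) (p + q) (p + q + 1)
      (X.isZero₂_of_isFirstQuadrant _ _ _ _ (by simp; lia))

/-- The abutment of the `E₂` spectral sequence of a first quadrant spectral object. -/
noncomputable def abutment : SpSeq.Abutment X.E₂SpectralSequence (fun n => abut X n) where
  fil n := fil X n
  anti n := fil_anti X n
  rk := rk
  stat pq := stationaryAt X pq
  β pq :=
    pageIso X (rk pq) (two_le_rk pq) pq.1 pq.2 (snd_le_rk pq) (fst_le_rk pq) ≪≫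
      EInftyIso X (pq.1 + pq.2) pq.2 ≪≫
      subquotIso _ (fil_eq X _ _ _ (by lia)).symm (fil_eq X _ _ _ (by lia)).symm _

lemma imageSubobject_eq_top_of_epi {A B : C} (f : A ⟶ B) [Epi f] : imageSubobject f = ⊤ := by
  have : Epi (imageSubobject f).arrow :=
    epi_of_epi_fac (imageSubobject_arrow_comp f)
  have : IsIso (imageSubobject f).arrow := isIso_of_mono_of_epi _
  exact Subobject.eq_top_of_isIso_arrow _

lemma imageSubobject_eq_bot_of_eq_zero {A B : C} (f : A ⟶ B) (h : f = 0) :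
    imageSubobject f = ⊥ := by
  subst h
  exact imageSubobject_zero

lemma epi_toAbut (n : ℤ) (j : EInt) (hj : (n : EInt) < j) : Epi (toAbut X n j) :=
  (X.exact₂ (homOfLE (bot_le : (⊥ : EInt) ≤ j)) (homOfLE (le_top : j ≤ ⊤)) _ rfl n).epi_f
    ((X.isZero₂_of_isFirstQuadrant j ⊤ le_top n hj).eq_of_tgt _ _)

lemma fil_zero (n : ℤ) : fil X n 0 = ⊤ := by
  have := epi_toAbut X n ((n - 0 + 1 : ℤ) : EInt) (by simp)
  exact imageSubobject_eq_top_of_epi _

lemma fil_succ (n : ℤ) : fil X n (n + 1) = ⊥ := by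
  have : toAbut X n ((n - (n + 1) + 1 : ℤ) : EInt) = 0 :=
    (X.isZero₁_of_isFirstQuadrant ⊥ ((n - (n + 1) + 1 : ℤ) : EInt) bot_le (by simp) n).eq_of_src _ _
  exact imageSubobject_eq_bot_of_eq_zero _ this

lemma abutment_isFinite (n : ℤ) : (abutment X).IsFinite n :=
  ⟨⟨0, fil_zero X n⟩, ⟨n + 1, fil_succ X n⟩⟩

lemma isBounded : SpSeq.IsBounded X.E₂SpectralSequence := by
  intro n
  refine (Set.finite_Icc (0 : ℤ) n).subset ?_
  intro p hp
  by_contra h
  apply hp
  simp only [Set.mem_Icc, not_and_or, not_le] at h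
  rcases h with h | h
  · exact isZero_page_of_fst_neg X 2 le_rfl _ h
  · exact isZero_page_of_snd_neg X 2 le_rfl _ (by dsimp; lia)

/-- The `E₂` term of the spectral sequence is `H^{p+q}(q ≤ q+1)`. -/
noncomputable def pageTwoIso (p q : ℤ) :
    (X.E₂SpectralSequence.page 2 le_rfl).X (p, q) ≅
      (X.H (p + q)).obj (mk₁ (homOfLE (coe_le_coe_succ q))) :=
  X.spectralSequencePageXIso SpectralObject.coreE₂Cohomological 2 le_rfl (p, q)
      (q : EInt) (q : EInt) ((q + 1 : ℤ) : EInt) ((q + 1 : ℤ) : EInt)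
      (by simp [SpectralObject.coreE₂Cohomological]) rfl rfl
      (by simp [SpectralObject.coreE₂Cohomological]; lia) (p + q - 1) (p + q) (p + q + 1) rfl ≪≫
    X.EIsoH (homOfLE (coe_le_coe_succ q)) (p + q - 1) (p + q) (p + q + 1)

end FirstQuadrant

end SpectralObject

end Groth.Agent.H30.SpSeqConv
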