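import Groth.Agent.H30.RestrOpen
import Mathlib.CategoryTheory.Monad.Adjunction

/-!
# The unit `F ⟶ j_* j⁻¹ F` of an open immersion is an epimorphism for flasque `F`
-/

set_option autoImplicit false
universe u
open CategoryTheory Limits TopologicalSpace Opposite

namespace Groth.Agent.H30.UnitEpi

open Groth.Agent.H30.FlasqueAcyclic Groth.Agent.H30.SectSupp

variable {X : TopCat.{u}} (U : Opens X)

lemma map_functor (W : Opens (TopCat.of U)) :
    (Opens.map (CohCx.incl U)).obj ((hj U).functor.obj W) = W := by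
  ext x
  constructor
  · rintro ⟨y, hy, hxy⟩
    have : y = x := Subtype.ext hxy
    exact this ▸ hy
  · intro hx
    exact ⟨x, hx, rfl⟩

/-- `(j_* G)|_U ≅ G`. -/
noncomputable def pushRestrIso :
    CohTop.push (CohCx.incl U) ⋙ CohTop.restrFunctor U ≅ 𝟭 (CohTop.Ab (TopCat.of U)) :=
  NatIso.ofComponents (fun G =>
    (fullyFaithfulSheafToPresheaf _ _).preimageIso
      (NatIso.ofComponents (fun W => G.obj.mapIso (eqToIso (map_functor U W.unop).symm).op)
        (fun {W W'} i => by
          change G.obj.map _ ≫ G.obj.map _ = G.obj.map _ ≫ G.obj.map _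
          rw [← G.obj.map_comp, ← G.obj.map_comp]
          rfl)))
    (fun {G G'} φ => by
      apply (fullyFaithfulSheafToPresheaf _ _).map_injective
      rw [Functor.map_comp, Functor.map_comp, Functor.FullyFaithful.preimageIso_hom,
        Functor.FullyFaithful.preimageIso_hom, Functor.FullyFaithful.map_preimage,
        Functor.FullyFaithful.map_preimage]
      refine NatTrans.ext (funext fun W => ?_)
      exact (φ.hom.naturality _).symm)

/-- the adjunction `j⁻¹ ⊣ j_*`. -/
noncomputable abbrev adj := TopCat.Sheaf.pullbackPushforwardAdjunction AddCommGrpCat.{u} (CohCx.incl U)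

instance isIso_counit : IsIso (adj U).counit :=
  (adj U).isIso_counit_of_iso
    (Functor.isoWhiskerLeft (CohTop.push (CohCx.incl U)) (RestrOpen.restrIso U).symm ≪≫
      pushRestrIso U)

/-- `j⁻¹` of the unit is an isomorphism. -/
lemma isIso_pull_map_η (F : CohTop.Ab X) :
    IsIso ((CohTop.pull (CohCx.incl U)).map (η U F)) := by
  have h1 := (adj U).left_triangle_components F
  have h0 : IsIso (adj U).counit := isIso_counit U
  have h3 : IsIso ((adj U).counit.app ((CohTop.pull (CohCx.incl U)).obj F)) :=
    NatIso.isIso_app_of_isIso (adj U).counit _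
  let e := @asIso _ _ _ _ ((adj U).counit.app ((CohTop.pull (CohCx.incl U)).obj F)) h3
  have h2 : (CohTop.pull (CohCx.incl U)).map (η U F) = e.inv := (Iso.comp_hom_eq_id e).1 h1
  exact ⟨⟨e.hom, by rw [h2]; exact e.inv_hom_id, by rw [h2]; exact e.hom_inv_id⟩⟩

/-- The unit is bijective on sections over opens of `U`. -/
lemma η_bijective_of_le (F : CohTop.Ab X) (W'' : Opens (TopCat.of U)) :
    Function.Bijective ((η U F).hom.app (op ((hj U).functor.obj W''))).hom := by
  let e := Topology.IsOpenEmbedding.sheafPullbackIso AddCommGrpCat.{u} (hj U)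
  let F' : TopCat.Sheaf AddCommGrpCat.{u} X := F
  let G' : TopCat.Sheaf AddCommGrpCat.{u} X := G U F
  let η' : F' ⟶ G' := (adj U).unit.app F'
  have h1 : IsIso ((TopCat.Sheaf.pullback AddCommGrpCat.{u} (CohCx.incl U)).map η') :=
    isIso_pull_map_η U F
  have h2 : ((hj U).sheafPullback AddCommGrpCat.{u}).map η' =
      e.inv.app F' ≫ (TopCat.Sheaf.pullback AddCommGrpCat.{u} (CohCx.incl U)).map η' ≫
        e.hom.app G' := by
    rw [e.hom.naturality, Iso.inv_hom_id_app_assoc]
  have h3 : IsIso (((hj U).sheafPullback AddCommGrpCat.{u}).map η') := by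
    rw [h2]; infer_instance
  have h4 : IsIso ((sheafToPresheaf _ _).map (((hj U).sheafPullback AddCommGrpCat.{u}).map η')) :=
    @Functor.map_isIso _ _ _ _ _ _ (sheafToPresheaf _ _) _ h3
  have h5 : IsIso (((sheafToPresheaf _ _).map
      (((hj U).sheafPullback AddCommGrpCat.{u}).map η')).app (op W'')) :=
    NatIso.isIso_app_of_isIso _ _
  exact (ConcreteCategory.isIso_iff_bijective _).1 h5

/-- The unit is surjective on sections for a flasque sheaf. -/
lemma η_surjective (F : CohTop.Ab X) [TopCat.Sheaf.IsFlasque F] (W : Opens X) :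
    Function.Surjective ((η U F).hom.app (op W)).hom := by
  intro t
  -- restrict `t` to `W ∩ U`
  obtain ⟨s', hs'⟩ := (η_bijective_of_le U F ((Opens.map (CohCx.incl U)).obj W)).2
    (((G U F).obj.map (homOfLE (cap_le U W)).op).hom t)
  obtain ⟨s, hs⟩ := (AddCommGrpCat.epi_iff_surjective
    (F.obj.map (homOfLE (cap_le U W)).op)).1 (TopCat.Presheaf.IsFlasque.epi _) s'
  refine ⟨s, ?_⟩
  apply push_res_injective U _ W
  have nat := ConcreteCategory.congr_hom ((η U F).hom.naturality (homOfLE (cap_le U W)).op) s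
  have nat' : ((G U F).obj.map (homOfLE (cap_le U W)).op).hom (((η U F).hom.app (op W)).hom s) =
      ((η U F).hom.app (op (cap U W))).hom ((F.obj.map (homOfLE (cap_le U W)).op).hom s) :=
    nat.symm
  refine Eq.trans nat' ?_
  rw [hs]
  exact hs'

/-- The unit `F ⟶ j_* j⁻¹ F` is an epimorphism for a flasque sheaf. -/
lemma epi_η (F : CohTop.Ab X) [TopCat.Sheaf.IsFlasque F] : Epi (η U F) := by
  have : Sheaf.IsLocallySurjective (η U F) := by
    apply Presheaf.isLocallySurjective_of_surjective
    rintro ⟨W⟩
    exact η_surjective U F W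
  infer_instance

end Groth.Agent.H30.UnitEpi
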