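import Groth.Agent.H30.DerivedLES
import Groth.Agent.H30.UnitEpi
import Groth.Agent.H30.OpenShriek
import Groth.Agent.H30.DerivedComp

/-!
# `ℋ^1_Z = coker (F ⟶ j_* j⁻¹ F)` and `ℋ^{i+1}_Z ≅ R^i j_* ∘ j⁻¹` for `i ≥ 1`
-/

set_option autoImplicit false
universe u
open CategoryTheory Limits TopologicalSpace Opposite

namespace Groth.Agent.H30.SuppLES

open Groth.Agent.H30.FlasqueAcyclic Groth.Agent.H30.SectSupp Groth.Agent.H30.UnitEpi

variable {X : TopCat.{u}} (U : Opens X)

noncomputable instance pushAdditive : (CohTop.push (CohCx.incl U)).Additive := {}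

noncomputable instance pullAdditive : (CohTop.pull (CohCx.incl U)).Additive :=
  @Adjunction.left_adjoint_additive (CohTop.Ab X) (CohTop.Ab (TopCat.of U)) _ _ _ _
    (CohTop.pull (CohCx.incl U)) (CohTop.push (CohCx.incl U)) (adj U) (pushAdditive U)

/-- `j_* j⁻¹`. -/
noncomputable abbrev P : CohTop.Ab X ⥤ CohTop.Ab X :=
  CohTop.pull (CohCx.incl U) ⋙ CohTop.push (CohCx.incl U)

/-- the unit, as a natural transformation of endofunctors of `CohTop.Ab X`. -/
noncomputable def η' : 𝟭 (CohTop.Ab X) ⟶ P U := (adj U).unit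

lemma w : SectSupp.κ U ≫ η' U = 0 := by
  ext F : 2
  exact kernel.condition _

lemma shortExact (Q : CohTop.Ab X) (hQ : Injective Q) :
    (ShortComplex.mk ((SectSupp.κ U).app Q) ((η' U).app Q)
      (DerivedLES.w_app (SectSupp.κ U) (η' U) (w U) Q)).ShortExact := by
  have : TopCat.Sheaf.IsFlasque Q := Flasque.isFlasque_of_injective Q
  have h1 : Epi ((η' U).app Q) := epi_η U Q
  have h2 : Mono ((SectSupp.κ U).app Q) := inferInstanceAs (Mono (kernel.ι _))
  exact
    { exact := ShortComplex.exact_of_f_is_kernel _ (kernelIsKernel _)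
      mono_f := h2
      epi_g := h1 }

lemma isZero_id (n : ℕ) (F : CohTop.Ab X) :
    IsZero (((𝟭 (CohTop.Ab X)).rightDerived (n + 1)).obj F) :=
  ExactDerived.isZero_rightDerived_succ (𝟭 (CohTop.Ab X)) F n

noncomputable instance : PreservesFiniteLimits (P U) := by
  have : PreservesFiniteLimits (CohTop.pull (CohCx.incl U)) := preservesFiniteLimits_pull _
  have : PreservesFiniteLimits (CohTop.push (CohCx.incl U)) := inferInstance
  exact comp_preservesFiniteLimits _ _

/-- `ℋ^1_Z ≅ coker (𝟭 ⟶ j_* j⁻¹)`. -/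
theorem nonempty_HZsh_one_iso :
    Nonempty (LocCohZ.HZsh U 1 ≅ cokernel (η' U)) :=
  ⟨(DerivedLES.cokernelIso (SectSupp.κ U) (η' U) (w U) (shortExact U)
    (fun F => isZero_id 0 F)).symm⟩

/-- `ℋ^{i+1}_Z ≅ j⁻¹ ⋙ R^i j_*` for `i ≥ 1`. -/
theorem nonempty_HZsh_succ_iso (i : ℕ) (hi : 1 ≤ i) :
    Nonempty (LocCohZ.HZsh U (i + 1) ≅
      CohTop.pull (CohCx.incl U) ⋙ CohTop.Rpush (CohCx.incl U) i) := by
  obtain ⟨j, rfl⟩ : ∃ j, i = j + 1 := ⟨i - 1, by lia⟩
  have hT : ∀ Q : CohTop.Ab X, Injective Q → Injective ((CohTop.pull (CohCx.incl U)).obj Q) :=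
    fun Q _ => OpenShriek.injective_pull U Q
  have h1 : PreservesFiniteLimits (CohTop.pull (CohCx.incl U)) := preservesFiniteLimits_pull _
  have h0 : (CohTop.pull (CohCx.incl U)).IsLeftAdjoint := (adj U).isLeftAdjoint
  have h2 : PreservesFiniteColimits (CohTop.pull (CohCx.incl U)) := ⟨fun _ _ _ => inferInstance⟩
  exact ⟨(DerivedLES.δIso (SectSupp.κ U) (η' U) (w U) (shortExact U) (j + 1)
    (fun F => isZero_id j F) (fun F => isZero_id (j + 1) F)).symm ≪≫
    DerivedComp.rightDerivedCompIso (CohTop.pull (CohCx.incl U)) hT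
      (CohTop.push (CohCx.incl U)) (j + 1)⟩

end Groth.Agent.H30.SuppLES
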