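import Groth.Agent.H30.ExtSections
import Groth.Agent.H30.SectSuppV
import Groth.Agent.Lead.Coh.LocalTriv

/-!
# `ℋ^{M+1}_Z(F) = 0` if `H^M(V, F) → H^M(V ∩ U, F)` is surjective for all opens `V`
-/

set_option autoImplicit false
universe u
open CategoryTheory Limits TopologicalSpace Opposite Abelian

namespace Groth.Agent.H30.SuppVanish

open Groth.Agent.H30.FlasqueAcyclic Groth.Agent.H30.SectSupp Groth.Agent.H30.ExtSections

variable {X : TopCat.{u}}

/-- restriction of sections -/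
noncomputable abbrev ρ (G : CohTop.Ab X) {A B : Opens X} (h : A ≤ B) :
    G.obj.obj (op B) →+ G.obj.obj (op A) := (G.obj.map (homOfLE h).op).hom

lemma ρ_ρ (G : CohTop.Ab X) {A B C : Opens X} (h₁ : A ≤ B) (h₂ : B ≤ C) (x : G.obj.obj (op C)) :
    ρ G h₁ (ρ G h₂ x) = ρ G (h₁.trans h₂) x := by
  change (G.obj.map (homOfLE h₁).op).hom ((G.obj.map (homOfLE h₂).op).hom x) = _
  rw [← ConcreteCategory.comp_apply, ← G.obj.map_comp]
  rfl

lemma map_ρ {G G' : CohTop.Ab X} (g : G ⟶ G') {A B : Opens X} (h : A ≤ B) (x : G.obj.obj (op B)) :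
    (g.hom.app (op A)).hom (ρ G h x) = ρ G' h ((g.hom.app (op B)).hom x) :=
  ConcreteCategory.congr_hom (g.hom.naturality (homOfLE h).op) x

lemma cap_eq (U V : Opens X) : cap U V = V ⊓ U := by
  ext x
  exact mem_cap U V x

variable {F : CohTop.Ab X} (I : InjectiveResolution F)

/-- the differential on sections -/
noncomputable abbrev dS (W : Opens X) (n m : ℕ) :
    (I.cocomplex.X n).obj.obj (op W) →+ (I.cocomplex.X m).obj.obj (op W) :=
  ((I.cocomplex.d n m).hom.app (op W)).hom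

lemma dS_ρ {A B : Opens X} (h : A ≤ B) (n m : ℕ) (x : (I.cocomplex.X n).obj.obj (op B)) :
    dS I A n m (ρ _ h x) = ρ _ h (dS I B n m x) :=
  map_ρ (I.cocomplex.d n m) h x

lemma dS_dS (W : Opens X) (n m l : ℕ) (x : (I.cocomplex.X n).obj.obj (op W)) :
    dS I W m l (dS I W n m x) = 0 := by
  have h0 : I.cocomplex.d n m ≫ I.cocomplex.d m l = 0 := I.cocomplex.d_comp_d n m l
  have h1 : (I.cocomplex.d n m).hom.app (op W) ≫ (I.cocomplex.d m l).hom.app (op W) = 0 := by
    rw [← NatTrans.comp_app, ← ObjectProperty.FullSubcategory.comp_hom, h0]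
    rfl
  exact ConcreteCategory.congr_hom h1 x

/-- Correcting a cochain so that it vanishes on `V ∩ U`, keeping its coboundary. -/
lemma exists_correction (U V : Opens X) (M : ℕ)
    (hsurj : Function.Surjective (CohTop.res F M (inf_le_left : V ⊓ U ≤ V)))
    (t' : (I.cocomplex.X M).obj.obj (op V))
    (ht' : ρ _ (inf_le_left : V ⊓ U ≤ V) (dS I V M (M + 1) t') = 0) :
    ∃ t : (I.cocomplex.X M).obj.obj (op V), dS I V M (M + 1) t = dS I V M (M + 1) t' ∧
      ρ _ (inf_le_left : V ⊓ U ≤ V) t = 0 := by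
  have h : V ⊓ U ≤ V := inf_le_left
  have hc : dS I (V ⊓ U) M (M + 1) (ρ _ h t') = 0 := by rw [dS_ρ]; exact ht'
  obtain ⟨α, hα⟩ := hsurj (cls I (V ⊓ U) M (ρ _ h t') hc)
  obtain ⟨r, hr, rfl⟩ := cls_surjective I V M α
  rw [res_cls] at hα
  have hsub := cls_sub I (V ⊓ U) M (ρ _ h r) (ρ _ h t') (by rw [dS_ρ, hr, map_zero]) hc
  rw [hα, sub_self] at hsub
  have hsub' := hsub.symm
  cases M with
  | zero =>
    rw [cls_eq_zero_iff_zero] at hsub'
    refine ⟨t' - r, ?_, ?_⟩
    · rw [map_sub, hr, sub_zero]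
    · rw [map_sub, ← neg_sub, hsub', neg_zero]
  | succ p =>
    rw [cls_eq_zero_iff_succ] at hsub'
    obtain ⟨w, hw⟩ := hsub'
    have : TopCat.Sheaf.IsFlasque (I.cocomplex.X p) := Flasque.isFlasque_of_injective _
    obtain ⟨w', hw'⟩ := (AddCommGrpCat.epi_iff_surjective
      ((I.cocomplex.X p).obj.map (homOfLE h).op)).1 (TopCat.Presheaf.IsFlasque.epi _) w
    refine ⟨t' - r + dS I V p (p + 1) w', ?_, ?_⟩
    · rw [map_add, map_sub, hr, sub_zero, dS_dS, add_zero]
    · have e1 : ρ _ h (dS I V p (p + 1) w') = dS I (V ⊓ U) p (p + 1) w := by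
        rw [← dS_ρ]
        exact congrArg _ hw'
      have e2 : dS I (V ⊓ U) p (p + 1) w = ρ _ h r - ρ _ h t' := hw
      rw [map_add, map_sub, e1, e2]
      abel

/-- `ℋ^{M+1}_Z(F) = 0` if `H^M(V, F) → H^M(V ∩ U, F)` is surjective for all opens `V`. -/
theorem isZero_HZsh_succ (F : CohTop.Ab X) (U : Opens X) (M : ℕ)
    (hsurj : ∀ V : Opens X, Function.Surjective (CohTop.res F M (inf_le_left : V ⊓ U ≤ V))) :
    IsZero ((LocCohZ.HZsh U (M + 1)).obj F) := by
  let I := injectiveResolution F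
  let K := ((LocCohZ.sectSuppF U).mapHomologicalComplex _).obj I.cocomplex
  refine IsZero.of_iso ?_ (I.isoRightDerivedObj (LocCohZ.sectSuppF U) (M + 1))
  have hex : K.ExactAt (M + 1) := by
    rw [HomologicalComplex.exactAt_iff' K M (M + 1) (M + 2) (by simp) (by simp)]
    apply LocalExact.exact_of_locally
    intro V σ hσ y hy
    -- the underlying section of `I^{M+1}`
    let s : (I.cocomplex.X (M + 1)).obj.obj (op V) := ((k U _).hom.app (op V)).hom σ
    have hkd : ∀ (n m : ℕ) (W : Opens X) (τ : (CohCx.sectSupp U (I.cocomplex.X n)).obj.obj (op W)),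
        ((k U _).hom.app (op W)).hom
          ((((LocCohZ.sectSuppF U).map (I.cocomplex.d n m)).hom.app (op W)).hom τ) =
        dS I W n m (((k U _).hom.app (op W)).hom τ) := fun n m W τ =>
      ConcreteCategory.congr_hom (congrArg (fun φ => φ.hom.app (op W))
        (sectSuppF_map_k U (I.cocomplex.d n m))) τ
    have hs : dS I V (M + 1) (M + 1 + 1) s = 0 :=
      (hkd (M + 1) (M + 1 + 1) V σ).symm.trans ((congrArg _ hσ).trans (map_zero _))
    have hsU : ρ _ (inf_le_left : V ⊓ U ≤ V) s = 0 := by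
      have h1 := (η_eq_zero_iff U _ V s).1 (η_k U _ V σ)
      have h2 : V ⊓ U ≤ cap U V := le_of_eq (cap_eq U V).symm
      have h3 := ρ_ρ (I.cocomplex.X (M + 1)) h2 (cap_le U V) s
      rw [← h3]
      exact (congrArg _ h1).trans (map_zero _)
    -- the class of `s` dies locally
    have hcov := Groth.Agent.Lead.Coh.vanishingSieve_mem M F (U := V) (cls I V (M + 1) s hs)
    obtain ⟨V', f, hf, hyV'⟩ := hcov y hy
    have hV'V : V' ≤ V := leOfHom f
    have hres : CohTop.res F (M + 1) hV'V (cls I V (M + 1) s hs) = 0 := hf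
    obtain ⟨t', ht'⟩ := (cls_eq_zero_iff_succ I V' M _ _).1
      ((res_cls I hV'V (M + 1) s hs).symm.trans hres)
    -- correct `t'`
    have ht'U : ρ _ (inf_le_left : V' ⊓ U ≤ V') (dS I V' M (M + 1) t') = 0 := by
      have e : dS I V' M (M + 1) t' = ρ _ hV'V s := ht'
      rw [e, ρ_ρ]
      have h4 : V' ⊓ U ≤ V ⊓ U := inf_le_inf_right U hV'V
      rw [← ρ_ρ _ h4 (inf_le_left : V ⊓ U ≤ V) s, hsU, map_zero]
    obtain ⟨t, ht1, ht2⟩ := exists_correction I U V' M (hsurj V') t' ht'U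
    -- `t` is supported in `Z`
    have htη : ((η U _).hom.app (op V')).hom t = 0 := by
      refine (η_eq_zero_iff U _ V' t).2 ?_
      have h2 : cap U V' ≤ V' ⊓ U := le_of_eq (cap_eq U V')
      have h3 := ρ_ρ (I.cocomplex.X M) h2 (inf_le_left : V' ⊓ U ≤ V') t
      refine Eq.trans h3.symm ?_
      rw [ht2, map_zero]
    obtain ⟨τ, hτ⟩ := exists_k_eq U _ V' t htη
    refine ⟨V', hV'V, hyV', τ, ?_⟩
    apply k_injective U _ V'
    refine (hkd M (M + 1) V' τ).trans ?_
    rw [hτ, ht1]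
    refine Eq.trans ht' ?_
    exact (map_ρ (k U (I.cocomplex.X (M + 1))) hV'V σ).symm
  exact hex.isZero_homology

end Groth.Agent.H30.SuppVanish
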