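import Mathlib.CategoryTheory.Abelian.Basic
import Mathlib.CategoryTheory.Abelian.Exact
import Mathlib.Algebra.Homology.ShortComplex.ShortExact

set_option autoImplicit false
open CategoryTheory CategoryTheory.Limits
universe v u

namespace Groth.Agent.H30

variable {𝒜 : Type u} [Category.{v} 𝒜] [Abelian 𝒜]

/-- third isomorphism theorem: for monos `A ↪ B ↪ C`, `B/A ⟶ C/A ⟶ C/B` is short exact -/
theorem thirdIso_shortExact {A B C : 𝒜} (a : A ⟶ B) (b : B ⟶ C) (c : A ⟶ C) [Mono a] [Mono b]
    [Mono c] (i : A ⟶ A) (j : C ⟶ C) (hi : i = 𝟙 A) (hj : j = 𝟙 C)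
    (h₁ : a ≫ b = i ≫ c) (h₂ : c ≫ j = a ≫ b) :
    ∃ w : cokernel.map a c i b h₁ ≫ cokernel.map c b a j h₂ = 0,
      (ShortComplex.mk _ _ w).ShortExact := by
  subst hi hj
  have hc : a ≫ b = c := by simpa using h₁
  have w : cokernel.map a c (𝟙 A) b h₁ ≫ cokernel.map c b a (𝟙 C) h₂ = 0 := by
    apply (cancel_epi (cokernel.π a)).1
    simp
  refine ⟨w, ?_⟩
  have hepi : Epi (cokernel.map c b a (𝟙 C) h₂) := by
    have : Epi (cokernel.π c ≫ cokernel.map c b a (𝟙 C) h₂) := by
      rw [cokernel.π_desc, Category.id_comp]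
      infer_instance
    exact epi_of_epi (cokernel.π c) _
  have hmono : Mono (cokernel.map a c (𝟙 A) b h₁) := by
    rw [Preadditive.mono_iff_cancel_zero]
    intro K k hk
    -- pull back `k` along the epi `cokernel.π a`
    let p₁ : pullback k (cokernel.π a) ⟶ K := pullback.fst _ _
    let p₂ : pullback k (cokernel.π a) ⟶ B := pullback.snd _ _
    have hp : p₁ ≫ k = p₂ ≫ cokernel.π a := pullback.condition
    have hp₁ : Epi p₁ := inferInstance
    have h0 : (p₂ ≫ b) ≫ cokernel.π c = 0 := by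
      have : p₂ ≫ cokernel.π a ≫ cokernel.map a c (𝟙 A) b h₁ = 0 := by
        rw [← reassoc_of% hp, hk, comp_zero]
      simpa using this
    -- `c` is a kernel of its cokernel
    let q : pullback k (cokernel.π a) ⟶ A := Abelian.monoLift c (p₂ ≫ b) h0
    have hq : q ≫ c = p₂ ≫ b := Abelian.monoLift_comp c (p₂ ≫ b) h0
    have hq' : q ≫ a = p₂ := by
      apply (cancel_mono b).1
      rw [Category.assoc, hc, hq]
    have : p₁ ≫ k = 0 := by
      rw [hp, ← hq', Category.assoc, cokernel.condition, comp_zero]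
    exact (cancel_epi p₁).1 (by rw [this, comp_zero])
  refine ShortComplex.ShortExact.mk' ?_ hmono hepi
  -- exactness: `g` is a cokernel of `f`
  apply ShortComplex.exact_of_g_is_cokernel
  refine CokernelCofork.IsColimit.ofπ _ _ (fun {T} t ht => cokernel.desc b (cokernel.π c ≫ t) ?_)
    (fun {T} t ht => ?_) (fun {T} t ht m hm => ?_)
  · have : cokernel.π a ≫ cokernel.map a c (𝟙 A) b h₁ ≫ t = 0 := by
      rw [ht, comp_zero]
    simpa using this
  · apply (cancel_epi (cokernel.π c)).1
    simp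
  · apply (cancel_epi (cokernel.map c b a (𝟙 C) h₂)).1
    apply (cancel_epi (cokernel.π c)).1
    simp [← hm]

end Groth.Agent.H30
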